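import Mathlib
import Cfsg.Agent.StdRank2.Split
import Cfsg.Agent.ClassificationK.GTwoClosed

/-!
# Coprime action, elementwise

`commute_of`: an element `g` of odd order with `g x g⁻¹ = a x`, `a` a 2-element commuting with `g`, commutes
with `x`.  `commute_cyclic`: an element of odd order normalising a cyclic 2-group centralises it.
`mem_of_cop`: the relative version of `commute_of`.  `exists_index_two`: a fusion invariant subgroup of index
two of a Sylow 2-subgroup gives a normal subgroup of index two.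
-/

set_option autoImplicit false

namespace Cfsg.Agent.H301.Cop

open Subgroup
open Cfsg.Agent.Lib.GoldschmidtFusion
open scoped commutatorElement

variable {G : Type*} [Group G]

theorem conj_mul' (g x y : G) : g * (x * y) * g⁻¹ = (g * x * g⁻¹) * (g * y * g⁻¹) := by group

theorem conj_inv' (g x : G) : g * x⁻¹ * g⁻¹ = (g * x * g⁻¹)⁻¹ := by group

theorem conj_eq_iff_commute {g x : G} : g * x * g⁻¹ = x ↔ Commute g x := by
  rw [mul_inv_eq_iff_eq_mul]; rfl

theorem mem_normalizer_conj {A : Subgroup G} {g x : G} (hg : g ∈ normalizer (A : Set G)) (hx : x ∈ A) :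
    g * x * g⁻¹ ∈ A := (mem_normalizer_iff.1 hg x).1 hx

theorem mem_normalizer_conj' {A : Subgroup G} {g x : G} (hg : g ∈ normalizer (A : Set G)) (hx : x ∈ A) :
    g⁻¹ * x * g ∈ A := by
  have := mem_normalizer_conj (inv_mem hg) hx
  simpa using this

section Finite

variable [Finite G]

theorem mem_normalizer_of {A : Subgroup G} {g : G} (h : ∀ x ∈ A, g * x * g⁻¹ ∈ A) :
    g ∈ normalizer (A : Set G) := by
  rw [mem_normalizer_iff_map_conj]
  apply map_conj_le_of_le_normalizer
  rintro _ ⟨x, hx, rfl⟩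
  exact h x hx

theorem commute_of {P : Subgroup G} (hP : IsPGroup 2 P) {g x a : G} (hodd : Odd (orderOf g))
    (ha : a ∈ P) (h : g * x * g⁻¹ = a * x) (hc : Commute g a) : Commute g x := by
  have e : g * x * g⁻¹ * x⁻¹ = a := by rw [h]; group
  have := Cfsg.Agent.StdRank2.Split.commute_of_mem hP (x := x) (w := g) hodd (by rw [e]; exact ha)
    (by rw [e]; exact hc)
  exact this.symm

omit [Finite G] in
theorem isPGroup_zpowers {p : ℕ} [Fact p.Prime] {c : G} {n : ℕ} (hc : orderOf c = p ^ n) :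
    IsPGroup p (zpowers c) := IsPGroup.of_card (n := n) (by rw [Nat.card_zpowers, hc])

theorem commute_gen : ∀ (n : ℕ) {g c : G}, Odd (orderOf g) → orderOf c = 2 ^ n → g * c * g⁻¹ ∈ zpowers c →
    Commute g c
  | 0, g, c, _, hc, _ => by
    rw [pow_zero, orderOf_eq_one_iff] at hc
    rw [hc]; exact Commute.one_right g
  | n + 1, g, c, hg, hc, h => by
    have : Fact (Nat.Prime 2) := ⟨Nat.prime_two⟩
    obtain ⟨k, hk⟩ := mem_zpowers_iff.1 h
    have h2 : orderOf (c ^ 2) = 2 ^ n := by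
      rw [orderOf_pow_of_dvd two_ne_zero (by rw [hc, pow_succ]; exact Dvd.intro_left _ rfl), hc, pow_succ]
      simp
    have hsq : g * c ^ 2 * g⁻¹ ∈ zpowers (c ^ 2) := by
      refine mem_zpowers_iff.2 ⟨k, ?_⟩
      rw [pow_two, conj_mul', ← hk]
      exact (Commute.refl c).mul_zpow k
    have ih := commute_gen n hg h2 hsq
    rcases Int.even_or_odd' k with ⟨j, hj | hj⟩
    · -- `g c g⁻¹` commutes with `g`
      have h3 : Commute g (g * c * g⁻¹) := by
        rw [← hk, hj, zpow_mul]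
        have : c ^ (2 : ℤ) = c ^ 2 := by norm_cast
        rw [this]
        exact ih.zpow_right j
      rw [← conj_eq_iff_commute] at h3 ⊢
      have h4 := congrArg (fun t => g⁻¹ * t * g) h3
      simp only [mul_assoc, inv_mul_cancel_left, inv_mul_cancel, mul_one] at h4
      simpa only [mul_assoc] using h4
    · refine commute_of (isPGroup_zpowers (n := n) h2) hg (a := (c ^ 2) ^ j) (zpow_mem (mem_zpowers _) _) ?_
        (ih.zpow_right j)
      rw [← hk, hj, zpow_add, zpow_mul, zpow_one]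
      norm_cast

/-- An element of odd order normalising a cyclic 2-group centralises it. -/
theorem commute_cyclic {K : Subgroup G} (hK : IsPGroup 2 K) (hc : IsCyclic K) {g : G}
    (hodd : Odd (orderOf g)) (hg : ∀ k ∈ K, g * k * g⁻¹ ∈ K) {k : G} (hk : k ∈ K) : Commute g k := by
  obtain ⟨c, hcK, hgen⟩ : ∃ c ∈ K, K = zpowers c := by
    obtain ⟨c, hc⟩ := hc.exists_generator
    refine ⟨c, c.2, le_antisymm ?_ (zpowers_le.2 c.2)⟩
    intro x hx
    obtain ⟨j, hj⟩ := mem_zpowers_iff.1 (hc ⟨x, hx⟩)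
    refine mem_zpowers_iff.2 ⟨j, ?_⟩
    have := congrArg Subtype.val hj
    simpa using this
  obtain ⟨n, hn⟩ := IsPGroup.iff_orderOf.1 hK ⟨c, hcK⟩
  rw [Subgroup.orderOf_mk] at hn
  have h := commute_gen n hodd hn (by rw [← hgen]; exact hg c hcK)
  rw [hgen] at hk
  obtain ⟨j, rfl⟩ := mem_zpowers_iff.1 hk
  exact h.zpow_right j

omit [Finite G] in
theorem mul_pow_mem {N : Subgroup G} {n v : G} (hn : n ∈ N) (hv : v ∈ normalizer (N : Set G)) (i : ℕ) :
    ∃ ν ∈ N, (n * v) ^ i = ν * v ^ i := by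
  induction i with
  | zero => exact ⟨1, one_mem _, by simp⟩
  | succ i ih =>
    obtain ⟨ν, hν, e⟩ := ih
    refine ⟨ν * (v ^ i * n * (v ^ i)⁻¹), mul_mem hν (mem_normalizer_conj (pow_mem hv i) hn), ?_⟩
    rw [pow_succ, e, pow_succ]
    group

omit [Finite G] in
/-- relative version of `commute_of` -/
theorem mem_of_cop {N : Subgroup G} {g w v : G} (hg : g ∈ normalizer (N : Set G))
    (hv : v ∈ normalizer (N : Set G)) (hodd : Odd (orderOf g)) (h : g * w * g⁻¹ = v * w)
    (h2 : g * v * g⁻¹ * v⁻¹ ∈ N) (hp : ∃ k : ℕ, v ^ 2 ^ k ∈ N) : v ∈ N := by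
  have key : ∀ i : ℕ, ∃ ν ∈ N, g ^ i * w * (g ^ i)⁻¹ = ν * v ^ i * w := by
    intro i
    induction i with
    | zero => exact ⟨1, one_mem _, by simp⟩
    | succ i ih =>
      obtain ⟨ν, hν, e⟩ := ih
      obtain ⟨μ, hμ, e2⟩ := mul_pow_mem h2 hv i
      have e3 : g * v ^ i * g⁻¹ = μ * v ^ i := by
        rw [← e2, ← conj_pow]
        congr 1
        group
      refine ⟨(g * ν * g⁻¹) * μ, mul_mem (mem_normalizer_conj hg hν) hμ, ?_⟩
      have e4 : g ^ (i + 1) * w * (g ^ (i + 1))⁻¹ = g * (g ^ i * w * (g ^ i)⁻¹) * g⁻¹ := by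
        rw [pow_succ']; group
      rw [e4, e, conj_mul', conj_mul', e3, h, pow_succ]
      group
  obtain ⟨ν, hν, e⟩ := key (orderOf g)
  rw [pow_orderOf_eq_one] at e
  have e1 : v ^ orderOf g = ν⁻¹ := by
    have : ν * v ^ orderOf g = 1 := by
      have e5 := congrArg (fun t => t * w⁻¹) e
      simp only [one_mul, inv_one, mul_one, mul_inv_cancel, mul_assoc] at e5
      exact e5.symm
    exact eq_inv_of_mul_eq_one_right this
  obtain ⟨k, hk⟩ := hp
  exact Cfsg.Agent.StdRank2.Split.mem_of_pow_mem (Nat.Coprime.pow_right k (Nat.coprime_two_right.2 hodd))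
    (by rw [e1]; exact inv_mem hν) hk

omit [Finite G] in
/-- `g` odd, commuting with `g ^ 2`-conjugation fixed elements. -/
theorem commute_of_sq {g x : G} (hodd : Odd (orderOf g)) (h : Commute (g ^ 2) x) : Commute g x := by
  obtain ⟨m, hm⟩ := hodd
  have e : g = (g ^ 2) ^ (m + 1) := by
    rw [← pow_mul]
    have : 2 * (m + 1) = orderOf g + 1 := by omega
    rw [this, pow_succ, pow_orderOf_eq_one, one_mul]
  rw [e]
  exact h.pow_left _

omit [Finite G] in
theorem mem_of_sq {K : Subgroup G} {g : G} (hodd : Odd (orderOf g)) (h : g ^ 2 ∈ K) : g ∈ K := by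
  obtain ⟨m, hm⟩ := hodd
  have e : g = (g ^ 2) ^ (m + 1) := by
    rw [← pow_mul]
    have : 2 * (m + 1) = orderOf g + 1 := by omega
    rw [this, pow_succ, pow_orderOf_eq_one, one_mul]
  rw [e]
  exact pow_mem h _

omit [Finite G] in
theorem odd_conj {g h : G} (hodd : Odd (orderOf g)) : Odd (orderOf (h * g * h⁻¹)) := by
  have : orderOf (h * g * h⁻¹) = orderOf g := by
    rw [← MulAut.conj_apply]
    exact MulEquiv.orderOf_eq (MulAut.conj h) g
  rwa [this]

omit [Finite G] in
theorem odd_pow {g : G} (hodd : Odd (orderOf g)) (i : ℕ) : Odd (orderOf (g ^ i)) :=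
  Odd.of_dvd_nat hodd (orderOf_pow_dvd i)

omit [Finite G] in
theorem odd_inv {g : G} (hodd : Odd (orderOf g)) : Odd (orderOf g⁻¹) := by rwa [orderOf_inv]

end Finite

/-! ### Transfer -/

/-- A fusion invariant subgroup of index two of a Sylow 2-subgroup gives a normal subgroup of index two. -/
theorem exists_index_two [Finite G] (P : Sylow 2 G) (K : Subgroup G) (hK : K ≤ P)
    (hi : K.relIndex (P : Subgroup G) = 2)
    (hst : ∀ x ∈ (P : Subgroup G), ∀ g : G, g * x * g⁻¹ ∈ (P : Subgroup G) → g * x * g⁻¹ * x⁻¹ ∈ K) :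
    ∃ N : Subgroup G, N.Normal ∧ N.index = 2 := by
  have : Fact (Nat.Prime 2) := ⟨Nat.prime_two⟩
  have hfoc : (P : Subgroup G).focalSubgroup ≤ K := by
    rw [focalSubgroup_def, closure_le]
    rintro _ ⟨hP, x, hx, u, rfl⟩
    have e : u * x⁻¹ * u⁻¹ * (x⁻¹)⁻¹ = x⁻¹ * ⁅x, u⁆ * x := by
      rw [commutatorElement_def]; group
    have h1 : u * x⁻¹ * u⁻¹ ∈ (P : Subgroup G) := by
      have : u * x⁻¹ * u⁻¹ = x⁻¹ * ⁅x, u⁆ := by rw [commutatorElement_def]; group
      rw [this]; exact mul_mem (inv_mem hx) hP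
    have h2 := hst x⁻¹ (inv_mem hx) u h1
    have h3 : x⁻¹ * ⁅x, u⁆ * x ∈ K := by rw [← e]; exact h2
    -- `K` is normal in `P`
    have hn : (K.subgroupOf (P : Subgroup G)).Normal := Subgroup.normal_of_index_eq_two hi
    have h4 := hn.conj_mem ⟨x⁻¹ * ⁅x, u⁆ * x, mul_mem (mul_mem (inv_mem hx) hP) hx⟩ h3 ⟨x, hx⟩
    have h5 : x * (x⁻¹ * ⁅x, u⁆ * x) * x⁻¹ ∈ K := h4
    have e2 : x * (x⁻¹ * ⁅x, u⁆ * x) * x⁻¹ = ⁅x, u⁆ := by group
    rwa [e2] at h5
  have hfo : (P : Subgroup G).focalSubgroupOf ≤ K.subgroupOf (P : Subgroup G) := by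
    intro x hx
    exact hfoc hx
  let q := QuotientGroup.mk' (P : Subgroup G).focalSubgroupOf
  have hq : Function.Surjective q := QuotientGroup.mk'_surjective _
  let L : Subgroup ((P : Subgroup G) ⧸ (P : Subgroup G).focalSubgroupOf) := (K.subgroupOf (P : Subgroup G)).map q
  have hLi : L.index = 2 := by
    have h1 : (L.comap q).index = L.index := index_comap_of_surjective _ hq
    have h2 : L.comap q = K.subgroupOf (P : Subgroup G) := by
      rw [comap_map_eq, QuotientGroup.ker_mk']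
      exact sup_eq_left.2 hfo
    rw [← h1, h2]
    exact hi
  have hs : Function.Surjective (P : Subgroup G).transferFocal := transferFocal_surjective P
  refine ⟨L.comap (P : Subgroup G).transferFocal, ?_, ?_⟩
  · have : L.Normal := Subgroup.normal_of_index_eq_two hLi
    exact this.comap _
  · rw [index_comap_of_surjective _ hs, hLi]

end Cfsg.Agent.H301.Cop
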