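import Mathlib
import Cfsg.Agent.H301.Cop

/-!
# Groups of maximal class with a cyclic subgroup of index two, elementwise

`MQ R C z`: `C` is a cyclic 2-group of index at most two in `R`, `z` is its involution and the elements of `R`
outside `C` act on `C` as the inversion, up to `z`.  `Full R C z`: moreover `R` is dihedral of order at least 8,
semidihedral, or quaternion of order at least 16.  `Triv`: elements of odd order acting on `R × Z`, `Z` abelian,
act trivially modulo `⟨z⟩ × Z` if `R` is full.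
-/

set_option autoImplicit false

namespace Cfsg.Agent.H301.Data

open Subgroup
open Cfsg.Agent.Lib.GoldschmidtFusion
open Cfsg.Agent.H301.Cop
open scoped commutatorElement

variable {G : Type*} [Group G]

/-- the product of two commuting subgroups -/
def mulS (A B : Subgroup G) (h : ∀ a ∈ A, ∀ b ∈ B, a * b = b * a) : Subgroup G where
  carrier := {x | ∃ a ∈ A, ∃ b ∈ B, x = a * b}
  one_mem' := ⟨1, one_mem _, 1, one_mem _, by simp⟩
  mul_mem' := by
    rintro _ _ ⟨a, ha, b, hb, rfl⟩ ⟨a', ha', b', hb', rfl⟩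
    refine ⟨a * a', mul_mem ha ha', b * b', mul_mem hb hb', ?_⟩
    have := h a' ha' b hb
    calc a * b * (a' * b') = a * (b * a') * b' := by group
      _ = a * (a' * b) * b' := by rw [this]
      _ = _ := by group
  inv_mem' := by
    rintro _ ⟨a, ha, b, hb, rfl⟩
    refine ⟨a⁻¹, inv_mem ha, b⁻¹, inv_mem hb, ?_⟩
    rw [mul_inv_rev]
    exact (h _ (inv_mem ha) _ (inv_mem hb)).symm

theorem mem_mulS {A B : Subgroup G} {h : ∀ a ∈ A, ∀ b ∈ B, a * b = b * a} {x : G} :
    x ∈ mulS A B h ↔ ∃ a ∈ A, ∃ b ∈ B, x = a * b := Iff.rfl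

theorem mem_zp {z x : G} (hz : z * z = 1) : x ∈ zpowers z ↔ x = 1 ∨ x = z := by
  constructor
  · intro h
    obtain ⟨k, rfl⟩ := mem_zpowers_iff.1 h
    rcases Int.even_or_odd' k with ⟨j, hj | hj⟩
    · left
      rw [hj, zpow_mul]
      have : z ^ (2 : ℤ) = 1 := by rw [zpow_two, hz]
      rw [this, one_zpow]
    · right
      rw [hj, zpow_add, zpow_mul]
      have : z ^ (2 : ℤ) = 1 := by rw [zpow_two, hz]
      rw [this, one_zpow, zpow_one, one_mul]
  · rintro (rfl | rfl)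
    · exact one_mem _
    · exact mem_zpowers _

/-- see the module docstring -/
structure MQ (R C : Subgroup G) (z : G) : Prop where
  le : C ≤ R
  cyc : IsCyclic C
  two : IsPGroup 2 R
  zC : z ∈ C
  z1 : z ≠ 1
  zz : z * z = 1
  uniq : ∀ a ∈ C, a * a = 1 → a = 1 ∨ a = z
  out : ∀ w ∈ R, w ∉ C → w * w = 1 ∨ w * w = z
  inv : ∀ w ∈ R, w ∉ C → ∀ a ∈ C, w * a * w⁻¹ = a⁻¹ ∨ w * a * w⁻¹ = a⁻¹ * z
  inv4 : ∀ w ∈ R, w ∉ C → ∀ a ∈ C, a * a = z → w * a * w⁻¹ = a⁻¹
  idx : ∀ w ∈ R, w ∉ C → ∀ w' ∈ R, w' ∉ C → w * w' ∈ C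

namespace MQ

variable {R C : Subgroup G} {z : G}

theorem zR (h : MQ R C z) : z ∈ R := h.le h.zC

theorem comm (h : MQ R C z) {a b : G} (ha : a ∈ C) (hb : b ∈ C) : a * b = b * a := by
  have := h.cyc
  have h1 : (⟨a, ha⟩ : C) * ⟨b, hb⟩ = ⟨b, hb⟩ * ⟨a, ha⟩ := IsCyclic.commGroup.mul_comm _ _
  exact congrArg Subtype.val h1

theorem sub (h : MQ R C z) {R₁ : Subgroup G} (h1 : R₁ ≤ R) (hz : z ∈ R₁) : MQ R₁ (C ⊓ R₁) z where
  le := inf_le_right
  cyc := by
    have := h.cyc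
    exact isCyclic_of_injective (Subgroup.inclusion (inf_le_left : C ⊓ R₁ ≤ C)) (Subgroup.inclusion_injective _)
  two := h.two.to_le h1
  zC := ⟨h.zC, hz⟩
  z1 := h.z1
  zz := h.zz
  uniq a ha := h.uniq a ha.1
  out w hw hw' := h.out w (h1 hw) fun h2 => hw' ⟨h2, hw⟩
  inv w hw hw' a ha := h.inv w (h1 hw) (fun h2 => hw' ⟨h2, hw⟩) a ha.1
  inv4 w hw hw' a ha := h.inv4 w (h1 hw) (fun h2 => hw' ⟨h2, hw⟩) a ha.1
  idx w hw hw' v hv hv' :=
    ⟨h.idx w (h1 hw) (fun h2 => hw' ⟨h2, hw⟩) v (h1 hv) (fun h2 => hv' ⟨h2, hv⟩), mul_mem hw hv⟩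

/-- `z` is central in `R` -/
theorem zcen (h : MQ R C z) {r : G} (hr : r ∈ R) : r * z = z * r := by
  by_cases hrC : r ∈ C
  · exact h.comm hrC h.zC
  · have hz' : z⁻¹ = z := inv_eq_of_mul_eq_one_left h.zz
    rcases h.inv r hr hrC z h.zC with e | e
    · rw [hz'] at e
      exact mul_inv_eq_iff_eq_mul.1 e
    · exfalso
      rw [hz', h.zz] at e
      have : z = 1 := by
        have := congrArg (fun t => r⁻¹ * t * r) e
        simpa [mul_assoc] using this
      exact h.z1 this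

theorem sq_comm (h : MQ R C z) {w a : G} (hw : w ∈ R) (hw' : w ∉ C) (ha : a ∈ C) :
    w * (a * a) * w⁻¹ = (a * a)⁻¹ := by
  have e1 : w * (a * a) * w⁻¹ = (w * a * w⁻¹) * (w * a * w⁻¹) := by group
  rw [e1]
  rcases h.inv w hw hw' a ha with e | e
  · rw [e]; group
  · rw [e]
    have : a⁻¹ * z = z * a⁻¹ := h.comm (inv_mem ha) h.zC
    calc a⁻¹ * z * (a⁻¹ * z) = a⁻¹ * z * (z * a⁻¹) := by rw [← this]
      _ = a⁻¹ * (z * z) * a⁻¹ := by group
      _ = (a * a)⁻¹ := by rw [h.zz]; group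

/-- commutators lie in `C` -/
theorem commutator_mem (h : MQ R C z) {r s : G} (hr : r ∈ R) (hs : s ∈ R) : r * s * r⁻¹ * s⁻¹ ∈ C := by
  by_cases hrC : r ∈ C
  · by_cases hsC : s ∈ C
    · exact mul_mem (mul_mem (mul_mem hrC hsC) (inv_mem hrC)) (inv_mem hsC)
    · have e : r * s * r⁻¹ * s⁻¹ = r * (s * r⁻¹ * s⁻¹) := by group
      rw [e]
      refine mul_mem hrC ?_
      rcases h.inv s hs hsC r⁻¹ (inv_mem hrC) with e | e
      · rw [e]; simpa using hrC
      · rw [e]; exact mul_mem (by simpa using hrC) h.zC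
  · by_cases hsC : s ∈ C
    · refine mul_mem ?_ (inv_mem hsC)
      rcases h.inv r hr hrC s hsC with e | e
      · rw [e]; exact inv_mem hsC
      · rw [e]; exact mul_mem (inv_mem hsC) h.zC
    · have e : r * s * r⁻¹ * s⁻¹ = (r * s) * (s * r)⁻¹ := by group
      rw [e]
      exact mul_mem (h.idx r hr hrC s hs hsC) (inv_mem (h.idx s hs hsC r hr hrC))

/-- if `a, b ∈ R` do not commute, every element of `R` commuting with both lies in `C` -/
theorem mem_of_commute (h : MQ R C z) {a b v : G} (ha : a ∈ R) (hb : b ∈ R) (hv : v ∈ R)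
    (hab : a * b ≠ b * a) (hva : v * a = a * v) (hvb : v * b = b * v) : v ∈ C := by
  by_contra hvC
  have key : ∀ x ∈ R, v * x = x * v → x ∈ C ∨ ∃ c ∈ C, v * c = c * v ∧ x = v * c := by
    intro x hx hvx
    by_cases hxC : x ∈ C
    · exact Or.inl hxC
    · right
      refine ⟨v⁻¹ * x, h.idx _ (inv_mem hv) (fun h' => hvC (by simpa using inv_mem h')) x hx hxC, ?_, by group⟩
      calc v * (v⁻¹ * x) = x := by group
        _ = v⁻¹ * (v * x) := by group
        _ = v⁻¹ * (x * v) := by rw [hvx]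
        _ = v⁻¹ * x * v := by group
  apply hab
  rcases key a ha hva with h1 | ⟨c, hc, hvc, rfl⟩ <;> rcases key b hb hvb with h2 | ⟨d, hd, hvd, rfl⟩
  · exact h.comm h1 h2
  · have := h.comm h1 hd
    calc a * (v * d) = (a * v) * d := by group
      _ = v * (a * d) := by rw [← hva]; group
      _ = v * d * a := by rw [this]; group
  · have := h.comm hc h2
    calc v * c * b = v * (c * b) := by group
      _ = (v * b) * c := by rw [this]; group
      _ = b * (v * c) := by rw [hvb]; group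
  · have := h.comm hc hd
    calc v * c * (v * d) = v * (c * v) * d := by group
      _ = v * v * (c * d) := by rw [← hvc]; group
      _ = v * (v * d) * c := by rw [this]; group
      _ = v * d * (v * c) := by nth_rewrite 1 [hvd]; group

/-- an element of `C` with square `z` is not centralized by the elements outside `C` -/
theorem mem_of_commute_sqrt (h : MQ R C z) {i v : G} (hi : i ∈ C) (hii : i * i = z) (hv : v ∈ R)
    (hc : v * i = i * v) : v ∈ C := by
  by_contra hvC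
  have e := h.inv4 v hv hvC i hi hii
  rw [hc, mul_inv_cancel_right] at e
  have : i * i = 1 := by
    nth_rewrite 1 [e]
    group
  rw [hii] at this
  exact h.z1 this

/-- an element with nontrivial square has a power with square `z` -/
theorem exists_sqrt [Finite G] (h : MQ R C z) {a : G} (ha : a ∈ C) (haa : a * a ≠ 1) : ∃ i ∈ C, i * i = z := by
  have : Fact (Nat.Prime 2) := ⟨Nat.prime_two⟩
  obtain ⟨n, hn⟩ := IsPGroup.iff_orderOf.1 (h.two.to_le h.le) ⟨a, ha⟩
  rw [Subgroup.orderOf_mk] at hn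
  have hn2 : 2 ≤ n := by
    by_contra hcon
    have h3 : n = 0 ∨ n = 1 := by omega
    rcases h3 with rfl | rfl
    · rw [pow_zero, orderOf_eq_one_iff] at hn
      exact haa (by rw [hn]; simp)
    · apply haa
      rw [← pow_two, ← pow_one 2, ← hn, pow_orderOf_eq_one]
  obtain ⟨m, rfl⟩ : ∃ m, n = m + 2 := ⟨n - 2, by omega⟩
  refine ⟨a ^ 2 ^ m, pow_mem ha _, ?_⟩
  have e1 : a ^ 2 ^ m * a ^ 2 ^ m = a ^ 2 ^ (m + 1) := by rw [← pow_add, pow_succ, mul_two]
  have e2 : a ^ 2 ^ (m + 1) * a ^ 2 ^ (m + 1) = 1 := by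
    rw [← pow_add, ← mul_two, ← pow_succ]
    have : m + 1 + 1 = m + 2 := rfl
    rw [this, ← hn, pow_orderOf_eq_one]
  rw [e1]
  rcases h.uniq _ (pow_mem ha _) e2 with e3 | e3
  · exfalso
    have := orderOf_dvd_of_pow_eq_one e3
    rw [hn] at this
    have := Nat.le_of_dvd (by positivity) this
    exact absurd this (not_le.2 (Nat.pow_lt_pow_right (by norm_num) (by omega)))
  · exact e3

end MQ

/-- dihedral of order at least 8, semidihedral, or quaternion of order at least 16 -/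
structure Full (R C : Subgroup G) (z : G) : Prop extends MQ R C z where
  w0 : ∃ w ∈ R, w ∉ C
  big : (∃ a ∈ C, a * a * (a * a) ≠ 1) ∨ ((∃ a ∈ C, a * a = z) ∧ ∀ w ∈ R, w ∉ C → w * w = 1)

namespace Full

variable {R C : Subgroup G} {z : G}

theorem sqrt [Finite G] (h : Full R C z) : ∃ i ∈ C, i * i = z := by
  rcases h.big with ⟨a, ha, haa⟩ | ⟨h1, -⟩
  · exact h.toMQ.exists_sqrt ha (fun h' => haa (by rw [h']; simp))
  · exact h1

/-- the centre -/
theorem mem_center [Finite G] (h : Full R C z) {r : G} (hr : r ∈ R) (hc : ∀ s ∈ R, r * s = s * r) :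
    r = 1 ∨ r = z := by
  obtain ⟨i, hi, hii⟩ := h.sqrt
  obtain ⟨w, hw, hwC⟩ := h.w0
  have hrC := h.toMQ.mem_of_commute_sqrt hi hii hr (hc i (h.le hi))
  have e : w * r * w⁻¹ = r := by rw [← hc w hw]; group
  have hrr : r * r = 1 := by
    rcases h.inv w hw hwC r hrC with e1 | e1
    · rw [e] at e1
      nth_rewrite 1 [e1]; group
    · rw [e] at e1
      have e2 : r * r = z := by
        nth_rewrite 1 [e1]
        have := h.comm (inv_mem hrC) h.zC
        rw [this]; group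
      have e3 := h.inv4 w hw hwC r hrC e2
      rw [e] at e3
      nth_rewrite 1 [e3]; group
  exact h.uniq r hrC hrr

end Full

/-- the data for an element of odd order acting on `Y = R × Z` -/
structure Triv (R C Z Y : Subgroup G) (z g : G) : Prop where
  full : Full R C z
  two : IsPGroup 2 Y
  zc : ∀ a ∈ Z, ∀ b ∈ Z, a * b = b * a
  rz : ∀ r ∈ R, ∀ a ∈ Z, r * a = a * r
  inf : ∀ x ∈ R, x ∈ Z → x = 1
  mem : ∀ x, x ∈ Y ↔ ∃ r ∈ R, ∃ a ∈ Z, x = r * a
  gn : g ∈ normalizer (Y : Set G)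
  odd : Odd (orderOf g)

namespace Triv

variable {R C Z Y : Subgroup G} {z g : G}

theorem R_le (h : Triv R C Z Y z g) : R ≤ Y := fun r hr => (h.mem r).2 ⟨r, hr, 1, one_mem _, by simp⟩

theorem Z_le (h : Triv R C Z Y z g) : Z ≤ Y := fun r hr => (h.mem r).2 ⟨1, one_mem _, r, hr, by simp⟩

theorem inj (h : Triv R C Z Y z g) {r s a b : G} (hr : r ∈ R) (hs : s ∈ R) (ha : a ∈ Z) (hb : b ∈ Z)
    (e : r * a = s * b) : r = s ∧ a = b := by
  have e1 : s⁻¹ * r = b * a⁻¹ := by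
    calc s⁻¹ * r = s⁻¹ * (r * a) * a⁻¹ := by group
      _ = _ := by rw [e]; group
  have h1 : s⁻¹ * r = 1 := h.inf _ (mul_mem (inv_mem hs) hr) (by rw [e1]; exact mul_mem hb (inv_mem ha))
  have h2 : r = s := (inv_mul_eq_one.1 h1).symm
  subst h2
  exact ⟨rfl, mul_left_cancel e⟩

theorem mul_eq (h : Triv R C Z Y z g) {r s a b : G} (_hr : r ∈ R) (hs : s ∈ R) (ha : a ∈ Z) (_hb : b ∈ Z) :
    r * a * (s * b) = (r * s) * (a * b) := by
  have := h.rz s hs a ha
  calc r * a * (s * b) = r * (a * s) * b := by group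
    _ = r * (s * a) * b := by rw [this]
    _ = _ := by group

theorem commute_iff (h : Triv R C Z Y z g) {r s a b : G} (hr : r ∈ R) (hs : s ∈ R) (ha : a ∈ Z) (hb : b ∈ Z) :
    r * a * (s * b) = s * b * (r * a) ↔ r * s = s * r := by
  rw [h.mul_eq hr hs ha hb, h.mul_eq hs hr hb ha]
  constructor
  · intro e
    exact (h.inj (mul_mem hr hs) (mul_mem hs hr) (mul_mem ha hb) (mul_mem hb ha) e).1
  · intro e
    rw [e, h.zc a ha b hb]

variable [Finite G]

theorem commutator_le (h : Triv R C Z Y z g) : ⁅Y, Y⁆ ≤ C := by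
  rw [Subgroup.commutator_le]
  intro x hx y hy
  obtain ⟨r, hr, a, ha, rfl⟩ := (h.mem x).1 hx
  obtain ⟨s, hs, b, hb, rfl⟩ := (h.mem y).1 hy
  have e : ⁅r * a, s * b⁆ = r * s * r⁻¹ * s⁻¹ := by
    rw [commutatorElement_def]
    have e1 := h.rz s hs a ha
    have e2 := h.rz r hr b hb
    have e3 := h.rz r hr a ha
    have e4 := h.zc a ha b hb
    have c1 : Commute s a := e1
    have c2 : Commute r b := e2
    have c3 : Commute r a := e3
    have c4 : Commute a b := e4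
    have c5 : Commute s b := h.rz s hs b hb
    calc r * a * (s * b) * (r * a)⁻¹ * (s * b)⁻¹
        = r * (a * s) * b * a⁻¹ * r⁻¹ * b⁻¹ * s⁻¹ := by group
      _ = r * s * (a * b * a⁻¹) * r⁻¹ * b⁻¹ * s⁻¹ := by rw [← e1]; group
      _ = r * s * (b * r⁻¹) * b⁻¹ * s⁻¹ := by rw [e4]; group
      _ = r * s * (r⁻¹ * b) * b⁻¹ * s⁻¹ := by rw [(c2.inv_left).eq]
      _ = _ := by group
  rw [e]
  exact h.full.commutator_mem hr hs

theorem z_mem_commutator (h : Triv R C Z Y z g) : z ∈ ⁅Y, Y⁆ := by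
  obtain ⟨i, hi, hii⟩ := h.full.sqrt
  obtain ⟨w, hw, hwC⟩ := h.full.w0
  have e : ⁅w, i⁆ = z⁻¹ := by
    rw [commutatorElement_def, h.full.inv4 w hw hwC i hi hii, ← hii]; group
  have : ⁅w, i⁆ ∈ ⁅Y, Y⁆ := commutator_mem_commutator (h.R_le hw) (h.R_le (h.full.le hi))
  rw [e] at this
  simpa using inv_mem this

theorem sq_mem_commutator (h : Triv R C Z Y z g) {a : G} (ha : a ∈ C) : a * a ∈ ⁅Y, Y⁆ := by
  obtain ⟨w, hw, hwC⟩ := h.full.w0
  have h1 : ⁅w, a⁆ ∈ ⁅Y, Y⁆ := commutator_mem_commutator (h.R_le hw) (h.R_le (h.full.le ha))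
  rw [commutatorElement_def] at h1
  rcases h.full.inv w hw hwC a ha with e | e
  · rw [e] at h1
    have := inv_mem h1
    simpa using this
  · rw [e] at h1
    have hz := h.z_mem_commutator
    have e2 : a⁻¹ * z * a⁻¹ = z * (a * a)⁻¹ := by
      have := h.full.comm (inv_mem ha) h.full.zC
      rw [this]; group
    rw [e2] at h1
    have h3 := mul_mem (inv_mem hz) h1
    rw [inv_mul_cancel_left] at h3
    simpa using inv_mem h3

theorem commute_of_mem_commutator (h : Triv R C Z Y z g) {x : G} (hx : x ∈ ⁅Y, Y⁆) : Commute g x := by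
  have h1 : IsCyclic (⁅Y, Y⁆ : Subgroup G) := by
    have := h.full.cyc
    exact isCyclic_of_injective (Subgroup.inclusion h.commutator_le) (Subgroup.inclusion_injective _)
  refine commute_cyclic (h.two.to_le (h.commutator_le.trans (h.full.le.trans h.R_le))) h1 h.odd ?_ hx
  intro k hk
  have hn : g ∈ normalizer ((⁅Y, Y⁆ : Subgroup G) : Set G) := by
    rw [mem_normalizer_iff_map_conj, map_commutator, mem_normalizer_iff_map_conj.1 h.gn]
  exact mem_normalizer_conj hn hk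

theorem commute_z (h : Triv R C Z Y z g) : Commute g z := h.commute_of_mem_commutator h.z_mem_commutator

theorem commute_sq (h : Triv R C Z Y z g) {a : G} (ha : a ∈ C) : Commute g (a * a) :=
  h.commute_of_mem_commutator (h.sq_mem_commutator ha)

/-- `g` normalises `C × Z` -/
theorem conj_A (h : Triv R C Z Y z g) {x c a : G} (hc : c ∈ C) (ha : a ∈ Z) (hx : x = c * a) :
    ∃ c' ∈ C, ∃ a' ∈ Z, g * x * g⁻¹ = c' * a' := by
  have hxY : x ∈ Y := (h.mem x).2 ⟨c, h.full.le hc, a, ha, hx⟩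
  obtain ⟨r, hr, b, hb, e⟩ := (h.mem _).1 (mem_normalizer_conj h.gn hxY)
  refine ⟨r, ?_, b, hb, e⟩
  rcases h.full.big with ⟨t, ht, ht4⟩ | ⟨⟨i, hi, hii⟩, hinv⟩
  · -- `x` commutes with `t * t`
    by_contra hrC
    have h1 : x * (t * t) = (t * t) * x := by
      rw [hx]
      have c1 : Commute c t := h.full.comm hc ht
      have c2 : Commute a t := (h.rz t (h.full.le ht) a ha).symm
      exact ((c1.mul_left c2).mul_right (c1.mul_left c2)).eq
    have h2 : (g * x * g⁻¹) * (t * t) = (t * t) * (g * x * g⁻¹) := by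
      have e3 := congrArg (fun y => g * y * g⁻¹) h1
      simp only [conj_mul'] at e3
      rwa [← conj_mul', conj_eq_iff_commute.2 (h.commute_sq ht)] at e3
    rw [e] at h2
    have h3 : r * (t * t) = (t * t) * r := by
      have h4 := (h.commute_iff hr (h.full.le (mul_mem ht ht)) hb (one_mem Z)).1 (by simpa using h2)
      exact h4
    have h4 := h.full.sq_comm hr hrC ht
    rw [h3, mul_inv_cancel_right] at h4
    apply ht4
    nth_rewrite 1 [h4]
    group
  · -- the square root of `z`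
    obtain ⟨s, hs, d, hd, es⟩ := (h.mem _).1 (mem_normalizer_conj h.gn (h.R_le (h.full.le hi)))
    have hz : (s * s) * (d * d) = z * 1 := by
      rw [← h.mul_eq hs hs hd hd, ← es, ← conj_mul', hii, conj_eq_iff_commute.2 h.commute_z, mul_one]
    obtain ⟨hss, hdd⟩ := h.inj (mul_mem hs hs) (h.full.zR) (mul_mem hd hd) (one_mem _) hz
    have hsC : s ∈ C := by
      by_contra hsC
      rw [hinv s hs hsC] at hss
      exact h.full.z1 hss.symm
    have h1 : x * i = i * x := by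
      rw [hx]
      have c1 : Commute c i := h.full.comm hc hi
      have c2 : Commute a i := (h.rz i (h.full.le hi) a ha).symm
      exact (c1.mul_left c2).eq
    have h2 : (r * b) * (s * d) = (s * d) * (r * b) := by
      rw [← e, ← es, ← conj_mul', ← conj_mul', h1]
    exact h.full.mem_of_commute_sqrt hsC hss hr ((h.commute_iff hr hs hb hd).1 h2)

/-- the elements `e a`, `e ∈ {1, z}`, `a ∈ Z` -/
def N (h : Triv R C Z Y z g) : Subgroup G := mulS (zpowers z) Z (by
  intro a ha b hb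
  rcases (mem_zp h.full.zz).1 ha with rfl | rfl
  · simp
  · exact h.rz _ h.full.zR b hb)

omit [Finite G] in
theorem mem_N (h : Triv R C Z Y z g) {x : G} : x ∈ h.N ↔ ∃ e, (e = 1 ∨ e = z) ∧ ∃ a ∈ Z, x = e * a := by
  rw [N, mem_mulS]
  constructor
  · rintro ⟨e, he, a, ha, rfl⟩
    exact ⟨e, (mem_zp h.full.zz).1 he, a, ha, rfl⟩
  · rintro ⟨e, he, a, ha, rfl⟩
    exact ⟨e, (mem_zp h.full.zz).2 he, a, ha, rfl⟩

theorem mem_N_iff (h : Triv R C Z Y z g) {x : G} : x ∈ h.N ↔ x ∈ Y ∧ ∀ y ∈ Y, x * y = y * x := by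
  rw [mem_N]
  constructor
  · rintro ⟨e, he, a, ha, rfl⟩
    have heR : e ∈ R := by rcases he with rfl | rfl; exacts [one_mem _, h.full.zR]
    refine ⟨(h.mem _).2 ⟨e, heR, a, ha, rfl⟩, fun y hy => ?_⟩
    obtain ⟨s, hs, b, hb, rfl⟩ := (h.mem y).1 hy
    rw [h.commute_iff heR hs ha hb]
    rcases he with rfl | rfl
    · simp
    · exact (h.full.zcen hs).symm
  · rintro ⟨hx, hc⟩
    obtain ⟨r, hr, a, ha, rfl⟩ := (h.mem x).1 hx
    refine ⟨r, h.full.mem_center hr (fun s hs => ?_), a, ha, rfl⟩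
    have := hc (s * 1) ((h.mem _).2 ⟨s, hs, 1, one_mem _, rfl⟩)
    exact (h.commute_iff hr hs ha (one_mem _)).1 this

theorem gN (h : Triv R C Z Y z g) : g ∈ normalizer (h.N : Set G) := by
  apply mem_normalizer_of
  intro x hx
  rw [mem_N_iff] at hx ⊢
  refine ⟨mem_normalizer_conj h.gn hx.1, fun y hy => ?_⟩
  have h1 := hx.2 _ (mem_normalizer_conj' h.gn hy)
  calc g * x * g⁻¹ * y = g * (x * (g⁻¹ * y * g)) * g⁻¹ := by group
    _ = g * ((g⁻¹ * y * g) * x) * g⁻¹ := by rw [h1]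
    _ = _ := by group

theorem conj_C (h : Triv R C Z Y z g) {c : G} (hc : c ∈ C) : ∃ v ∈ h.N, g * c * g⁻¹ = v * c := by
  obtain ⟨c', hc', a, ha, e⟩ := h.conj_A hc (one_mem Z) (mul_one c).symm
  refine ⟨g * c * g⁻¹ * c⁻¹, ?_, by group⟩
  have e2 : (c' * c') * (a * a) = (c * c) * 1 := by
    rw [← h.mul_eq (h.full.le hc') (h.full.le hc') ha ha, ← e, ← conj_mul',
      conj_eq_iff_commute.2 (h.commute_sq hc), mul_one]
  obtain ⟨h1, h2⟩ := h.inj (h.full.le (mul_mem hc' hc')) (h.full.le (mul_mem hc hc)) (mul_mem ha ha) (one_mem _) e2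
  rw [mem_N]
  refine ⟨c' * c⁻¹, ?_, a, ha, ?_⟩
  · apply h.full.uniq _ (mul_mem hc' (inv_mem hc))
    have := h.full.comm hc' (inv_mem hc)
    calc c' * c⁻¹ * (c' * c⁻¹) = c' * (c⁻¹ * c') * c⁻¹ := by group
      _ = (c' * c') * (c * c)⁻¹ := by rw [← this]; group
      _ = 1 := by rw [h1]; group
  · rw [e]
    have := h.rz _ (h.full.le (inv_mem hc)) a ha
    rw [mul_assoc, ← this]; group

theorem conj_Z (h : Triv R C Z Y z g) {a : G} (ha : a ∈ Z) : ∃ v ∈ h.N, g * a * g⁻¹ = v * a := by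
  have haN : a ∈ h.N := h.mem_N.2 ⟨1, Or.inl rfl, a, ha, (one_mul a).symm⟩
  exact ⟨g * a * g⁻¹ * a⁻¹, mul_mem (mem_normalizer_conj h.gN haN) (inv_mem haN), by group⟩

theorem N_comm (h : Triv R C Z Y z g) {v y : G} (hv : v ∈ h.N) (hy : y ∈ Y) : v * y = y * v :=
  (h.mem_N_iff.1 hv).2 y hy

/-- **Lemma**: `g` acts trivially on `R Z` modulo `⟨z⟩ Z`. -/
theorem conj_R (h : Triv R C Z Y z g) {r : G} (hr : r ∈ R) : ∃ v ∈ h.N, g * r * g⁻¹ = v * r := by
  by_cases hrC : r ∈ C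
  · exact h.conj_C hrC
  refine ⟨g * r * g⁻¹ * r⁻¹, ?_, by group⟩
  -- `g r g⁻¹ r⁻¹ ∈ C Z`
  obtain ⟨s, hs, b, hb, e⟩ := (h.mem _).1 (mem_normalizer_conj h.gn (h.R_le hr))
  have hsC : s ∉ C := by
    intro hsC
    -- then `g r g⁻¹ ∈ A`, and all of `A` is the image of `A`
    have h1 : ∀ k : ℕ, ∃ c ∈ C, ∃ a ∈ Z, g ^ (k + 1) * r * (g ^ (k + 1))⁻¹ = c * a := by
      intro k
      induction k with
      | zero => exact ⟨s, hsC, b, hb, by simpa using e⟩
      | succ k ih =>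
        obtain ⟨c, hc, a, ha, e1⟩ := ih
        obtain ⟨c', hc', a', ha', e2⟩ := h.conj_A hc ha e1
        refine ⟨c', hc', a', ha', ?_⟩
        rw [← e2, pow_succ' g (k + 1)]
        group
    obtain ⟨c, hc, a, ha, e1⟩ := h1 (orderOf g - 1)
    have h2 : orderOf g - 1 + 1 = orderOf g := Nat.sub_add_cancel (orderOf_pos g)
    rw [h2, pow_orderOf_eq_one] at e1
    simp only [one_mul, inv_one, mul_one] at e1
    have h3 := (h.inj hr (h.full.le hc) (one_mem _) ha (by rw [mul_one]; exact e1)).1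
    exact hrC (h3 ▸ hc)
  set v := g * r * g⁻¹ * r⁻¹ with hv
  have hrC' : r⁻¹ ∉ C := fun h' => hrC (by simpa using inv_mem h')
  have hvA : v = (s * r⁻¹) * b := by
    rw [hv, e]
    have := h.rz _ (inv_mem hr) b hb
    rw [mul_assoc, ← this]; group
  have hc : s * r⁻¹ ∈ C := h.full.idx s hs hsC _ (inv_mem hr) hrC'
  have hvY : v ∈ Y := by rw [hvA]; exact mul_mem (h.R_le (h.full.le hc)) (h.Z_le hb)
  apply mem_of_cop h.gN (w := r) (v := v) ?_ h.odd (by rw [hv]; group) ?_ ?_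
  · apply mem_normalizer_of
    intro x hx
    have := h.N_comm hx hvY
    rw [← this, mul_inv_cancel_right]; exact hx
  · obtain ⟨v1, hv1, e1⟩ := h.conj_C hc
    obtain ⟨v2, hv2, e2⟩ := h.conj_Z hb
    have e3 : g * v * g⁻¹ = v1 * v2 * v := by
      rw [hvA, conj_mul', e1, e2]
      have := h.N_comm hv2 (h.R_le (h.full.le hc))
      calc v1 * (s * r⁻¹) * (v2 * b) = v1 * ((s * r⁻¹) * v2) * b := by group
        _ = _ := by rw [← this]; group
    rw [e3, mul_inv_cancel_right]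
    exact mul_mem hv1 hv2
  · obtain ⟨k, hk⟩ := h.two ⟨v, hvY⟩
    refine ⟨k, ?_⟩
    have := congrArg Subtype.val hk
    simp only [SubgroupClass.coe_pow, OneMemClass.coe_one] at this
    rw [this]; exact one_mem _

/-- the action on `Y` -/
theorem conj_Y (h : Triv R C Z Y z g) {y : G} (hy : y ∈ Y) : ∃ v ∈ h.N, g * y * g⁻¹ = v * y := by
  obtain ⟨r, hr, a, ha, rfl⟩ := (h.mem y).1 hy
  obtain ⟨v1, hv1, e1⟩ := h.conj_R hr
  obtain ⟨v2, hv2, e2⟩ := h.conj_Z ha
  refine ⟨v1 * v2, mul_mem hv1 hv2, ?_⟩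
  rw [conj_mul', e1, e2]
  have := h.N_comm hv2 (h.R_le hr)
  calc v1 * r * (v2 * a) = v1 * (r * v2) * a := by group
    _ = _ := by rw [← this]; group

end Triv

end Cfsg.Agent.H301.Data
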