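import Mathlib
import Cfsg.Agent.H301.MQ

/-!
# Elements of odd order acting on `X = M × R`

`M` is full (dihedral of order at least 8, semidihedral, …), `R` is a subgroup of such a group.
`conj_cent`: an element `g` of odd order normalising `X` normalises `C_X(M) = Z(M) × R`; `E_z`, `E_sq`, `E_M`:
it centralises `M'` and acts trivially on `M` modulo `Z(M) × Z(R)`.
-/

set_option autoImplicit false

namespace Cfsg.Agent.H301.Data

open Subgroup
open Cfsg.Agent.Lib.GoldschmidtFusion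
open Cfsg.Agent.H301.Cop
open scoped commutatorElement

variable {G : Type*} [Group G]

/-- `X = M × R` -/
structure Dat (M C R D X : Subgroup G) (z z' : G) : Prop where
  full : Full M C z
  mq : MQ R D z'
  two : IsPGroup 2 X
  mr : ∀ m ∈ M, ∀ r ∈ R, m * r = r * m
  inf : ∀ x ∈ M, x ∈ R → x = 1
  mem : ∀ x, x ∈ X ↔ ∃ m ∈ M, ∃ r ∈ R, x = m * r

namespace Dat

variable {M C R D X : Subgroup G} {z z' : G}

theorem M_le (h : Dat M C R D X z z') : M ≤ X := fun r hr => (h.mem r).2 ⟨r, hr, 1, one_mem _, by simp⟩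

theorem R_le (h : Dat M C R D X z z') : R ≤ X := fun r hr => (h.mem r).2 ⟨1, one_mem _, r, hr, by simp⟩

theorem inj (h : Dat M C R D X z z') {r s a b : G} (hr : r ∈ M) (hs : s ∈ M) (ha : a ∈ R) (hb : b ∈ R)
    (e : r * a = s * b) : r = s ∧ a = b := by
  have e1 : s⁻¹ * r = b * a⁻¹ := by
    calc s⁻¹ * r = s⁻¹ * (r * a) * a⁻¹ := by group
      _ = _ := by rw [e]; group
  have h1 : s⁻¹ * r = 1 := h.inf _ (mul_mem (inv_mem hs) hr) (by rw [e1]; exact mul_mem hb (inv_mem ha))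
  have h2 : r = s := (inv_mul_eq_one.1 h1).symm
  subst h2
  exact ⟨rfl, mul_left_cancel e⟩

theorem mul_eq (h : Dat M C R D X z z') {r s a b : G} (hs : s ∈ M) (ha : a ∈ R) :
    r * a * (s * b) = (r * s) * (a * b) := by
  have := h.mr s hs a ha
  calc r * a * (s * b) = r * (a * s) * b := by group
    _ = r * (s * a) * b := by rw [this]
    _ = _ := by group

theorem comm_iff (h : Dat M C R D X z z') {r s a b : G} (hr : r ∈ M) (hs : s ∈ M) (ha : a ∈ R) (hb : b ∈ R) :
    r * a * (s * b) = s * b * (r * a) ↔ r * s = s * r ∧ a * b = b * a := by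
  rw [h.mul_eq hs ha, h.mul_eq hr hb]
  constructor
  · intro e
    exact h.inj (mul_mem hr hs) (mul_mem hs hr) (mul_mem ha hb) (mul_mem hb ha) e
  · rintro ⟨e1, e2⟩
    rw [e1, e2]

theorem comm_M_iff (h : Dat M C R D X z z') {r s a : G} (hr : r ∈ M) (hs : s ∈ M) (ha : a ∈ R) :
    r * a * s = s * (r * a) ↔ r * s = s * r := by
  have := h.comm_iff hr hs ha (one_mem R)
  simpa using this

theorem comm_R_iff (h : Dat M C R D X z z') {r b a : G} (hr : r ∈ M) (ha : a ∈ R) (hb : b ∈ R) :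
    r * a * b = b * (r * a) ↔ a * b = b * a := by
  have := h.comm_iff hr (one_mem M) ha hb
  simpa using this

/-- conjugates of a commuting pair commute -/
theorem conj_comm {n x y : G} (h : x * y = y * x) : (n * x * n⁻¹) * (n * y * n⁻¹) = (n * y * n⁻¹) * (n * x * n⁻¹) := by
  rw [← conj_mul', ← conj_mul', h]

theorem dich (h : Dat M C R D X z z') {n : G} (hn : n ∈ normalizer (X : Set G)) :
    (∀ r ∈ R, ∀ m ∈ M, (n * r * n⁻¹) * m = m * (n * r * n⁻¹)) ∨
      (∀ m' ∈ M, ∀ m ∈ M, (n * m' * n⁻¹) * m = m * (n * m' * n⁻¹)) := by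
  -- every element of `M` is a product `α β`
  have gen : ∀ m ∈ M, ∃ m1 ∈ M, ∃ r1 ∈ R, ∃ a ∈ M, ∃ s ∈ R, ∃ b ∈ M, ∃ t ∈ R,
      n * m1 * n⁻¹ = a * s ∧ n * r1 * n⁻¹ = b * t ∧ m = a * b := by
    intro m hm
    obtain ⟨m1, hm1, r1, hr1, e⟩ := (h.mem _).1 (mem_normalizer_conj' hn (h.M_le hm))
    obtain ⟨a, ha, s, hs, ea⟩ := (h.mem _).1 (mem_normalizer_conj hn (h.M_le hm1))
    obtain ⟨b, hb, t, ht, eb⟩ := (h.mem _).1 (mem_normalizer_conj hn (h.R_le hr1))
    refine ⟨m1, hm1, r1, hr1, a, ha, s, hs, b, hb, t, ht, ea, eb, ?_⟩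
    have e1 : m * 1 = (a * b) * (s * t) := by
      rw [← h.mul_eq hb hs, ← ea, ← eb, ← conj_mul', ← e]; group
    exact (h.inj hm (mul_mem ha hb) (one_mem _) (mul_mem hs ht) e1).1
  by_cases hall : ∀ m1 ∈ M, ∀ m2 ∈ M, ∀ a1 ∈ M, ∀ s1 ∈ R, ∀ a2 ∈ M, ∀ s2 ∈ R,
      n * m1 * n⁻¹ = a1 * s1 → n * m2 * n⁻¹ = a2 * s2 → a1 * a2 = a2 * a1
  · right
    intro m' hm' m hm
    obtain ⟨m1, hm1, r1, hr1, a, ha, s, hs, b, hb, t, ht, ea, eb, rfl⟩ := gen m hm
    obtain ⟨a', ha', s', hs', ea'⟩ := (h.mem _).1 (mem_normalizer_conj hn (h.M_le hm'))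
    rw [ea', h.comm_M_iff ha' (mul_mem ha hb) hs']
    have h1 := hall m' hm' m1 hm1 a' ha' s' hs' a ha s hs ea' ea
    have h2 : a' * b = b * a' := by
      have := conj_comm (n := n) (h.mr m' hm' r1 hr1)
      rw [ea', eb, h.comm_iff ha' hb hs' ht] at this
      exact this.1
    calc a' * (a * b) = (a' * a) * b := by group
      _ = a * (a' * b) := by rw [h1]; group
      _ = _ := by rw [h2]; group
  · left
    push Not at hall
    obtain ⟨m1, hm1, m2, hm2, a1, ha1, s1, hs1, a2, ha2, s2, hs2, e1, e2, hne⟩ := hall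
    -- the `β`s lie in `C`
    have hC : ∀ r ∈ R, ∀ b ∈ M, ∀ t ∈ R, n * r * n⁻¹ = b * t → b ∈ C := by
      intro r hr b hb t ht eb
      have c1 := conj_comm (n := n) (h.mr m1 hm1 r hr)
      have c2 := conj_comm (n := n) (h.mr m2 hm2 r hr)
      rw [e1, eb, h.comm_iff ha1 hb hs1 ht] at c1
      rw [e2, eb, h.comm_iff ha2 hb hs2 ht] at c2
      exact h.full.mem_of_commute ha1 ha2 hb hne c1.1.symm c2.1.symm
    intro r hr m hm
    obtain ⟨b', hb', t', ht', eb'⟩ := (h.mem _).1 (mem_normalizer_conj hn (h.R_le hr))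
    obtain ⟨m1, hm1, r1, hr1, a, ha, s, hs, b, hb, t, ht, ea, eb, rfl⟩ := gen m hm
    rw [eb', h.comm_M_iff hb' (mul_mem ha hb) ht']
    have h1 : b' * b = b * b' := h.full.comm (hC r hr b' hb' t' ht' eb') (hC r1 hr1 b hb t ht eb)
    have h2 : a * b' = b' * a := by
      have := conj_comm (n := n) (h.mr m1 hm1 r hr)
      rw [ea, eb', h.comm_iff ha hb' hs ht'] at this
      exact this.1
    calc b' * (a * b) = (b' * a) * b := by group
      _ = a * (b' * b) := by rw [← h2]; group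
      _ = _ := by rw [h1]; group

/-- `C_X(M)` -/
def CX (M X : Subgroup G) : Subgroup G := X ⊓ centralizer (M : Set G)

theorem mem_CX {x : G} : x ∈ CX M X ↔ x ∈ X ∧ ∀ m ∈ M, x * m = m * x := by
  rw [CX, mem_inf, mem_centralizer_iff]
  simp only [SetLike.mem_coe]
  exact ⟨fun h => ⟨h.1, fun m hm => (h.2 m hm).symm⟩, fun h => ⟨h.1, fun m hm => (h.2 m hm).symm⟩⟩

variable [Finite G]

theorem mem_CX_iff (h : Dat M C R D X z z') {x : G} : x ∈ CX M X ↔ ∃ e, (e = 1 ∨ e = z) ∧ ∃ r ∈ R, x = e * r := by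
  rw [mem_CX]
  constructor
  · rintro ⟨hx, hc⟩
    obtain ⟨m, hm, r, hr, rfl⟩ := (h.mem x).1 hx
    refine ⟨m, h.full.mem_center hm (fun s hs => ?_), r, hr, rfl⟩
    exact (h.comm_M_iff hm hs hr).1 (hc s hs)
  · rintro ⟨e, he, r, hr, rfl⟩
    have heM : e ∈ M := by rcases he with rfl | rfl; exacts [one_mem _, h.full.zR]
    refine ⟨(h.mem _).2 ⟨e, heM, r, hr, rfl⟩, fun m hm => ?_⟩
    rw [h.comm_M_iff heM hm hr]
    rcases he with rfl | rfl
    · simp
    · exact (h.full.zcen hm).symm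

theorem normalizer_CX_of (h : Dat M C R D X z z') {n : G} (hn : n ∈ normalizer (X : Set G))
    (h1 : ∀ r ∈ R, ∀ m ∈ M, (n * r * n⁻¹) * m = m * (n * r * n⁻¹)) : n ∈ normalizer (CX M X : Set G) := by
  apply mem_normalizer_of
  intro x hx
  have hxX : x ∈ X := (mem_CX.1 hx).1
  rw [h.mem_CX_iff] at hx
  obtain ⟨e, he, r, hr, rfl⟩ := hx
  rw [mem_CX]
  refine ⟨mem_normalizer_conj hn hxX, fun m hm => ?_⟩
  have heM : e ∈ M := by rcases he with rfl | rfl; exacts [one_mem _, h.full.zR]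
  -- `e` is central in `X`
  have hec : ∀ y ∈ X, e * y = y * e := by
    intro y hy
    obtain ⟨a, ha, b, hb, rfl⟩ := (h.mem y).1 hy
    have c1 : e * a = a * e := by
      rcases he with rfl | rfl
      · simp
      · exact (h.full.zcen ha).symm
    have c2 := h.mr e heM b hb
    calc e * (a * b) = (e * a) * b := by group
      _ = a * (e * b) := by rw [c1]; group
      _ = _ := by rw [c2]; group
  have h2 : (n * e * n⁻¹) * m = m * (n * e * n⁻¹) := by
    have := hec _ (mem_normalizer_conj' hn (h.M_le hm))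
    calc n * e * n⁻¹ * m = n * (e * (n⁻¹ * m * n)) * n⁻¹ := by group
      _ = n * ((n⁻¹ * m * n) * e) * n⁻¹ := by rw [this]
      _ = _ := by group
  rw [conj_mul']
  have h3 := h1 r hr m hm
  calc n * e * n⁻¹ * (n * r * n⁻¹) * m = n * e * n⁻¹ * ((n * r * n⁻¹) * m) := by group
    _ = (n * e * n⁻¹ * m) * (n * r * n⁻¹) := by rw [h3]; group
    _ = _ := by rw [h2]; group

/-- **Lemma C**: an element of odd order normalises `C_X(M)`. -/
theorem normalizer_CX (h : Dat M C R D X z z') {g : G} (hg : g ∈ normalizer (X : Set G))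
    (hodd : Odd (orderOf g)) : g ∈ normalizer (CX M X : Set G) := by
  rcases h.dich hg with h1 | h1
  · exact h.normalizer_CX_of hg h1
  · refine mem_of_sq hodd ?_
    rcases h.dich (pow_mem hg 2) with h2 | h2
    · exact h.normalizer_CX_of (pow_mem hg 2) h2
    exfalso
    obtain ⟨i, hi, hii⟩ := h.full.sqrt
    obtain ⟨w, hw, hwC⟩ := h.full.w0
    have hiM := h.full.le hi
    have hne : w * i ≠ i * w := fun hc => hwC (h.full.mem_of_commute_sqrt hi hii hw hc)
    have dec : ∀ n : G, n ∈ normalizer (X : Set G) →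
        (∀ m' ∈ M, ∀ m ∈ M, (n * m' * n⁻¹) * m = m * (n * m' * n⁻¹)) → ∀ m ∈ M, ∃ e ∈ M,
          (∀ m' ∈ M, e * m' = m' * e) ∧ ∃ r ∈ R, n * m * n⁻¹ = e * r := by
      intro n hn hn2 m hm
      obtain ⟨a, ha, s, hs, e⟩ := (h.mem _).1 (mem_normalizer_conj hn (h.M_le hm))
      refine ⟨a, ha, fun m' hm' => ?_, s, hs, e⟩
      have := hn2 m hm m' hm'
      rw [e] at this
      exact (h.comm_M_iff ha hm' hs).1 this
    obtain ⟨μ1, hμ1, hμ1c, ρ1, hρ1, e1⟩ := dec g hg h1 w hw
    obtain ⟨μ2, hμ2, hμ2c, ρ2, hρ2, e2⟩ := dec g hg h1 i hiM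
    obtain ⟨ν1, hν1, hν1c, σ1, hσ1, f1⟩ := dec (g ^ 2) (pow_mem hg 2) h2 w hw
    obtain ⟨ν2, hν2, hν2c, σ2, hσ2, f2⟩ := dec (g ^ 2) (pow_mem hg 2) h2 i hiM
    have hρ : ρ1 * ρ2 ≠ ρ2 * ρ1 := by
      intro hc
      apply hne
      have : (g * w * g⁻¹) * (g * i * g⁻¹) = (g * i * g⁻¹) * (g * w * g⁻¹) := by
        rw [e1, e2, h.comm_iff hμ1 hμ2 hρ1 hρ2]
        exact ⟨hμ1c _ hμ2, hc⟩
      have h3 := conj_comm (n := g⁻¹) this
      have e3 : ∀ x : G, g⁻¹ * (g * x * g⁻¹) * g⁻¹⁻¹ = x := fun x => by group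
      rwa [e3, e3] at h3
    have hσ : σ1 * σ2 ≠ σ2 * σ1 := by
      intro hc
      apply hne
      have : (g ^ 2 * w * (g ^ 2)⁻¹) * (g ^ 2 * i * (g ^ 2)⁻¹) = (g ^ 2 * i * (g ^ 2)⁻¹) * (g ^ 2 * w * (g ^ 2)⁻¹) := by
        rw [f1, f2, h.comm_iff hν1 hν2 hσ1 hσ2]
        exact ⟨hν1c _ hν2, hc⟩
      have h3 := conj_comm (n := (g ^ 2)⁻¹) this
      have e3 : ∀ x : G, (g ^ 2)⁻¹ * (g ^ 2 * x * (g ^ 2)⁻¹) * (g ^ 2)⁻¹⁻¹ = x := fun x => by group
      rwa [e3, e3] at h3
    have cross : ∀ m ∈ M, ∀ m' ∈ M, (g ^ 2 * m * (g ^ 2)⁻¹) * (g * m' * g⁻¹) = (g * m' * g⁻¹) * (g ^ 2 * m * (g ^ 2)⁻¹) := by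
      intro m hm m' hm'
      have := conj_comm (n := g) (h1 m hm m' hm')
      have e3 : g * (g * m * g⁻¹) * g⁻¹ = g ^ 2 * m * (g ^ 2)⁻¹ := by rw [pow_two]; group
      rwa [e3] at this
    have c11 := cross w hw w hw
    have c12 := cross w hw i hiM
    have c21 := cross i hiM w hw
    have c22 := cross i hiM i hiM
    rw [f1, e1, h.comm_iff hν1 hμ1 hσ1 hρ1] at c11
    rw [f1, e2, h.comm_iff hν1 hμ2 hσ1 hρ2] at c12
    rw [f2, e1, h.comm_iff hν2 hμ1 hσ2 hρ1] at c21
    rw [f2, e2, h.comm_iff hν2 hμ2 hσ2 hρ2] at c22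
    have m1 := h.mq.mem_of_commute hρ1 hρ2 hσ1 hρ c11.2 c12.2
    have m2 := h.mq.mem_of_commute hρ1 hρ2 hσ2 hρ c21.2 c22.2
    exact hσ (h.mq.comm m1 m2)

/-- the centre of `R` -/
def ZR (R : Subgroup G) : Subgroup G := R ⊓ centralizer (R : Set G)

omit [Finite G] in
theorem mem_ZR {x : G} : x ∈ ZR R ↔ x ∈ R ∧ ∀ r ∈ R, x * r = r * x := by
  rw [ZR, mem_inf, mem_centralizer_iff]
  simp only [SetLike.mem_coe]
  exact ⟨fun h => ⟨h.1, fun m hm => (h.2 m hm).symm⟩, fun h => ⟨h.1, fun m hm => (h.2 m hm).symm⟩⟩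

/-- the action on `M × Z(R)` -/
theorem triv_M (h : Dat M C R D X z z') {g : G} (hg : g ∈ normalizer (X : Set G))
    (hodd : Odd (orderOf g)) : Triv M C (ZR R) (X ⊓ centralizer (CX M X : Set G)) z g where
  full := h.full
  two := h.two.to_le inf_le_left
  zc a ha b hb := (mem_ZR.1 ha).2 b (mem_ZR.1 hb).1
  rz r hr a ha := h.mr r hr a (mem_ZR.1 ha).1
  inf x hx hx' := h.inf x hx (mem_ZR.1 hx').1
  mem x := by
    rw [mem_inf, mem_centralizer_iff]
    constructor
    · rintro ⟨hx, hc⟩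
      obtain ⟨m, hm, r, hr, rfl⟩ := (h.mem x).1 hx
      refine ⟨m, hm, r, mem_ZR.2 ⟨hr, fun s hs => ?_⟩, rfl⟩
      have h1 : s ∈ CX M X := h.mem_CX_iff.2 ⟨1, Or.inl rfl, s, hs, (one_mul s).symm⟩
      have h2 := (hc s h1).symm
      exact (h.comm_R_iff hm hr hs).1 h2
    · rintro ⟨m, hm, r, hr, rfl⟩
      refine ⟨(h.mem _).2 ⟨m, hm, r, (mem_ZR.1 hr).1, rfl⟩, fun y hy => ?_⟩
      obtain ⟨e, he, s, hs, rfl⟩ := h.mem_CX_iff.1 hy
      have heM : e ∈ M := by rcases he with rfl | rfl; exacts [one_mem _, h.full.zR]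
      rw [h.comm_iff heM hm hs (mem_ZR.1 hr).1]
      refine ⟨?_, ((mem_ZR.1 hr).2 s hs).symm⟩
      rcases he with rfl | rfl
      · simp
      · exact (h.full.zcen hm).symm
  gn := by
    have h1 := h.normalizer_CX hg hodd
    apply mem_normalizer_of
    intro x hx
    rw [mem_inf, mem_centralizer_iff] at hx ⊢
    refine ⟨mem_normalizer_conj hg hx.1, fun y hy => ?_⟩
    have h2 := hx.2 _ (mem_normalizer_conj' h1 hy)
    calc y * (g * x * g⁻¹) = g * ((g⁻¹ * y * g) * x) * g⁻¹ := by group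
      _ = g * (x * (g⁻¹ * y * g)) * g⁻¹ := by rw [h2]
      _ = _ := by group
  odd := hodd

theorem E_z (h : Dat M C R D X z z') {g : G} (hg : g ∈ normalizer (X : Set G)) (hodd : Odd (orderOf g)) :
    Commute g z := (h.triv_M hg hodd).commute_z

theorem E_sq (h : Dat M C R D X z z') {g : G} (hg : g ∈ normalizer (X : Set G)) (hodd : Odd (orderOf g))
    {a : G} (ha : a ∈ C) : Commute g (a * a) := (h.triv_M hg hodd).commute_sq ha

theorem E_M (h : Dat M C R D X z z') {g : G} (hg : g ∈ normalizer (X : Set G)) (hodd : Odd (orderOf g))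
    {m : G} (hm : m ∈ M) : ∃ e, (e = 1 ∨ e = z) ∧ ∃ a ∈ ZR R, g * m * g⁻¹ = e * a * m := by
  obtain ⟨v, hv, e1⟩ := (h.triv_M hg hodd).conj_R hm
  obtain ⟨e, he, a, ha, rfl⟩ := (h.triv_M hg hodd).mem_N.1 hv
  exact ⟨e, he, a, ha, e1⟩

theorem E_R (h : Dat M C R D X z z') {g : G} (hg : g ∈ normalizer (X : Set G)) (hodd : Odd (orderOf g))
    {r : G} (hr : r ∈ R) : ∃ e, (e = 1 ∨ e = z) ∧ ∃ s ∈ R, g * r * g⁻¹ = e * s := by
  have h1 : r ∈ CX M X := h.mem_CX_iff.2 ⟨1, Or.inl rfl, r, hr, (one_mul r).symm⟩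
  exact h.mem_CX_iff.1 (mem_normalizer_conj (h.normalizer_CX hg hodd) h1)

omit [Finite G] in
theorem z_ne (h : Dat M C R D X z z') : z ≠ z' := by
  intro e
  exact h.full.z1 (h.inf z h.full.zR (by rw [e]; exact h.mq.zR))

omit [Finite G] in
theorem zP (h : Dat M C R D X z z') : IsPGroup 2 (zpowers z) := by
  have : Fact (Nat.Prime 2) := ⟨Nat.prime_two⟩
  exact h.two.to_le (zpowers_le.2 (h.M_le h.full.zR))

/-- if `z'` is the only central involution of `R`, it is centralised by `g` -/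
theorem commute_z' (h : Dat M C R D X z z') {g : G} (hg : g ∈ normalizer (X : Set G)) (hodd : Odd (orderOf g))
    (hZ : ∀ a ∈ ZR R, a * a = 1 → a = 1 ∨ a = z') : Commute g z' := by
  obtain ⟨e, he, s, hs, e1⟩ := h.E_R hg hodd h.mq.zR
  have heM : e ∈ M := by rcases he with rfl | rfl; exacts [one_mem _, h.full.zR]
  -- `s` is central in `R`
  have hsZ : s ∈ ZR R := by
    refine mem_ZR.2 ⟨hs, fun r hr => ?_⟩
    have h1 : r ∈ CX M X := h.mem_CX_iff.2 ⟨1, Or.inl rfl, r, hr, (one_mul r).symm⟩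
    have h2 := mem_normalizer_conj' (h.normalizer_CX hg hodd) h1
    obtain ⟨e', he', t, ht, e2⟩ := h.mem_CX_iff.1 h2
    have heM' : e' ∈ M := by rcases he' with rfl | rfl; exacts [one_mem _, h.full.zR]
    have h3 : z' * (g⁻¹ * r * g) = (g⁻¹ * r * g) * z' := by
      rw [e2]
      have c1 := h.mq.zcen ht
      have c2 := h.mr e' heM' z' h.mq.zR
      calc z' * (e' * t) = (z' * e') * t := by group
        _ = e' * (z' * t) := by rw [← c2]; group
        _ = _ := by rw [← c1]; group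
    have h4 := conj_comm (n := g) h3
    have e3 : g * (g⁻¹ * r * g) * g⁻¹ = r := by group
    rw [e3, e1] at h4
    exact (h.comm_R_iff heM hs hr).1 h4
  have hee : e * e = 1 := by rcases he with rfl | rfl; exacts [one_mul 1, h.full.zz]
  have hss : s * s = 1 := by
    have h1 : (e * e) * (s * s) = 1 := by
      rw [← h.mul_eq heM hs, ← e1, ← conj_mul', h.mq.zz]; group
    rwa [hee, one_mul] at h1
  rcases hZ s hsZ hss with rfl | rfl
  · exfalso
    rw [mul_one] at e1
    rcases he with rfl | rfl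
    · have : z' = 1 := by
        have := congrArg (fun t => g⁻¹ * t * g) e1
        simpa [mul_assoc] using this
      exact h.mq.z1 this
    · have h1 := conj_eq_iff_commute.2 (h.E_z hg hodd)
      rw [← h1] at e1
      have : z' = e := by
        have := congrArg (fun t => g⁻¹ * t * g) e1
        simpa [mul_assoc] using this
      exact h.z_ne this.symm
  · refine commute_of h.zP hodd (a := e) ((mem_zp h.full.zz).2 he) e1 ?_
    rcases he with rfl | rfl
    · exact Commute.one_right g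
    · exact h.E_z hg hodd

/-- if `R` is full, `g` centralises `X` -/
theorem commute_of_full (h : Dat M C R D X z z') (hR : Full R D z') {g : G}
    (hg : g ∈ normalizer (X : Set G)) (hodd : Odd (orderOf g)) : ∀ x ∈ X, Commute g x := by
  have hZ : ∀ a ∈ ZR R, a = 1 ∨ a = z' := fun a ha => hR.mem_center (mem_ZR.1 ha).1 (mem_ZR.1 ha).2
  have hz' : Commute g z' := h.commute_z' hg hodd fun a ha _ => hZ a ha
  have hz : Commute g z := h.E_z hg hodd
  have T : Triv R D (zpowers z) (CX M X) z' g :=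
    { full := hR
      two := h.two.to_le inf_le_left
      zc := fun a ha b hb => by
        rcases (mem_zp h.full.zz).1 ha with rfl | rfl <;> rcases (mem_zp h.full.zz).1 hb with rfl | rfl <;> simp
      rz := fun r hr a ha => by
        rcases (mem_zp h.full.zz).1 ha with rfl | rfl
        · simp
        · exact (h.mr _ h.full.zR r hr).symm
      inf := fun x hx hx' => by
        rcases (mem_zp h.full.zz).1 hx' with rfl | rfl
        · rfl
        · exact h.inf _ h.full.zR hx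
      mem := fun x => by
        rw [h.mem_CX_iff]
        constructor
        · rintro ⟨e, he, r, hr, rfl⟩
          refine ⟨r, hr, e, (mem_zp h.full.zz).2 he, h.mr e ?_ r hr⟩
          rcases he with rfl | rfl; exacts [one_mem _, h.full.zR]
        · rintro ⟨r, hr, e, he, rfl⟩
          have he := (mem_zp h.full.zz).1 he
          refine ⟨e, he, r, hr, (h.mr e ?_ r hr).symm⟩
          rcases he with rfl | rfl; exacts [one_mem _, h.full.zR]
      gn := h.normalizer_CX hg hodd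
      odd := hodd }
  have hcR : ∀ r ∈ R, Commute g r := by
    intro r hr
    obtain ⟨v, hv, e1⟩ := T.conj_R hr
    refine commute_of (h.two.to_le inf_le_left : IsPGroup 2 (CX M X)) hodd (T.mem_N_iff.1 hv).1 e1 ?_
    obtain ⟨e, he, a, ha, rfl⟩ := T.mem_N.1 hv
    have c1 : Commute g e := by rcases he with rfl | rfl; exacts [Commute.one_right g, hz']
    have c2 : Commute g a := by
      rcases (mem_zp h.full.zz).1 ha with rfl | rfl; exacts [Commute.one_right g, hz]
    exact c1.mul_right c2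
  have hcM : ∀ m ∈ M, Commute g m := by
    intro m hm
    obtain ⟨e, he, a, ha, e1⟩ := h.E_M hg hodd hm
    have heM : e ∈ M := by rcases he with rfl | rfl; exacts [one_mem _, h.full.zR]
    refine commute_of h.two hodd (a := e * a) (mul_mem (h.M_le heM) (h.R_le (mem_ZR.1 ha).1)) e1 ?_
    have c1 : Commute g e := by rcases he with rfl | rfl; exacts [Commute.one_right g, hz]
    have c2 : Commute g a := hcR a (mem_ZR.1 ha).1
    exact c1.mul_right c2
  intro x hx
  obtain ⟨m, hm, r, hr, rfl⟩ := (h.mem x).1 hx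
  exact (hcM m hm).mul_right (hcR r hr)

/-- if `R` is cyclic, `g` centralises `X` -/
theorem commute_of_cyclic (h : Dat M C R D X z z') (hR : IsCyclic R) {g : G}
    (hg : g ∈ normalizer (X : Set G)) (hodd : Odd (orderOf g)) : ∀ x ∈ X, Commute g x := by
  have hcomm : ∀ a ∈ R, ∀ b ∈ R, a * b = b * a := by
    intro a ha b hb
    have h1 : (⟨a, ha⟩ : R) * ⟨b, hb⟩ = ⟨b, hb⟩ * ⟨a, ha⟩ := IsCyclic.commGroup.mul_comm _ _
    exact congrArg Subtype.val h1
  have huniq : ∀ a ∈ R, a * a = 1 → a = 1 ∨ a = z' := by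
    intro a ha haa
    classical
    by_contra hcon
    push Not at hcon
    -- three solutions of `x ^ 2 = 1` in a cyclic group
    have hf : Fintype R := Fintype.ofFinite _
    have h1 := IsCyclic.card_pow_eq_one_le (α := R) (n := 2) (by norm_num)
    have h2 : ({1, (⟨z', h.mq.zR⟩ : R), ⟨a, ha⟩} : Finset R) ⊆ Finset.univ.filter (fun x : R => x ^ 2 = 1) := by
      intro x hx
      simp only [Finset.mem_insert, Finset.mem_singleton] at hx
      rw [Finset.mem_filter]
      refine ⟨Finset.mem_univ _, ?_⟩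
      rcases hx with rfl | rfl | rfl
      · simp
      · rw [pow_two]; exact Subtype.ext h.mq.zz
      · rw [pow_two]; exact Subtype.ext haa
    have h3 : ({1, (⟨z', h.mq.zR⟩ : R), ⟨a, ha⟩} : Finset R).card = 3 := by
      rw [Finset.card_insert_of_notMem, Finset.card_insert_of_notMem, Finset.card_singleton]
      · rw [Finset.mem_singleton]
        intro e
        exact hcon.2 (congrArg Subtype.val e).symm
      · simp only [Finset.mem_insert, Finset.mem_singleton, not_or]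
        refine ⟨fun e => h.mq.z1 (congrArg Subtype.val e).symm, fun e => hcon.1 (congrArg Subtype.val e).symm⟩
    have := Finset.card_le_card h2
    omega
  have hz' : Commute g z' := h.commute_z' hg hodd fun a ha haa => huniq a (mem_ZR.1 ha).1 haa
  have hz : Commute g z := h.E_z hg hodd
  -- squares
  let K : Subgroup G :=
    { carrier := {x | ∃ r ∈ R, x = r * r}
      one_mem' := ⟨1, one_mem _, by simp⟩
      mul_mem' := by
        rintro _ _ ⟨a, ha, rfl⟩ ⟨b, hb, rfl⟩
        refine ⟨a * b, mul_mem ha hb, ?_⟩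
        have := hcomm a ha b hb
        calc a * a * (b * b) = a * (a * b) * b := by group
          _ = _ := by nth_rewrite 1 [this]; group
      inv_mem' := by
        rintro _ ⟨a, ha, rfl⟩
        exact ⟨a⁻¹, inv_mem ha, by group⟩ }
  have hKR : K ≤ R := by
    rintro _ ⟨a, ha, rfl⟩
    exact mul_mem ha ha
  have hKc : IsCyclic K := isCyclic_of_injective (Subgroup.inclusion hKR) (Subgroup.inclusion_injective _)
  have hcK : ∀ r ∈ R, Commute g (r * r) := by
    intro r hr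
    refine commute_cyclic (h.two.to_le (hKR.trans h.R_le)) hKc hodd ?_ ⟨r, hr, rfl⟩
    rintro _ ⟨r, hr, rfl⟩
    obtain ⟨e, he, s, hs, e1⟩ := h.E_R hg hodd hr
    have heM : e ∈ M := by rcases he with rfl | rfl; exacts [one_mem _, h.full.zR]
    refine ⟨s, hs, ?_⟩
    rw [conj_mul', e1, h.mul_eq heM hs]
    have hee : e * e = 1 := by rcases he with rfl | rfl; exacts [one_mul 1, h.full.zz]
    rw [hee, one_mul]
  have hcR : ∀ r ∈ R, Commute g r := by
    intro r hr
    obtain ⟨e, he, s, hs, e1⟩ := h.E_R hg hodd hr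
    have heM : e ∈ M := by rcases he with rfl | rfl; exacts [one_mem _, h.full.zR]
    have hee : e * e = 1 := by rcases he with rfl | rfl; exacts [one_mul 1, h.full.zz]
    have h1 : s * s = r * r := by
      have h2 : g * (r * r) * g⁻¹ = s * s := by
        rw [conj_mul', e1, h.mul_eq heM hs, hee, one_mul]
      rw [← h2, conj_eq_iff_commute.2 (hcK r hr)]
    have h2 : s * r⁻¹ = 1 ∨ s * r⁻¹ = z' := by
      apply huniq _ (mul_mem hs (inv_mem hr))
      have := hcomm s hs _ (inv_mem hr)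
      calc s * r⁻¹ * (s * r⁻¹) = s * (r⁻¹ * s) * r⁻¹ := by group
        _ = (s * s) * (r * r)⁻¹ := by rw [← this]; group
        _ = 1 := by rw [h1]; group
    refine commute_of h.two hodd (a := e * (s * r⁻¹))
      (mul_mem (h.M_le heM) (h.R_le (mul_mem hs (inv_mem hr)))) (by rw [e1]; group) ?_
    have c1 : Commute g e := by rcases he with rfl | rfl; exacts [Commute.one_right g, hz]
    have c2 : Commute g (s * r⁻¹) := by rcases h2 with h2 | h2 <;> rw [h2]; exacts [Commute.one_right g, hz']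
    exact c1.mul_right c2
  have hcM : ∀ m ∈ M, Commute g m := by
    intro m hm
    obtain ⟨e, he, a, ha, e1⟩ := h.E_M hg hodd hm
    have heM : e ∈ M := by rcases he with rfl | rfl; exacts [one_mem _, h.full.zR]
    refine commute_of h.two hodd (a := e * a) (mul_mem (h.M_le heM) (h.R_le (mem_ZR.1 ha).1)) e1 ?_
    have c1 : Commute g e := by rcases he with rfl | rfl; exacts [Commute.one_right g, hz]
    have c2 : Commute g a := hcR a (mem_ZR.1 ha).1
    exact c1.mul_right c2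
  intro x hx
  obtain ⟨m, hm, r, hr, rfl⟩ := (h.mem x).1 hx
  exact (hcM m hm).mul_right (hcR r hr)

end Dat

/-- the four types -/
theorem MQ.types [Finite G] {R D : Subgroup G} {z : G} (h : MQ R D z) :
    IsCyclic R ∨ Full R D z ∨
      ((∀ a ∈ D, a = 1 ∨ a = z) ∧ ∃ v ∈ R, v ∉ D ∧ v * v = 1) ∨
      ((∃ i ∈ D, i * i = z) ∧ (∀ a ∈ D, a * a * (a * a) = 1) ∧ ∃ w ∈ R, w ∉ D ∧ w * w = z) := by
  by_cases hRD : R ≤ D
  · left
    have : R = D := le_antisymm hRD h.le
    rw [this]; exact h.cyc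
  obtain ⟨w, hw, hwD⟩ := SetLike.not_le_iff_exists.1 hRD
  by_cases h4 : ∃ a ∈ D, a * a * (a * a) ≠ 1
  · exact Or.inr (Or.inl { toMQ := h, w0 := ⟨w, hw, hwD⟩, big := Or.inl h4 })
  push Not at h4
  by_cases h2 : ∃ a ∈ D, a * a ≠ 1
  · obtain ⟨i, hi, hii⟩ := h2
    have hiz : i * i = z := (h.uniq _ (mul_mem hi hi) (h4 i hi)).resolve_left hii
    by_cases hinv : ∀ w ∈ R, w ∉ D → w * w = 1
    · exact Or.inr (Or.inl { toMQ := h, w0 := ⟨w, hw, hwD⟩, big := Or.inr ⟨⟨i, hi, hiz⟩, hinv⟩ })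
    · push Not at hinv
      obtain ⟨v, hv, hvD, hvv⟩ := hinv
      exact Or.inr (Or.inr (Or.inr ⟨⟨i, hi, hiz⟩, h4, v, hv, hvD, (h.out v hv hvD).resolve_left hvv⟩))
  · push Not at h2
    have hD : ∀ a ∈ D, a = 1 ∨ a = z := fun a ha => h.uniq a ha (h2 a ha)
    rcases h.out w hw hwD with hww | hww
    · exact Or.inr (Or.inr (Or.inl ⟨hD, w, hw, hwD, hww⟩))
    · left
      have hgen : R ≤ zpowers w := by
        intro r hr
        by_cases hrD : r ∈ D
        · rcases hD r hrD with rfl | rfl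
          · exact one_mem _
          · rw [← hww]; exact mul_mem (mem_zpowers w) (mem_zpowers w)
        · have e : r = (r * w) * w⁻¹ := by group
          have h1 := h.idx r hr hrD w hw hwD
          rw [e]
          refine mul_mem ?_ (inv_mem (mem_zpowers w))
          rcases hD _ h1 with h5 | h5 <;> rw [h5]
          · exact one_mem _
          · rw [← hww]; exact mul_mem (mem_zpowers w) (mem_zpowers w)
      exact isCyclic_of_injective (Subgroup.inclusion hgen) (Subgroup.inclusion_injective _)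

end Cfsg.Agent.H301.Data
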