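import Mathlib
import Cfsg.Agent.H301.Ess

/-!
# Essential subgroups `X = M × V`, `V` a four-group

The normaliser of `X` normalises a four-group `W`, `W × Z(M) = V × Z(M)`, and the elements of odd order of `N_G(X)`
centralise a complement.
-/

set_option autoImplicit false
set_option linter.unusedSectionVars false
set_option linter.unusedVariables false

namespace Cfsg.Agent.H301.Data

open Subgroup
open Cfsg.Agent.Lib.GoldschmidtFusion
open Cfsg.Agent.Lib
open Cfsg.Agent.H301.Cop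
open Cfsg.Agent.StdRank2.Split (CM mem_CM le_normalizer_CM le_of_sylow)
open scoped commutatorElement

variable {G : Type*} [Group G]

/-- the output of the local analysis of an essential subgroup `X ≥ M` -/
structure Out (M C M' C' X W : Subgroup G) (z z' : G) : Prop where
  o1 : ∀ x ∈ W, ∃ e, (e = 1 ∨ e = z) ∧ ∃ r ∈ X ⊓ M', x = e * r
  o2 : z ∉ W
  o3 : ∀ r ∈ X ⊓ M', r ∈ W ∨ z * r ∈ W
  o4 : ∀ r ∈ X ⊓ M', r ∈ C' → r ∈ W ∧ (r = 1 ∨ r = z' ∨ (r * r = z' ∧ ∃ a ∈ C', a * a = r))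
  o5 : normalizer (X : Set G) ≤ normalizer (W : Set G)
  o6 : ∀ x ∈ W, x ∉ C' → ∃ g ∈ normalizer (X : Set G), Odd (orderOf g) ∧ g * x * g⁻¹ ∈ C'
  o7 : ∀ m ∈ M, ∃ e, (e = 1 ∨ e = z') ∧ ∀ g ∈ normalizer (X : Set G), Odd (orderOf g) → Commute g (m * e)

/-- see the module docstring -/
structure VS (P : Sylow 2 G) (M C M' C' X : Subgroup G) (z z' v g0 u s : G) : Prop where
  pd : PD (P : Subgroup G) M C z M' C' z'
  ess : EssDefs.Ess 2 (P : Subgroup G) X
  le : M ≤ X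
  D2 : ∀ a ∈ C' ⊓ (X ⊓ M'), a = 1 ∨ a = z'
  vR : v ∈ X ⊓ M'
  vC : v ∉ C'
  vv : v * v = 1
  g0N : g0 ∈ normalizer (X : Set G)
  g0odd : Odd (orderOf g0)
  g0ne : ∃ x ∈ X, ¬ Commute g0 x
  uM : u ∈ M'
  uX : u ∉ X
  uN : u ∈ normalizer (X : Set G)
  hs : s = g0 * z' * g0⁻¹

theorem normalizer_centralizer_le {A N : Subgroup G} (h : N ≤ normalizer (A : Set G)) :
    N ≤ normalizer (centralizer (A : Set G) : Set G) := by
  intro n hn
  rw [mem_normalizer_iff]
  intro c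
  have key : ∀ n ∈ N, ∀ c ∈ centralizer (A : Set G), n * c * n⁻¹ ∈ centralizer (A : Set G) := by
    intro n hn c hc
    rw [mem_centralizer_iff] at hc ⊢
    intro a ha
    have h1 := hc _ (mem_normalizer_conj' (h hn) ha)
    calc a * (n * c * n⁻¹) = n * ((n⁻¹ * a * n) * c) * n⁻¹ := by group
      _ = n * (c * (n⁻¹ * a * n)) * n⁻¹ := by rw [h1]
      _ = _ := by group
  constructor
  · exact key n hn c
  · intro h1
    have := key _ (inv_mem hn) _ h1
    have e : n⁻¹ * (n * c * n⁻¹) * n⁻¹⁻¹ = c := by group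
    rwa [e] at this

theorem mem_cent {A : Subgroup G} {x : G} : x ∈ centralizer (A : Set G) ↔ ∀ a ∈ A, x * a = a * x := by
  rw [mem_centralizer_iff]
  exact ⟨fun h a ha => (h a ha).symm, fun h a ha => (h a ha).symm⟩

namespace VS

variable {P : Sylow 2 G} {M C M' C' X : Subgroup G} {z z' v g0 u s : G} [Finite G]

theorem dat (h : VS P M C M' C' X z z' v g0 u s) : Dat M C (X ⊓ M') (C' ⊓ (X ⊓ M')) X z z' :=
  ess_dat h.pd h.ess h.le

theorem vz (h : VS P M C M' C' X z z' v g0 u s) : v * z' = z' * v := h.pd.full'.zcen h.vR.2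

theorem memR (h : VS P M C M' C' X z z' v g0 u s) {r : G} (hr : r ∈ X ⊓ M') :
    r = 1 ∨ r = z' ∨ r = v ∨ r = v * z' := by
  by_cases hrC : r ∈ C'
  · rcases h.D2 r ⟨hrC, hr⟩ with h1 | h1
    · exact Or.inl h1
    · exact Or.inr (Or.inl h1)
  · have h1 : r * v ∈ C' := h.pd.full'.idx r hr.2 hrC v h.vR.2 h.vC
    have hvi : v⁻¹ = v := inv_eq_of_mul_eq_one_left h.vv
    rcases h.D2 _ ⟨h1, mul_mem hr h.vR⟩ with h2 | h2
    · refine Or.inr (Or.inr (Or.inl ?_))
      rw [← hvi]; exact eq_inv_of_mul_eq_one_left h2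
    · refine Or.inr (Or.inr (Or.inr ?_))
      have : r = z' * v⁻¹ := eq_mul_inv_of_mul_eq h2
      rw [this, hvi, h.vz]

theorem z'R (h : VS P M C M' C' X z z' v g0 u s) : z' ∈ X ⊓ M' := h.dat.mq.zR

/-- an element of `M'` commuting with `v` lies in `X` -/
theorem cent_v (h : VS P M C M' C' X z z' v g0 u s) {m : G} (hm : m ∈ M') (hc : m * v = v * m) : m ∈ X := by
  have key : ∀ a ∈ C', a * v = v * a → a = 1 ∨ a = z' := by
    intro a ha hav
    have e : v * a * v⁻¹ = a := by rw [← hav]; group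
    apply h.pd.full'.uniq a ha
    rcases h.pd.full'.inv v h.vR.2 h.vC a ha with e1 | e1
    · rw [e] at e1
      nth_rewrite 1 [e1]; group
    · rw [e] at e1
      have e2 : a * a = z' := by
        nth_rewrite 1 [e1]
        have := h.pd.full'.comm (inv_mem ha) h.pd.full'.zC
        rw [this]; group
      have e3 := h.pd.full'.inv4 v h.vR.2 h.vC a ha e2
      rw [e] at e3
      nth_rewrite 1 [e3]; group
  have hX : ∀ a ∈ C', a * v = v * a → a ∈ X := by
    intro a ha hav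
    rcases key a ha hav with rfl | rfl
    · exact one_mem _
    · exact h.z'R.1
  by_cases hmC : m ∈ C'
  · exact hX m hmC hc
  · have h1 := hX (m * v) (h.pd.full'.idx m hm hmC v h.vR.2 h.vC) (by rw [hc]; nth_rewrite 1 [mul_assoc]; rw [hc])
    exact (X.mul_mem_cancel_right h.vR.1).1 h1

theorem memE (h : VS P M C M' C' X z z' v g0 u s) {x : G} :
    x ∈ Dat.CX M X ↔ ∃ e, (e = 1 ∨ e = z) ∧ ∃ r ∈ X ⊓ M', x = e * r := h.dat.mem_CX_iff

theorem R_le_E (h : VS P M C M' C' X z z' v g0 u s) {r : G} (hr : r ∈ X ⊓ M') : r ∈ Dat.CX M X :=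
  h.memE.2 ⟨1, Or.inl rfl, r, hr, (one_mul r).symm⟩

theorem zE (h : VS P M C M' C' X z z' v g0 u s) : z ∈ Dat.CX M X :=
  h.memE.2 ⟨z, Or.inr rfl, 1, one_mem _, (mul_one z).symm⟩

/-- `E = C_X(M)` is the centre of `X` -/
theorem E_comm (h : VS P M C M' C' X z z' v g0 u s) {x y : G} (hx : x ∈ Dat.CX M X) (hy : y ∈ X) :
    x * y = y * x := by
  have hRR : ∀ r ∈ X ⊓ M', ∀ t ∈ X ⊓ M', r * t = t * r := by
    intro r hr t ht
    have c : Commute v z' := h.vz
    have c1 : Commute r z' := by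
      rcases h.memR hr with rfl | rfl | rfl | rfl
      exacts [Commute.one_left _, Commute.refl _, c, c.mul_left (Commute.refl _)]
    have c2 : Commute r v := by
      rcases h.memR hr with rfl | rfl | rfl | rfl
      exacts [Commute.one_left _, c.symm, Commute.refl _, (Commute.refl _).mul_left c.symm]
    have c3 : Commute r t := by
      rcases h.memR ht with rfl | rfl | rfl | rfl
      exacts [Commute.one_right _, c1, c2, c2.mul_right c1]
    exact c3
  obtain ⟨m, hm, r, hr, rfl⟩ := (h.dat.mem y).1 hy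
  obtain ⟨e, he, t, ht, rfl⟩ := h.memE.1 hx
  have heM : e ∈ M := by rcases he with rfl | rfl; exacts [one_mem _, h.pd.full.zR]
  rw [h.dat.comm_iff heM hm ht hr]
  refine ⟨?_, hRR t ht r hr⟩
  rcases he with rfl | rfl
  · simp
  · exact (h.pd.full.zcen hm).symm


theorem N_z (h : VS P M C M' C' X z z' v g0 u s) {n : G} (hn : n ∈ normalizer (X : Set G)) : Commute n z :=
  ess_comm_z h.pd h.ess h.le hn

theorem N_E (h : VS P M C M' C' X z z' v g0 u s) {n x : G} (hn : n ∈ normalizer (X : Set G))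
    (hx : x ∈ Dat.CX M X) : n * x * n⁻¹ ∈ Dat.CX M X :=
  mem_normalizer_conj (ess_CX h.pd h.ess h.le hn) hx

theorem fz (h : VS P M C M' C' X z z' v g0 u s) {e n : G} (hn : n ∈ normalizer (X : Set G)) (he : e = 1 ∨ e = z) :
    Commute n e := by
  rcases he with rfl | rfl
  exacts [Commute.one_right _, h.N_z hn]

theorem eP (h : VS P M C M' C' X z z' v g0 u s) {e : G} (he : e = 1 ∨ e = z) : e ∈ (P : Subgroup G) := by
  rcases he with rfl | rfl
  exacts [one_mem _, h.pd.zP]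

theorem v_ne (h : VS P M C M' C' X z z' v g0 u s) {e r : G} (he : e = 1 ∨ e = z) (hr : r = 1 ∨ r = z') :
    v ≠ e * r := by
  intro hv
  have heM : e ∈ M := by rcases he with rfl | rfl; exacts [one_mem _, h.pd.full.zR]
  have hrR : r ∈ X ⊓ M' := by rcases hr with rfl | rfl; exacts [one_mem _, h.z'R]
  have h1 := h.dat.inj (one_mem M) heM h.vR hrR (by rw [one_mul]; exact hv)
  apply h.vC
  rw [h1.2]
  rcases hr with rfl | rfl
  · exact one_mem _
  · exact h.pd.full'.zC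

/-- `g` odd in `N` with `g z' g⁻¹ ∈ z' ⟨z⟩` centralises `X` -/
theorem cent_of (h : VS P M C M' C' X z z' v g0 u s) {g : G} (hg : g ∈ normalizer (X : Set G))
    (hodd : Odd (orderOf g)) {e : G} (he : e = 1 ∨ e = z) (h1 : g * z' * g⁻¹ = e * z') : ∀ x ∈ X, Commute g x := by
  have hP := P.isPGroup'
  have c1 : Commute g z' := commute_of hP hodd (h.eP he) h1 (h.fz hg he)
  have hez : ∀ e, (e = 1 ∨ e = z) → ∀ r, (r = 1 ∨ r = z') → Commute g (e * r) := by
    intro e he r hr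
    refine (h.fz hg he).mul_right ?_
    rcases hr with rfl | rfl
    exacts [Commute.one_right _, c1]
  have c2 : Commute g v := by
    obtain ⟨f, hf, r, hr, e1⟩ := h.memE.1 (h.N_E hg (h.R_le_E h.vR))
    have bad : ∀ r, (r = 1 ∨ r = z') → g * v * g⁻¹ ≠ f * r := by
      intro r hr e2
      have e3 := conj_eq_iff_commute.2 (hez f hf r hr)
      rw [← e3] at e2
      have e4 := congrArg (fun t => g⁻¹ * t * g) e2
      simp only [mul_assoc, inv_mul_cancel_left, inv_mul_cancel, mul_one] at e4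
      exact h.v_ne hf hr e4
    rcases h.memR hr with rfl | rfl | rfl | rfl
    · exact absurd e1 (bad 1 (Or.inl rfl))
    · exact absurd e1 (bad _ (Or.inr rfl))
    · exact commute_of hP hodd (h.eP hf) e1 (h.fz hg hf)
    · refine commute_of hP hodd (a := f * z') (mul_mem (h.eP hf) (h.pd.symm.zP)) ?_
        (hez f hf z' (Or.inr rfl))
      rw [e1, h.vz]; group
  have c3 : ∀ r ∈ X ⊓ M', Commute g r := by
    intro r hr
    rcases h.memR hr with rfl | rfl | rfl | rfl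
    exacts [Commute.one_right _, c1, c2, c2.mul_right c1]
  have c4 : ∀ m ∈ M, Commute g m := by
    intro m hm
    obtain ⟨e, he, a, ha, e1⟩ := h.dat.E_M hg hodd hm
    refine commute_of hP hodd (a := e * a) (mul_mem (h.eP he) (h.pd.M'_le (Dat.mem_ZR.1 ha).1.2)) e1 ?_
    exact (h.fz hg he).mul_right (c3 a (Dat.mem_ZR.1 ha).1)
  intro x hx
  obtain ⟨m, hm, r, hr, rfl⟩ := (h.dat.mem x).1 hx
  exact (c4 m hm).mul_right (c3 r hr)

theorem sE (h : VS P M C M' C' X z z' v g0 u s) : s ∈ Dat.CX M X := by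
  rw [h.hs]; exact h.N_E h.g0N (h.R_le_E h.z'R)

theorem ss (h : VS P M C M' C' X z z' v g0 u s) : s * s = 1 := by
  rw [h.hs, ← conj_mul', h.pd.full'.zz]; group

/-- `s ∈ v ⟨z, z'⟩` -/
theorem s_eq (h : VS P M C M' C' X z z' v g0 u s) : ∃ e, (e = 1 ∨ e = z) ∧ ∃ r, (r = 1 ∨ r = z') ∧ s = e * (v * r) := by
  obtain ⟨e, he, r, hr, e1⟩ := h.memE.1 h.sE
  rcases h.memR hr with rfl | rfl | rfl | rfl
  · exfalso
    -- `g0 z' g0⁻¹ = e`
    rw [h.hs, mul_one, ← conj_eq_iff_commute.2 (h.fz h.g0N he)] at e1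
    have e4 := congrArg (fun t => g0⁻¹ * t * g0) e1
    simp only [mul_assoc, inv_mul_cancel_left, inv_mul_cancel, mul_one] at e4
    rcases he with rfl | rfl
    · exact h.pd.full'.z1 e4
    · exact h.dat.z_ne e4.symm
  · exfalso
    obtain ⟨x, hx, hne⟩ := h.g0ne
    exact hne (h.cent_of h.g0N h.g0odd he (by rw [← h.hs]; exact e1) x hx)
  · exact ⟨e, he, 1, Or.inl rfl, by rw [e1, mul_one]⟩
  · exact ⟨e, he, z', Or.inr rfl, e1⟩

theorem ee (h : VS P M C M' C' X z z' v g0 u s) {e : G} (he : e = 1 ∨ e = z) : e * e = 1 := by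
  rcases he with rfl | rfl
  exacts [one_mul 1, h.pd.full.zz]

theorem ee' (h : VS P M C M' C' X z z' v g0 u s) {e : G} (he : e = 1 ∨ e = z') : e * e = 1 := by
  rcases he with rfl | rfl
  exacts [one_mul 1, h.pd.full'.zz]

theorem mul_e (h : VS P M C M' C' X z z' v g0 u s) {e f : G} (he : e = 1 ∨ e = z) (hf : f = 1 ∨ f = z) :
    e * f = 1 ∨ e * f = z := by
  rcases he with rfl | rfl <;> rcases hf with rfl | rfl
  · left; simp
  · right; simp
  · right; simp
  · left; exact h.pd.full.zz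

theorem mul_e' (h : VS P M C M' C' X z z' v g0 u s) {e f : G} (he : e = 1 ∨ e = z') (hf : f = 1 ∨ f = z') :
    e * f = 1 ∨ e * f = z' := by
  rcases he with rfl | rfl <;> rcases hf with rfl | rfl
  · left; simp
  · right; simp
  · right; simp
  · left; exact h.pd.full'.zz

theorem z'E (h : VS P M C M' C' X z z' v g0 u s) : z' ∈ Dat.CX M X := h.R_le_E h.z'R

theorem E_le (h : VS P M C M' C' X z z' v g0 u s) {x : G} (hx : x ∈ Dat.CX M X) : x ∈ X := (Dat.mem_CX.1 hx).1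

theorem cE (h : VS P M C M' C' X z z' v g0 u s) {x y : G} (hx : x ∈ Dat.CX M X) (hy : y ∈ Dat.CX M X) :
    Commute x y := h.E_comm hx (h.E_le hy)

/-- elements of `E` in terms of `z, z', s` -/
theorem memE' (h : VS P M C M' C' X z z' v g0 u s) {x : G} (hx : x ∈ Dat.CX M X) :
    ∃ e, (e = 1 ∨ e = z) ∧ (x = e ∨ x = e * z' ∨ x = e * s ∨ x = e * (s * z')) := by
  obtain ⟨f, hf, r, hr, hs⟩ := h.s_eq
  obtain ⟨e, he, t, ht, hx'⟩ := h.memE.1 hx
  have hfz : Commute f z' := by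
    rcases hf with rfl | rfl
    exacts [Commute.one_left _, h.cE h.zE h.z'E]
  -- `v = f * s * r`
  have hrz : Commute v r := by rcases hr with rfl | rfl; exacts [Commute.one_right _, h.vz]
  have hfv : f * s = v * r := by
    rw [hs, ← mul_assoc, h.ee hf, one_mul]
  have hv : v = f * s * r := by
    rw [hfv, mul_assoc, h.ee' hr, mul_one]
  rcases h.memR ht with rfl | rfl | rfl | rfl
  · exact ⟨e, he, Or.inl (by rw [hx', mul_one])⟩
  · exact ⟨e, he, Or.inr (Or.inl hx')⟩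
  · refine ⟨e * f, h.mul_e he hf, ?_⟩
    rcases hr with rfl | rfl
    · right; right; left
      rw [hx']
      nth_rewrite 1 [hv]; group
    · right; right; right
      rw [hx']
      nth_rewrite 1 [hv]; group
  · refine ⟨e * f, h.mul_e he hf, ?_⟩
    rcases hr with rfl | rfl
    · right; right; right
      rw [hx']
      nth_rewrite 1 [hv]; group
    · right; right; left
      rw [hx', ← hfv]; group

theorem s_ne (h : VS P M C M' C' X z z' v g0 u s) {e r : G} (he : e = 1 ∨ e = z) (hr : r = 1 ∨ r = z') :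
    s ≠ e * r := by
  intro hv
  obtain ⟨f, hf, t, ht, hs⟩ := h.s_eq
  have e1 : v = (f * e) * (r * t) := by
    have h1 : f * s = v * t := by rw [hs, ← mul_assoc, h.ee hf, one_mul]
    have h2 : v = f * s * t := by rw [h1, mul_assoc, h.ee' ht, mul_one]
    rw [h2, hv]; group
  exact h.v_ne (h.mul_e hf he) (h.mul_e' hr ht) e1

/-- multiplicativity of the action modulo `⟨z⟩` -/
theorem act_mul (h : VS P M C M' C' X z z' v g0 u s) {n x y f g : G} (hx : x ∈ X)
    (hf : f = 1 ∨ f = z) (hg : g = 1 ∨ g = z) (e1 : n * x * n⁻¹ = f * x) (e2 : n * y * n⁻¹ = g * y) :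
    n * (x * y) * n⁻¹ = (f * g) * (x * y) := by
  have hgx : x * g = g * x := by
    rcases hg with rfl | rfl
    · simp
    · exact h.pd.z_comm ((ess_lt h.ess).le hx)
  rw [conj_mul', e1, e2]
  calc f * x * (g * y) = f * (x * g) * y := by group
    _ = _ := by rw [hgx]; group

theorem cent_E (h : VS P M C M' C' X z z' v g0 u s) {n e f : G} (hn : n ∈ normalizer (X : Set G))
    (he : e = 1 ∨ e = z) (hf : f = 1 ∨ f = z) (h1 : n * z' * n⁻¹ = e * z') (h2 : n * s * n⁻¹ = f * s) :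
    ∀ x ∈ Dat.CX M X, Commute n x := by
  have hNE := ess_CX h.pd h.ess h.le
  have hNz : normalizer (X : Set G) ≤ normalizer (zpowers z : Set G) := by
    intro n hn
    apply mem_normalizer_of
    intro x hx
    have : Commute n x := h.fz hn ((mem_zp h.pd.full.zz).1 hx)
    rw [conj_eq_iff_commute.2 this]; exact hx
  have key : CM (normalizer (X : Set G)) (Dat.CX M X) (zpowers z) hNz ≤ centralizer (Dat.CX M X : Set G) := by
    refine le_of_sylow (T := (P : Subgroup G) ⊓ normalizer (X : Set G)) (P.isPGroup'.to_le inf_le_left)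
      (ess_dvd h.ess) (fun _ h => h.1) (le_normalizer_CM hNE) (normalizer_centralizer_le hNE) ?_ ?_
    · rintro p ⟨⟨hpP, hpN⟩, -, hp⟩
      obtain ⟨m, hm, m', hm', rfl⟩ := h.pd.dec hpP
      have e1 := hp v (h.R_le_E h.vR)
      rw [h.pd.conj_eq hm hm' h.vR.2] at e1
      have hvM : v ∈ M' := h.vR.2
      have e2 : m' * v * m'⁻¹ * v⁻¹ = 1 := by
        refine h.pd.inf ?_ (mul_mem (mul_mem (mul_mem hm' hvM) (inv_mem hm')) (inv_mem hvM))
        exact (zpowers_le.2 h.pd.full.zR) e1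
      have e3 : m' * v = v * m' := by
        have := mul_inv_eq_one.1 e2
        exact mul_inv_eq_iff_eq_mul.1 this
      have e4 : Commute (m * m') v := (show Commute m v from h.pd.comm hm h.vR.2).mul_left e3
      have e5 : Commute (m * m') z' := h.pd.symm.z_comm hpP
      rw [mem_cent]
      intro x hx
      obtain ⟨e, he, r, hr, rfl⟩ := h.memE.1 hx
      have e6 : Commute (m * m') e := h.fz hpN he
      have e7 : Commute (m * m') r := by
        rcases h.memR hr with rfl | rfl | rfl | rfl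
        exacts [Commute.one_right _, e5, e4, e4.mul_right e5]
      exact e6.mul_right e7
    · rintro w ⟨hw, hw'⟩ hodd
      rw [mem_cent]
      intro x hx
      have e1 := hw' x hx
      refine commute_of P.isPGroup' hodd (a := w * x * w⁻¹ * x⁻¹)
        ((zpowers_le.2 h.pd.zP) e1) (by group) (h.fz hw ((mem_zp h.pd.full.zz).1 e1))
  have : n ∈ CM (normalizer (X : Set G)) (Dat.CX M X) (zpowers z) hNz := by
    refine ⟨hn, fun x hx => ?_⟩
    rw [mem_zp h.pd.full.zz]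
    have hsX := h.E_le h.sE
    have hz'X := h.E_le h.z'E
    obtain ⟨a, ha, hxe⟩ := h.memE' hx
    have haX : a ∈ X := by rcases ha with rfl | rfl; exacts [one_mem _, h.E_le h.zE]
    have ea : n * a * n⁻¹ = 1 * a := by rw [one_mul]; exact conj_eq_iff_commute.2 (h.fz hn ha)
    have fin : ∀ g, (g = 1 ∨ g = z) → n * x * n⁻¹ = g * x → n * x * n⁻¹ * x⁻¹ = 1 ∨ n * x * n⁻¹ * x⁻¹ = z := by
      intro g hg e3
      rw [e3, mul_inv_cancel_right]; exact hg
    rcases hxe with rfl | rfl | rfl | rfl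
    · exact fin 1 (Or.inl rfl) ea
    · exact fin _ (h.mul_e (Or.inl rfl) he) (h.act_mul haX (Or.inl rfl) he ea h1)
    · exact fin _ (h.mul_e (Or.inl rfl) hf) (h.act_mul haX (Or.inl rfl) hf ea h2)
    · exact fin _ (h.mul_e (Or.inl rfl) (h.mul_e hf he))
        (h.act_mul haX (Or.inl rfl) (h.mul_e hf he) ea (h.act_mul hsX hf he h2 h1))
  have h3 := key this
  rw [mem_cent] at h3
  exact h3

theorem uv (h : VS P M C M' C' X z z' v g0 u s) : u * v * u⁻¹ = v * z' := by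
  have hvM : v ∈ M' := h.vR.2
  have h1 : u * v * u⁻¹ ∈ X ⊓ M' :=
    mem_inf.2 ⟨mem_normalizer_conj h.uN h.vR.1, mul_mem (mul_mem h.uM hvM) (inv_mem h.uM)⟩
  rcases h.memR h1 with e | e | e | e
  · exfalso
    have : v = 1 := by
      have := congrArg (fun t => u⁻¹ * t * u) e
      simpa [mul_assoc] using this
    exact h.vC (by rw [this]; exact one_mem _)
  · exfalso
    rw [← conj_eq_iff_commute.2 (show Commute u z' from h.pd.full'.zcen h.uM)] at e
    have e4 := congrArg (fun t => u⁻¹ * t * u) e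
    simp only [mul_assoc, inv_mul_cancel_left, inv_mul_cancel, mul_one] at e4
    exact h.vC (by rw [e4]; exact h.pd.full'.zC)
  · exact absurd (h.cent_v h.uM (conj_eq_iff_commute.1 e)) h.uX
  · exact e

theorem uz' (h : VS P M C M' C' X z z' v g0 u s) : u * z' * u⁻¹ = z' :=
  conj_eq_iff_commute.2 (show Commute u z' from h.pd.full'.zcen h.uM)

theorem us (h : VS P M C M' C' X z z' v g0 u s) : u * s * u⁻¹ = s * z' := by
  obtain ⟨f, hf, t, ht, hs⟩ := h.s_eq
  have e1 : u * f * u⁻¹ = f := conj_eq_iff_commute.2 (h.fz h.uN hf)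
  have e2 : u * t * u⁻¹ = t := by
    rcases ht with rfl | rfl
    · group
    · exact h.uz'
  have e3 : z' * t = t * z' := by rcases ht with rfl | rfl; exacts [by simp, rfl]
  rw [hs, conj_mul', conj_mul', e1, e2, h.uv]
  calc f * (v * z' * t) = f * (v * (z' * t)) := by group
    _ = _ := by rw [e3]; group

theorem sz' (h : VS P M C M' C' X z z' v g0 u s) : s * z' = z' * s := h.cE h.sE h.z'E

theorem usz (h : VS P M C M' C' X z z' v g0 u s) : u * (s * z') * u⁻¹ = s := by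
  rw [conj_mul', h.us, h.uz', mul_assoc, h.pd.full'.zz, mul_one]

theorem us' (h : VS P M C M' C' X z z' v g0 u s) : u⁻¹ * s * u = s * z' := by
  have := h.usz
  nth_rewrite 1 [← this]; group

theorem uz'' (h : VS P M C M' C' X z z' v g0 u s) : u⁻¹ * z' * u = z' := by
  have := h.uz'
  nth_rewrite 1 [← this]; group

theorem usz' (h : VS P M C M' C' X z z' v g0 u s) : u⁻¹ * (s * z') * u = s := by
  have := h.us
  rw [← this]; group

theorem g0z' (h : VS P M C M' C' X z z' v g0 u s) : g0 * z' * g0⁻¹ = s := h.hs.symm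

/-- `g0 s g0⁻¹ ∈ s z' ⟨z⟩` -/
theorem g0s_pre (h : VS P M C M' C' X z z' v g0 u s) : ∃ f, (f = 1 ∨ f = z) ∧ g0 * s * g0⁻¹ = f * (s * z') := by
  obtain ⟨e, he, h1⟩ := h.memE' (h.N_E h.g0N h.sE)
  obtain ⟨x, hx, hne⟩ := h.g0ne
  rcases h1 with h1 | h1 | h1 | h1
  · exfalso
    rw [← conj_eq_iff_commute.2 (h.fz h.g0N he)] at h1
    have e4 := congrArg (fun t => g0⁻¹ * t * g0) h1
    simp only [mul_assoc, inv_mul_cancel_left, inv_mul_cancel, mul_one] at e4
    exact h.s_ne he (Or.inl rfl) (by rw [mul_one]; exact e4)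
  · exfalso
    have e1 : g0 ^ 2 * z' * (g0 ^ 2)⁻¹ = e * z' := by
      rw [← h1, h.hs, pow_two]; group
    have := h.cent_of (pow_mem h.g0N 2) (odd_pow h.g0odd 2) he e1 x hx
    exact hne (commute_of_sq h.g0odd this)
  · exfalso
    have e1 : Commute g0 s := commute_of P.isPGroup' h.g0odd (h.eP he) h1 (h.fz h.g0N he)
    have e2 : g0 * s * g0⁻¹ = g0 * z' * g0⁻¹ := by rw [conj_eq_iff_commute.2 e1, h.g0z']
    have e3 : s = z' := by
      have e4 := congrArg (fun t => g0⁻¹ * t * g0) e2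
      simpa only [mul_assoc, inv_mul_cancel_left, inv_mul_cancel, mul_one] using e4
    exact h.s_ne (Or.inl rfl) (Or.inr rfl) (by rw [one_mul]; exact e3)
  · exact ⟨e, he, h1⟩

theorem g0s (h : VS P M C M' C' X z z' v g0 u s) : g0 * s * g0⁻¹ = s * z' := by
  obtain ⟨f, hf, h1⟩ := h.g0s_pre
  have hfc : ∀ n ∈ normalizer (X : Set G), n * f * n⁻¹ = f := fun n hn => conj_eq_iff_commute.2 (h.fz hn hf)
  have hfE : f ∈ Dat.CX M X := by rcases hf with rfl | rfl; exacts [one_mem _, h.zE]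
  have h2 : g0 * (s * z') * g0⁻¹ = f * z' := by
    rw [conj_mul', h1, h.g0z']
    have c1 : Commute z' s := h.cE h.z'E h.sE
    calc f * (s * z') * s = f * (s * (z' * s)) := by group
      _ = f * ((s * s) * z') := by rw [c1.eq]; group
      _ = _ := by rw [h.ss, one_mul]
  have hu := h.uN
  have k1 : (u * g0 * u⁻¹ * g0) * z' * (u * g0 * u⁻¹ * g0)⁻¹ = f * z' := by
    have e : (u * g0 * u⁻¹ * g0) * z' * (u * g0 * u⁻¹ * g0)⁻¹ =
        u * (g0 * (u⁻¹ * (g0 * z' * g0⁻¹) * u) * g0⁻¹) * u⁻¹ := by group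
    rw [e, h.g0z', h.us', h2, conj_mul', hfc u hu, h.uz']
  have k2 : (u * g0 * u⁻¹ * g0) * s * (u * g0 * u⁻¹ * g0)⁻¹ = 1 * s := by
    have e : (u * g0 * u⁻¹ * g0) * s * (u * g0 * u⁻¹ * g0)⁻¹ =
        u * (g0 * (u⁻¹ * (g0 * s * g0⁻¹) * u) * g0⁻¹) * u⁻¹ := by group
    have e2 : u⁻¹ * (f * (s * z')) * u = f * s := by
      have := hfc u⁻¹ (inv_mem hu)
      rw [inv_inv] at this
      calc u⁻¹ * (f * (s * z')) * u = (u⁻¹ * f * u) * (u⁻¹ * (s * z') * u) := by group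
        _ = _ := by rw [this, h.usz']
    rw [e, h1, e2, conj_mul' g0 f s, hfc g0 h.g0N, h1, ← mul_assoc f f, h.ee hf, one_mul, h.usz, one_mul]
  have hk : (u * g0 * u⁻¹ * g0) ∈ normalizer (X : Set G) :=
    mul_mem (mul_mem (mul_mem hu h.g0N) (inv_mem hu)) h.g0N
  have := h.cent_E hk hf (Or.inl rfl) k1 k2 z' h.z'E
  rw [← conj_eq_iff_commute, k1] at this
  have hf1 : f = 1 := by simpa using this
  rw [h1, hf1, one_mul]

theorem g0sz (h : VS P M C M' C' X z z' v g0 u s) : g0 * (s * z') * g0⁻¹ = z' := by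
  rw [conj_mul', h.g0s, h.g0z', mul_assoc, ← h.sz', ← mul_assoc, h.ss, one_mul]

/-- the four-group -/
def W4 (h : VS P M C M' C' X z z' v g0 u s) : Subgroup G := mulS (zpowers s) (zpowers z') (by
  intro a ha b hb
  rcases (mem_zp h.ss).1 ha with rfl | rfl <;> rcases (mem_zp h.pd.full'.zz).1 hb with rfl | rfl
  · simp
  · simp
  · simp
  · exact h.sz')

theorem mem_W (h : VS P M C M' C' X z z' v g0 u s) {x : G} :
    x ∈ h.W4 ↔ x = 1 ∨ x = z' ∨ x = s ∨ x = s * z' := by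
  rw [W4, mem_mulS]
  constructor
  · rintro ⟨a, ha, b, hb, rfl⟩
    rcases (mem_zp h.ss).1 ha with rfl | rfl <;> rcases (mem_zp h.pd.full'.zz).1 hb with rfl | rfl
    · left; simp
    · right; left; simp
    · right; right; left; simp
    · right; right; right; rfl
  · rintro (rfl | rfl | rfl | rfl)
    · exact ⟨1, one_mem _, 1, one_mem _, by simp⟩
    · exact ⟨1, one_mem _, x, mem_zpowers _, by simp⟩
    · exact ⟨x, mem_zpowers _, 1, one_mem _, by simp⟩
    · exact ⟨s, mem_zpowers _, z', mem_zpowers _, rfl⟩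

theorem W_le (h : VS P M C M' C' X z z' v g0 u s) {x : G} (hx : x ∈ h.W4) : x ∈ Dat.CX M X := by
  rcases h.mem_W.1 hx with rfl | rfl | rfl | rfl
  exacts [one_mem _, h.z'E, h.sE, mul_mem h.sE h.z'E]

theorem g0_W (h : VS P M C M' C' X z z' v g0 u s) : g0 ∈ normalizer (h.W4 : Set G) := by
  apply mem_normalizer_of
  intro x hx
  rw [h.mem_W] at hx ⊢
  rcases hx with rfl | rfl | rfl | rfl
  · left; group
  · right; right; left; exact h.g0z'
  · right; right; right; exact h.g0s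
  · right; left; exact h.g0sz

theorem u_W (h : VS P M C M' C' X z z' v g0 u s) : u ∈ normalizer (h.W4 : Set G) := by
  apply mem_normalizer_of
  intro x hx
  rw [h.mem_W] at hx ⊢
  rcases hx with rfl | rfl | rfl | rfl
  · left; group
  · right; left; exact h.uz'
  · right; right; right; exact h.us
  · right; right; left; exact h.usz

/-- the subgroup generated by `g0` and `u` -/
def B0 (_ : VS P M C M' C' X z z' v g0 u s) : Subgroup G := closure {g0, u}

theorem B0_le (h : VS P M C M' C' X z z' v g0 u s) {K : Subgroup G} (h1 : g0 ∈ K) (h2 : u ∈ K) : h.B0 ≤ K := by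
  rw [B0, closure_le]
  rintro x (rfl | rfl)
  exacts [h1, h2]

theorem g0_B (h : VS P M C M' C' X z z' v g0 u s) : g0 ∈ h.B0 := subset_closure (Or.inl rfl)

theorem u_B (h : VS P M C M' C' X z z' v g0 u s) : u ∈ h.B0 := subset_closure (Or.inr rfl)

theorem B0_N (h : VS P M C M' C' X z z' v g0 u s) : h.B0 ≤ normalizer (X : Set G) := h.B0_le h.g0N h.uN

/-- every element of `N_G(X)` is a product of an element of `⟨g0, u⟩` and an element centralising `E` -/
theorem decomp (h : VS P M C M' C' X z z' v g0 u s) {n : G} (hn : n ∈ normalizer (X : Set G)) :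
    ∃ b ∈ h.B0, ∀ x ∈ Dat.CX M X, Commute (b * n) x := by
  have hbN := h.B0_N
  -- reduction to `n z' n⁻¹ ∈ z' ⟨z⟩`
  have h1 : ∃ b ∈ h.B0, ∃ e, (e = 1 ∨ e = z) ∧ (b * n) * z' * (b * n)⁻¹ = e * z' := by
    obtain ⟨e, he, h1⟩ := h.memE' (h.N_E hn h.z'E)
    have hc : ∀ n, n ∈ normalizer (X : Set G) → n * e * n⁻¹ = e := fun n hn => conj_eq_iff_commute.2 (h.fz hn he)
    rcases h1 with h1 | h1 | h1 | h1
    · exfalso
      rw [← hc n hn] at h1
      have e4 := congrArg (fun t => n⁻¹ * t * n) h1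
      simp only [mul_assoc, inv_mul_cancel_left, inv_mul_cancel, mul_one] at e4
      rcases he with rfl | rfl
      · exact h.pd.full'.z1 e4
      · exact h.dat.z_ne e4.symm
    · exact ⟨1, one_mem _, e, he, by rw [one_mul]; exact h1⟩
    · refine ⟨g0 * g0, mul_mem h.g0_B h.g0_B, e, he, ?_⟩
      have e1 : g0 * g0 * n * z' * (g0 * g0 * n)⁻¹ = g0 * (g0 * (n * z' * n⁻¹) * g0⁻¹) * g0⁻¹ := by group
      rw [e1, h1, conj_mul' g0 e s, hc g0 h.g0N, h.g0s, conj_mul' g0 e (s * z'), hc g0 h.g0N, h.g0sz]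
    · refine ⟨g0, h.g0_B, e, he, ?_⟩
      have e1 : g0 * n * z' * (g0 * n)⁻¹ = g0 * (n * z' * n⁻¹) * g0⁻¹ := by group
      rw [e1, h1, conj_mul' g0 e (s * z'), hc g0 h.g0N, h.g0sz]
  obtain ⟨b, hb, e, he, h1⟩ := h1
  have hbn : b * n ∈ normalizer (X : Set G) := mul_mem (hbN hb) hn
  obtain ⟨f, hf, h2⟩ := h.memE' (h.N_E hbn h.sE)
  have hc : ∀ n, n ∈ normalizer (X : Set G) → n * f * n⁻¹ = f := fun n hn => conj_eq_iff_commute.2 (h.fz hn hf)
  have bad : ∀ g, (g = 1 ∨ g = z) → ∀ y, (y = 1 ∨ y = z') → (b * n) * (s * y) * (b * n)⁻¹ = g → False := by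
    intro g hg y hy e1
    rw [← conj_eq_iff_commute.2 (h.fz hbn hg)] at e1
    have e4 := congrArg (fun t => (b * n)⁻¹ * t * (b * n)) e1
    have e5 : ∀ x : G, (b * n)⁻¹ * ((b * n) * x * (b * n)⁻¹) * (b * n) = x := fun x => by group
    simp only [e5] at e4
    refine h.s_ne hg hy ?_
    rw [← e4, mul_assoc, h.ee' hy, mul_one]
  rcases h2 with h2 | h2 | h2 | h2
  · exact (bad f hf 1 (Or.inl rfl) (by rw [mul_one]; exact h2)).elim
  · refine (bad (f * e) (h.mul_e hf he) z' (Or.inr rfl) ?_).elim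
    rw [conj_mul', h2, h1]
    have c1 : z' * e = e * z' := by
      rcases he with rfl | rfl
      · simp
      · exact h.pd.z_comm h.pd.symm.zP
    calc f * z' * (e * z') = f * (z' * e) * z' := by group
      _ = (f * e) * (z' * z') := by rw [c1]; group
      _ = _ := by rw [h.pd.full'.zz, mul_one]
  · exact ⟨b, hb, h.cent_E hbn he hf h1 h2⟩
  · refine ⟨u * b, mul_mem h.u_B hb, ?_⟩
    have e1 : u * b * n = u * (b * n) := by group
    rw [e1]
    refine h.cent_E (mul_mem h.uN hbn) he hf ?_ ?_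
    · have e2 : u * (b * n) * z' * (u * (b * n))⁻¹ = u * ((b * n) * z' * (b * n)⁻¹) * u⁻¹ := by group
      rw [e2, h1, conj_mul', h.uz', conj_eq_iff_commute.2 (h.fz h.uN he)]
    · have e2 : u * (b * n) * s * (u * (b * n))⁻¹ = u * ((b * n) * s * (b * n)⁻¹) * u⁻¹ := by group
      rw [e2, h2, conj_mul', h.usz, conj_eq_iff_commute.2 (h.fz h.uN hf)]

theorem N_W (h : VS P M C M' C' X z z' v g0 u s) : normalizer (X : Set G) ≤ normalizer (h.W4 : Set G) := by
  intro n hn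
  obtain ⟨b, hb, hc⟩ := h.decomp hn
  have h1 : b * n ∈ normalizer (h.W4 : Set G) := by
    apply mem_normalizer_of
    intro x hx
    rw [conj_eq_iff_commute.2 (hc x (h.W_le hx))]; exact hx
  exact ((normalizer (h.W4 : Set G)).mul_mem_cancel_left (h.B0_le h.g0_W h.u_W hb)).1 h1

/-- elements of odd order act trivially on `X / E` -/
theorem odd_CM (h : VS P M C M' C' X z z' v g0 u s) {g x : G} (hg : g ∈ normalizer (X : Set G))
    (hodd : Odd (orderOf g)) (hx : x ∈ X) : g * x * g⁻¹ * x⁻¹ ∈ Dat.CX M X := by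
  obtain ⟨m, hm, r, hr, rfl⟩ := (h.dat.mem x).1 hx
  obtain ⟨e, he, a, ha, e1⟩ := h.dat.E_M hg hodd hm
  have heE : e ∈ Dat.CX M X := by rcases he with rfl | rfl; exacts [one_mem _, h.zE]
  have hrE := h.R_le_E hr
  have h1 := h.N_E hg hrE
  have c1 := h.E_comm (mul_mem h1 (inv_mem hrE)) (h.le hm)
  have e2 : g * (m * r) * g⁻¹ * (m * r)⁻¹ = (e * a) * (g * r * g⁻¹ * r⁻¹) := by
    rw [conj_mul', e1]
    calc e * a * m * (g * r * g⁻¹) * (m * r)⁻¹ = e * a * (m * (g * r * g⁻¹ * r⁻¹)) * m⁻¹ := by group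
      _ = _ := by rw [← c1]; group
  rw [e2]
  exact mul_mem (mul_mem heE (h.R_le_E (Dat.mem_ZR.1 ha).1)) (mul_mem h1 (inv_mem hrE))

/-- `K0 ≤ X C(X)` -/
theorem K0_le (h : VS P M C M' C' X z z' v g0 u s) {n : G} (hn : n ∈ normalizer (X : Set G))
    (h1 : ∀ x ∈ Dat.CX M X, Commute n x) (h2 : ∀ x ∈ X, n * x * n⁻¹ * x⁻¹ ∈ Dat.CX M X) :
    n ∈ X ⊔ centralizer (X : Set G) := by
  have hNE := ess_CX h.pd h.ess h.le
  have hNX : normalizer (X : Set G) ≤ normalizer (X : Set G) := le_rfl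
  have hNC : normalizer (X : Set G) ≤ normalizer (centralizer (Dat.CX M X : Set G) : Set G) :=
    normalizer_centralizer_le hNE
  have hNCX : normalizer (X : Set G) ≤ normalizer (centralizer (X : Set G) : Set G) :=
    normalizer_centralizer_le hNX
  have hNS : normalizer (X : Set G) ≤ normalizer ((X ⊔ centralizer (X : Set G) : Subgroup G) : Set G) := by
    intro n hn
    rw [mem_normalizer_iff_map_conj, Subgroup.map_sup, mem_normalizer_iff_map_conj.1 hn,
      mem_normalizer_iff_map_conj.1 (hNCX hn)]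
  have hinf : normalizer (X : Set G) ≤ normalizer
      ((centralizer (Dat.CX M X : Set G) ⊓ CM (normalizer (X : Set G)) X (Dat.CX M X) hNE : Subgroup G) : Set G) := by
    intro n hn
    apply mem_normalizer_of
    rintro x ⟨hx1, hx2⟩
    exact ⟨mem_normalizer_conj (hNC hn) hx1, mem_normalizer_conj (le_normalizer_CM hNX hn) hx2⟩
  have key : centralizer (Dat.CX M X : Set G) ⊓ CM (normalizer (X : Set G)) X (Dat.CX M X) hNE ≤
      X ⊔ centralizer (X : Set G) := by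
    refine le_of_sylow (T := (P : Subgroup G) ⊓ normalizer (X : Set G)) (P.isPGroup'.to_le inf_le_left)
      (ess_dvd h.ess) (fun _ h => h.2.1) hinf hNS ?_ ?_
    · rintro p ⟨⟨hpP, hpN⟩, hp, -⟩
      obtain ⟨m, hm, m', hm', rfl⟩ := h.pd.dec hpP
      have e1 := (mem_cent.1 hp) v (h.R_le_E h.vR)
      rw [← mul_inv_eq_iff_eq_mul, h.pd.conj_eq hm hm' h.vR.2, mul_inv_eq_iff_eq_mul] at e1
      exact (le_sup_left : X ≤ _) (mul_mem (h.le hm) (h.cent_v hm' e1))
    · rintro w ⟨hw, hw'⟩ hodd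
      refine (le_sup_right : centralizer (X : Set G) ≤ _) (mem_cent.2 fun x hx => ?_)
      have e1 := hw'.2 x hx
      exact commute_of P.isPGroup' hodd (a := w * x * w⁻¹ * x⁻¹) ((ess_lt h.ess).le (h.E_le e1)) (by group)
        (mem_cent.1 hw _ e1)
  exact key ⟨mem_cent.2 h1, hn, h2⟩

/-- an element of `X C(X)` acts on `M` as an element of `M` -/
theorem conj_of_XC (h : VS P M C M' C' X z z' v g0 u s) {k : G} (hk : k ∈ X ⊔ centralizer (X : Set G)) :
    ∃ a ∈ M, ∀ m ∈ M, k * m * k⁻¹ = a * m * a⁻¹ := by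
  have hC : centralizer (X : Set G) ≤ normalizer (X : Set G) := centralizer_le_normalizer _
  obtain ⟨x, hx, c, hc, rfl⟩ : ∃ x ∈ X, ∃ c ∈ centralizer (X : Set G), x * c = k := by
    rw [← SetLike.mem_coe, coe_mul_of_right_le_normalizer_left X _ hC] at hk
    exact hk
  obtain ⟨a, ha, r, hr, rfl⟩ := (h.dat.mem x).1 hx
  refine ⟨a, ha, fun m hm => ?_⟩
  have e1 : c * m = m * c := mem_cent.1 hc m (h.le hm)
  have e2 : m * r = r * m := h.dat.mr m hm r hr
  calc a * r * c * m * (a * r * c)⁻¹ = a * r * (c * m) * c⁻¹ * r⁻¹ * a⁻¹ := by group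
    _ = a * (r * m) * r⁻¹ * a⁻¹ := by rw [e1]; group
    _ = _ := by rw [← e2]; group

/-- `g0` and `u` act trivially on `X / E` -/
theorem B0_CM (h : VS P M C M' C' X z z' v g0 u s) {b x : G} (hb : b ∈ h.B0) (hx : x ∈ X) :
    b * x * b⁻¹ * x⁻¹ ∈ Dat.CX M X := by
  have hNE := ess_CX h.pd h.ess h.le
  have : h.B0 ≤ CM (normalizer (X : Set G)) X (Dat.CX M X) hNE := by
    apply h.B0_le
    · exact ⟨h.g0N, fun x hx => h.odd_CM h.g0N h.g0odd hx⟩
    · refine ⟨h.uN, fun x hx => ?_⟩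
      obtain ⟨m, hm, r, hr, rfl⟩ := (h.dat.mem x).1 hx
      have hrM : r ∈ M' := hr.2
      have c1 : u * m = m * u := (h.pd.comm hm h.uM).symm
      have h1 : u * r * u⁻¹ ∈ X ⊓ M' :=
        mem_inf.2 ⟨mem_normalizer_conj h.uN hr.1, mul_mem (mul_mem h.uM hrM) (inv_mem h.uM)⟩
      have h2 : u * r * u⁻¹ * r⁻¹ ∈ X ⊓ M' := mul_mem h1 (inv_mem hr)
      have c2 : m * (u * r * u⁻¹ * r⁻¹) = (u * r * u⁻¹ * r⁻¹) * m := h.pd.comm hm h2.2
      have e : u * (m * r) * u⁻¹ * (m * r)⁻¹ = u * r * u⁻¹ * r⁻¹ := by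
        calc u * (m * r) * u⁻¹ * (m * r)⁻¹ = (u * m) * r * u⁻¹ * r⁻¹ * m⁻¹ := by group
          _ = (m * (u * r * u⁻¹ * r⁻¹)) * m⁻¹ := by rw [c1]; group
          _ = _ := by rw [c2]; group
      rw [e]
      exact h.R_le_E h2
  exact (this hb).2 x hx

theorem prod_W (h : VS P M C M' C' X z z' v g0 u s) {w : G} (hw : w ∈ h.W4) :
    w * (g0 * (g0 * w * g0⁻¹) * g0⁻¹) = g0 * w * g0⁻¹ := by
  have c1 : Commute z' s := h.cE h.z'E h.sE
  have hz := h.pd.full'.zz
  rcases h.mem_W.1 hw with rfl | rfl | rfl | rfl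
  · group
  · rw [h.g0z', h.g0s, ← mul_assoc, c1.eq, mul_assoc, hz, mul_one]
  · rw [h.g0s, h.g0sz]
  · rw [h.g0sz, h.g0z']
    calc s * z' * s = s * (z' * s) := by group
      _ = (s * s) * z' := by rw [c1.eq]; group
      _ = z' := by rw [h.ss, one_mul]

theorem exists_y (h : VS P M C M' C' X z z' v g0 u s) {m : G} (hm : m ∈ M) :
    ∃ ζ, (ζ = 1 ∨ ζ = z') ∧ Commute g0 (m * ζ) := by
  have hmX := h.le hm
  obtain ⟨f, hf, w, hw, e1⟩ : ∃ f, (f = 1 ∨ f = z) ∧ ∃ w ∈ h.W4, g0 * m * g0⁻¹ = f * w * m := by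
    obtain ⟨f, hf, h1⟩ := h.memE' (h.odd_CM h.g0N h.g0odd hmX)
    refine ⟨f, hf, ?_⟩
    rcases h1 with h1 | h1 | h1 | h1
    · exact ⟨1, one_mem _, by rw [mul_one, ← h1]; group⟩
    · exact ⟨z', h.mem_W.2 (Or.inr (Or.inl rfl)), by rw [← h1]; group⟩
    · exact ⟨s, h.mem_W.2 (Or.inr (Or.inr (Or.inl rfl))), by rw [← h1]; group⟩
    · exact ⟨s * z', h.mem_W.2 (Or.inr (Or.inr (Or.inr rfl))), by rw [← h1]; group⟩
  set ζ := g0 * w * g0⁻¹ with hζ
  have hζW : ζ ∈ h.W4 := mem_normalizer_conj h.g0_W hw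
  have hζW2 : g0 * ζ * g0⁻¹ ∈ h.W4 := mem_normalizer_conj h.g0_W hζW
  have hprod := h.prod_W hw
  rw [← hζ] at hprod
  have hfg : g0 * f * g0⁻¹ = f := conj_eq_iff_commute.2 (h.fz h.g0N hf)
  have hfE : f ∈ Dat.CX M X := by rcases hf with rfl | rfl; exacts [one_mem _, h.zE]
  -- `g0 (m ζ) g0⁻¹ = f (m ζ)`
  have key : g0 * (m * ζ) * g0⁻¹ = f * (m * ζ) := by
    have c1 : w * m = m * w := h.E_comm (h.W_le hw) hmX
    rw [conj_mul', e1]
    calc f * w * m * (g0 * ζ * g0⁻¹) = f * (w * m) * (g0 * ζ * g0⁻¹) := by group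
      _ = f * m * (w * (g0 * ζ * g0⁻¹)) := by rw [c1]; group
      _ = _ := by rw [hprod]; group
  have hc0 : Commute g0 (m * ζ) := commute_of P.isPGroup' h.g0odd (h.eP hf) key (h.fz h.g0N hf)
  -- `f = 1`
  have hf1 : f = 1 := by
    rw [conj_eq_iff_commute.2 hc0] at key
    exact (mul_eq_right.1 key.symm)
  subst hf1
  rw [one_mul] at e1
  refine ⟨ζ, ?_, hc0⟩
  -- `k = u g0 u⁻¹ g0`
  have hk : (u * g0 * u⁻¹ * g0) ∈ h.B0 := mul_mem (mul_mem (mul_mem h.u_B h.g0_B) (inv_mem h.u_B)) h.g0_B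
  have k1 : (u * g0 * u⁻¹ * g0) * z' * (u * g0 * u⁻¹ * g0)⁻¹ = z' := by
    have e : (u * g0 * u⁻¹ * g0) * z' * (u * g0 * u⁻¹ * g0)⁻¹ =
        u * (g0 * (u⁻¹ * (g0 * z' * g0⁻¹) * u) * g0⁻¹) * u⁻¹ := by group
    rw [e, h.g0z', h.us', h.g0sz, h.uz']
  have k2 : (u * g0 * u⁻¹ * g0) * s * (u * g0 * u⁻¹ * g0)⁻¹ = s := by
    have e : (u * g0 * u⁻¹ * g0) * s * (u * g0 * u⁻¹ * g0)⁻¹ =
        u * (g0 * (u⁻¹ * (g0 * s * g0⁻¹) * u) * g0⁻¹) * u⁻¹ := by group
    rw [e, h.g0s, h.usz', h.g0s, h.usz]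
  have hkE : ∀ x ∈ Dat.CX M X, Commute (u * g0 * u⁻¹ * g0) x :=
    h.cent_E (h.B0_N hk) (Or.inl rfl) (Or.inl rfl) (by rw [one_mul]; exact k1) (by rw [one_mul]; exact k2)
  obtain ⟨a, ha, hact⟩ := h.conj_of_XC (h.K0_le (h.B0_N hk) hkE (fun x hx => h.B0_CM hk hx))
  have h3 := hact m hm
  have hum : u * m * u⁻¹ = m := conj_eq_iff_commute.2 (show Commute u m from (h.pd.comm hm h.uM).symm)
  have hum' : u⁻¹ * m * u = m := by
    calc u⁻¹ * m * u = u⁻¹ * (u * m * u⁻¹) * u := by rw [hum]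
      _ = m := by group
  have h4 : (u * g0 * u⁻¹ * g0) * m * (u * g0 * u⁻¹ * g0)⁻¹ =
      (u * (g0 * (u⁻¹ * w * u) * g0⁻¹) * u⁻¹) * (u * w * u⁻¹) * m := by
    calc (u * g0 * u⁻¹ * g0) * m * (u * g0 * u⁻¹ * g0)⁻¹ = u * (g0 * (u⁻¹ * (g0 * m * g0⁻¹) * u) * g0⁻¹) * u⁻¹ := by
          group
      _ = u * (g0 * (u⁻¹ * (w * m) * u) * g0⁻¹) * u⁻¹ := by rw [e1]
      _ = u * (g0 * ((u⁻¹ * w * u) * (u⁻¹ * m * u)) * g0⁻¹) * u⁻¹ := by group
      _ = u * (g0 * ((u⁻¹ * w * u) * m) * g0⁻¹) * u⁻¹ := by rw [hum']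
      _ = (u * (g0 * (u⁻¹ * w * u) * g0⁻¹) * u⁻¹) * (u * (g0 * m * g0⁻¹) * u⁻¹) := by group
      _ = (u * (g0 * (u⁻¹ * w * u) * g0⁻¹) * u⁻¹) * ((u * w * u⁻¹) * (u * m * u⁻¹)) := by rw [e1]; group
      _ = _ := by rw [hum]; group
  rw [h4] at h3
  have h5 : (u * (g0 * (u⁻¹ * w * u) * g0⁻¹) * u⁻¹) * (u * w * u⁻¹) ∈ M := by
    have : (u * (g0 * (u⁻¹ * w * u) * g0⁻¹) * u⁻¹) * (u * w * u⁻¹) = a * m * a⁻¹ * m⁻¹ := by
      rw [← h3]; group
    rw [this]
    exact mul_mem (mul_mem (mul_mem ha hm) (inv_mem ha)) (inv_mem hm)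
  have bad : s ∉ M := by
    intro hsM
    obtain ⟨e, he, t, ht, hse⟩ := h.memE.1 h.sE
    have heM : e ∈ M := by rcases he with rfl | rfl; exacts [one_mem _, h.pd.full.zR]
    have h6 := h.dat.inj hsM heM (one_mem _) ht (by rw [mul_one]; exact hse)
    exact h.s_ne he (Or.inl rfl) (by rw [hse, ← h6.2])
  rcases h.mem_W.1 hw with rfl | rfl | rfl | rfl
  · left; rw [hζ]; group
  · exfalso
    rw [h.uz'', h.g0z', h.us, h.uz', mul_assoc, h.pd.full'.zz, mul_one] at h5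
    exact bad h5
  · exfalso
    rw [h.us', h.g0sz, h.us, h.uz', ← mul_assoc, ← h.sz', mul_assoc, h.pd.full'.zz, mul_one] at h5
    exact bad h5
  · right; rw [hζ, h.g0sz]

theorem M_E (h : VS P M C M' C' X z z' v g0 u s) {x : G} (hx : x ∈ M) (hx' : x ∈ Dat.CX M X) : x = 1 ∨ x = z := by
  obtain ⟨e, he, t, ht, hse⟩ := h.memE.1 hx'
  have heM : e ∈ M := by rcases he with rfl | rfl; exacts [one_mem _, h.pd.full.zR]
  have h6 := h.dat.inj hx heM (one_mem _) ht (by rw [mul_one]; exact hse)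
  rw [h6.1]; exact he

theorem comm_y (h : VS P M C M' C' X z z' v g0 u s) {m ζ : G} (hm : m ∈ M) (hζ : ζ = 1 ∨ ζ = z')
    (hc : Commute g0 (m * ζ)) {g : G} (hg : g ∈ normalizer (X : Set G)) (hodd : Odd (orderOf g)) :
    Commute g (m * ζ) := by
  have hmX := h.le hm
  have hζE : ζ ∈ Dat.CX M X := by rcases hζ with rfl | rfl; exacts [one_mem _, h.z'E]
  have hyX : m * ζ ∈ X := mul_mem hmX (h.E_le hζE)
  have huy : Commute u (m * ζ) := by
    have c1 : Commute u m := (h.pd.comm hm h.uM).symm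
    have c2 : Commute u ζ := by
      rcases hζ with rfl | rfl
      exacts [Commute.one_right _, conj_eq_iff_commute.1 h.uz']
    exact c1.mul_right c2
  have hB : h.B0 ≤ centralizer ({m * ζ} : Set G) :=
    h.B0_le (mem_centralizer_singleton_iff.2 hc) (mem_centralizer_singleton_iff.2 huy)
  obtain ⟨b, hb, hcE⟩ := h.decomp hg
  have hby : Commute b (m * ζ) := mem_centralizer_singleton_iff.1 (hB hb)
  have hbz : Commute b z := h.N_z (h.B0_N hb)
  have hbg : b * g ∈ normalizer (X : Set G) := mul_mem (h.B0_N hb) hg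
  have htriv : ∀ x ∈ X, (b * g) * x * (b * g)⁻¹ * x⁻¹ ∈ Dat.CX M X := by
    intro x hx
    have h1 := h.odd_CM hg hodd hx
    have h2 := h.B0_CM hb (mem_normalizer_conj hg hx)
    have e : (b * g) * x * (b * g)⁻¹ * x⁻¹ =
        (b * (g * x * g⁻¹) * b⁻¹ * (g * x * g⁻¹)⁻¹) * (g * x * g⁻¹ * x⁻¹) := by group
    rw [e]
    exact mul_mem h2 h1
  obtain ⟨a, ha, hact⟩ := h.conj_of_XC (h.K0_le hbg hcE htriv)
  have h1 : (b * g) * (m * ζ) * (b * g)⁻¹ = (a * m * a⁻¹ * m⁻¹) * (m * ζ) := by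
    rw [conj_mul', hact m hm, conj_eq_iff_commute.2 (hcE ζ hζE)]; group
  have h2 : (a * m * a⁻¹ * m⁻¹) = 1 ∨ (a * m * a⁻¹ * m⁻¹) = z := by
    refine h.M_E (mul_mem (mul_mem (mul_mem ha hm) (inv_mem ha)) (inv_mem hm)) ?_
    have := htriv _ hyX
    rwa [h1, mul_inv_cancel_right] at this
  set f := a * m * a⁻¹ * m⁻¹ with hf
  have hbf : Commute b f := by rcases h2 with h2 | h2 <;> rw [h2]; exacts [Commute.one_right _, hbz]
  have h3 : g * (m * ζ) * g⁻¹ = f * (m * ζ) := by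
    have e : g * (m * ζ) * g⁻¹ = b⁻¹ * ((b * g) * (m * ζ) * (b * g)⁻¹) * b := by group
    rw [e, h1]
    have : Commute b (f * (m * ζ)) := hbf.mul_right hby
    calc b⁻¹ * (f * (m * ζ)) * b = b⁻¹ * (b * (f * (m * ζ))) := by rw [this.eq]; group
      _ = _ := by group
  exact commute_of P.isPGroup' hodd (h.eP h2) h3 (h.fz hg h2)

theorem W_out (h : VS P M C M' C' X z z' v g0 u s) : Out M C M' C' X h.W4 z z' where
  o1 x hx := h.memE.1 (h.W_le hx)
  o2 hz := by
    rcases h.mem_W.1 hz with e | e | e | e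
    · exact h.pd.full.z1 e
    · exact h.dat.z_ne e
    · exact h.s_ne (Or.inr rfl) (Or.inl rfl) (by rw [mul_one]; exact e.symm)
    · refine h.s_ne (Or.inr rfl) (Or.inr rfl) ?_
      rw [e, mul_assoc, h.pd.full'.zz, mul_one]
  o3 r hr := by
    obtain ⟨e, he, h1⟩ := h.memE' (h.R_le_E hr)
    have key : ∀ w, w ∈ h.W4 → r = e * w → r ∈ h.W4 ∨ z * r ∈ h.W4 := by
      intro w hw e1
      rcases he with rfl | rfl
      · left; rw [e1, one_mul]; exact hw
      · right; rw [e1, ← mul_assoc, h.pd.full.zz, one_mul]; exact hw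
    rcases h1 with h1 | h1 | h1 | h1
    · exact key 1 (one_mem _) (by rw [mul_one]; exact h1)
    · exact key _ (h.mem_W.2 (Or.inr (Or.inl rfl))) h1
    · exact key _ (h.mem_W.2 (Or.inr (Or.inr (Or.inl rfl)))) h1
    · exact key _ (h.mem_W.2 (Or.inr (Or.inr (Or.inr rfl)))) h1
  o4 r hr hrC := by
    rcases h.D2 r ⟨hrC, hr⟩ with rfl | rfl
    · exact ⟨one_mem _, Or.inl rfl⟩
    · exact ⟨h.mem_W.2 (Or.inr (Or.inl rfl)), Or.inr (Or.inl rfl)⟩
  o5 := h.N_W
  o6 x hx hxC := by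
    rcases h.mem_W.1 hx with rfl | rfl | rfl | rfl
    · exact absurd (one_mem _) hxC
    · exact absurd h.pd.full'.zC hxC
    · refine ⟨g0 ^ 2, pow_mem h.g0N 2, odd_pow h.g0odd 2, ?_⟩
      have e : g0 ^ 2 * x * (g0 ^ 2)⁻¹ = g0 * (g0 * x * g0⁻¹) * g0⁻¹ := by rw [pow_two]; group
      rw [e, h.g0s, h.g0sz]; exact h.pd.full'.zC
    · exact ⟨g0, h.g0N, h.g0odd, by rw [h.g0sz]; exact h.pd.full'.zC⟩
  o7 m hm := by
    obtain ⟨ζ, hζ, hc⟩ := h.exists_y hm
    exact ⟨ζ, hζ, fun g hg hodd => h.comm_y hm hζ hc hg hodd⟩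

end VS

/-- **Theorem.** The local analysis of an essential subgroup `X = M × V`. -/
theorem v_type {P : Sylow 2 G} {M C M' C' X : Subgroup G} {z z' v : G} [Finite G]
    (h : PD (P : Subgroup G) M C z M' C' z') (hX : EssDefs.Ess 2 (P : Subgroup G) X) (hMX : M ≤ X)
    (hD : ∀ a ∈ C' ⊓ (X ⊓ M'), a = 1 ∨ a = z') (hv : v ∈ X ⊓ M') (hvC : v ∉ C') (hvv : v * v = 1) :
    ∃ W, Out M C M' C' X W z z' ∧ ∃ g ∈ normalizer (X : Set G), Odd (orderOf g) ∧ ¬ Commute g z' := by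
  obtain ⟨g0, hg, hodd, hne⟩ := ess_odd hX
  obtain ⟨u, hu, huX, huN⟩ := ess_u h hX hMX
  have hVS : VS P M C M' C' X z z' v g0 u (g0 * z' * g0⁻¹) :=
    { pd := h, ess := hX, le := hMX, D2 := hD, vR := hv, vC := hvC, vv := hvv, g0N := hg, g0odd := hodd,
      g0ne := hne, uM := hu, uX := huX, uN := huN, hs := rfl }
  refine ⟨_, hVS.W_out, g0, hg, hodd, fun hc => ?_⟩
  exact hVS.s_ne (Or.inl rfl) (Or.inr rfl) (by rw [one_mul]; exact conj_eq_iff_commute.2 hc)

end Cfsg.Agent.H301.Data
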