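import Mathlib
import Cfsg.Agent.H301.VType

/-!
# Essential subgroups `X = M × Q`, `Q` a quaternion group of order 8

The normaliser of `X` normalises a quaternion group `W`, `W × Z(M) = Q × Z(M)`, and the elements of odd order of
`N_G(X)` centralise `M`.
-/

set_option autoImplicit false
set_option linter.unusedSectionVars false
set_option linter.unusedVariables false

namespace Cfsg.Agent.H301.Data

open Subgroup
open Cfsg.Agent.Lib.GoldschmidtFusion
open Cfsg.Agent.Lib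
open Cfsg.Agent.H301.Cop
open Cfsg.Agent.StdRank2.Split (CM mem_CM le_normalizer_CM le_of_sylow)
open scoped commutatorElement

variable {G : Type*} [Group G]

/-- see the module docstring -/
structure QA (P : Sylow 2 G) (M C M' C' X : Subgroup G) (z z' i w : G) : Prop where
  pd : PD (P : Subgroup G) M C z M' C' z'
  ess : EssDefs.Ess 2 (P : Subgroup G) X
  le : M ≤ X
  D4 : ∀ a ∈ C' ⊓ (X ⊓ M'), a * a * (a * a) = 1
  iC : i ∈ C'
  iR : i ∈ X ⊓ M'
  ii : i * i = z'
  wR : w ∈ X ⊓ M'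
  wC : w ∉ C'
  ww : w * w = z'

namespace QA

variable {P : Sylow 2 G} {M C M' C' X : Subgroup G} {z z' i w : G} [Finite G]

theorem dat (h : QA P M C M' C' X z z' i w) : Dat M C (X ⊓ M') (C' ⊓ (X ⊓ M')) X z z' :=
  ess_dat h.pd h.ess h.le

theorem z'R (h : QA P M C M' C' X z z' i w) : z' ∈ X ⊓ M' := h.dat.mq.zR

theorem zz' (h : QA P M C M' C' X z z' i w) : z' * z' = 1 := h.pd.full'.zz

theorem z'inv (h : QA P M C M' C' X z z' i w) : z'⁻¹ = z' := inv_eq_of_mul_eq_one_left h.zz'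

theorem i_inv (h : QA P M C M' C' X z z' i w) : i⁻¹ = i * z' := by
  rw [inv_eq_iff_mul_eq_one, ← mul_assoc, h.ii, h.zz']

theorem iz' (h : QA P M C M' C' X z z' i w) : i * z' = z' * i := h.pd.full'.comm h.iC h.pd.full'.zC

theorem memD (h : QA P M C M' C' X z z' i w) {a : G} (ha : a ∈ C') (haX : a ∈ X ⊓ M') :
    a = 1 ∨ a = z' ∨ a = i ∨ a = i * z' := by
  have h1 := h.D4 a ⟨ha, haX⟩
  rcases h.pd.full'.uniq _ (mul_mem ha ha) h1 with h2 | h2
  · rcases h.pd.full'.uniq _ ha h2 with h3 | h3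
    · exact Or.inl h3
    · exact Or.inr (Or.inl h3)
  · have h3 : (i⁻¹ * a) * (i⁻¹ * a) = 1 := by
      have := h.pd.full'.comm (inv_mem h.iC) ha
      calc i⁻¹ * a * (i⁻¹ * a) = (i⁻¹ * a) * (a * i⁻¹) := by rw [this]
        _ = i⁻¹ * (a * a) * i⁻¹ := by group
        _ = i⁻¹ * (i * i) * i⁻¹ := by rw [h2, h.ii]
        _ = 1 := by group
    rcases h.pd.full'.uniq _ (mul_mem (inv_mem h.iC) ha) h3 with h4 | h4
    · exact Or.inr (Or.inr (Or.inl (inv_mul_eq_one.1 h4).symm))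
    · exact Or.inr (Or.inr (Or.inr (inv_mul_eq_iff_eq_mul.1 h4)))

/-- elements of `Q` outside `C'` -/
theorem memR (h : QA P M C M' C' X z z' i w) {r : G} (hr : r ∈ X ⊓ M') (hrC : r ∉ C') :
    ∃ a ∈ C' ⊓ (X ⊓ M'), r = a * w := by
  refine ⟨r * w⁻¹, mem_inf.2 ⟨?_, mul_mem hr (inv_mem h.wR)⟩, by group⟩
  have hwM : w ∈ M' := h.wR.2
  exact h.pd.full'.idx r hr.2 hrC _ (inv_mem hwM) (fun h' => h.wC (by simpa using inv_mem h'))

theorem memE (h : QA P M C M' C' X z z' i w) {x : G} :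
    x ∈ Dat.CX M X ↔ ∃ e, (e = 1 ∨ e = z) ∧ ∃ r ∈ X ⊓ M', x = e * r := h.dat.mem_CX_iff

theorem R_le_E (h : QA P M C M' C' X z z' i w) {r : G} (hr : r ∈ X ⊓ M') : r ∈ Dat.CX M X :=
  h.memE.2 ⟨1, Or.inl rfl, r, hr, (one_mul r).symm⟩

theorem zE (h : QA P M C M' C' X z z' i w) : z ∈ Dat.CX M X :=
  h.memE.2 ⟨z, Or.inr rfl, 1, one_mem _, (mul_one z).symm⟩

theorem N_z (h : QA P M C M' C' X z z' i w) {n : G} (hn : n ∈ normalizer (X : Set G)) : Commute n z :=
  ess_comm_z h.pd h.ess h.le hn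

theorem N_E (h : QA P M C M' C' X z z' i w) {n x : G} (hn : n ∈ normalizer (X : Set G))
    (hx : x ∈ Dat.CX M X) : n * x * n⁻¹ ∈ Dat.CX M X :=
  mem_normalizer_conj (ess_CX h.pd h.ess h.le hn) hx

theorem E_le (h : QA P M C M' C' X z z' i w) {x : G} (hx : x ∈ Dat.CX M X) : x ∈ X := (Dat.mem_CX.1 hx).1

theorem eP (h : QA P M C M' C' X z z' i w) {e : G} (he : e = 1 ∨ e = z) : e ∈ (P : Subgroup G) := by
  rcases he with rfl | rfl
  exacts [one_mem _, h.pd.zP]

theorem eM (h : QA P M C M' C' X z z' i w) {e : G} (he : e = 1 ∨ e = z) : e ∈ M := by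
  rcases he with rfl | rfl
  exacts [one_mem _, h.pd.full.zR]

theorem ee (h : QA P M C M' C' X z z' i w) {e : G} (he : e = 1 ∨ e = z) : e * e = 1 := by
  rcases he with rfl | rfl
  exacts [one_mul 1, h.pd.full.zz]

theorem ee' (h : QA P M C M' C' X z z' i w) {e : G} (he : e = 1 ∨ e = z') : e * e = 1 := by
  rcases he with rfl | rfl
  exacts [one_mul 1, h.pd.full'.zz]

theorem z_cen (h : QA P M C M' C' X z z' i w) {e x : G} (he : e = 1 ∨ e = z) (hx : x ∈ X) : Commute e x := by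
  rcases he with rfl | rfl
  · exact Commute.one_left _
  · exact (show Commute x e from h.pd.z_comm ((ess_lt h.ess).le hx)).symm

theorem z'_cen (h : QA P M C M' C' X z z' i w) {e x : G} (he : e = 1 ∨ e = z') (hx : x ∈ X) : Commute e x := by
  rcases he with rfl | rfl
  · exact Commute.one_left _
  · exact (show Commute x e from h.pd.symm.z_comm ((ess_lt h.ess).le hx)).symm

/-- squares of elements of `Q` -/
theorem sq_R (h : QA P M C M' C' X z z' i w) {r : G} (hr : r ∈ X ⊓ M') : r * r = 1 ∨ r * r = z' := by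
  by_cases hrC : r ∈ C'
  · rcases h.memD hrC hr with rfl | rfl | rfl | rfl
    · left; simp
    · left; exact h.zz'
    · right; exact h.ii
    · right
      have := h.iz'
      calc i * z' * (i * z') = i * (z' * i) * z' := by group
        _ = (i * i) * (z' * z') := by rw [← this]; group
        _ = z' := by rw [h.ii, h.zz', mul_one]
  · exact h.pd.full'.out r hr.2 hrC

theorem sq_E (h : QA P M C M' C' X z z' i w) {x : G} (hx : x ∈ Dat.CX M X) : x * x = 1 ∨ x * x = z' := by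
  obtain ⟨e, he, r, hr, rfl⟩ := h.memE.1 hx
  have : e * r * (e * r) = r * r := by
    rw [h.dat.mul_eq (h.eM he) hr, h.ee he, one_mul]
  rw [this]; exact h.sq_R hr

/-- `N_G(X)` centralises `z'` -/
theorem N_z' (h : QA P M C M' C' X z z' i w) {n : G} (hn : n ∈ normalizer (X : Set G)) : Commute n z' := by
  have h1 := h.N_E hn (h.R_le_E h.iR)
  rcases h.sq_E h1 with h2 | h2
  · exfalso
    rw [← conj_mul', h.ii] at h2
    have : z' = 1 := by
      have := congrArg (fun t => n⁻¹ * t * n) h2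
      simpa [mul_assoc] using this
    exact h.pd.full'.z1 this
  · rw [← conj_mul', h.ii] at h2
    exact conj_eq_iff_commute.1 h2

theorem fz (h : QA P M C M' C' X z z' i w) {e n : G} (hn : n ∈ normalizer (X : Set G)) (he : e = 1 ∨ e = z) :
    Commute n e := by
  rcases he with rfl | rfl
  exacts [Commute.one_right _, h.N_z hn]

theorem fz' (h : QA P M C M' C' X z z' i w) {e n : G} (hn : n ∈ normalizer (X : Set G)) (he : e = 1 ∨ e = z') :
    Commute n e := by
  rcases he with rfl | rfl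
  exacts [Commute.one_right _, h.N_z' hn]

theorem iw (h : QA P M C M' C' X z z' i w) : w * i * w⁻¹ = i * z' := by
  rw [h.pd.full'.inv4 w h.wR.2 h.wC i h.iC h.ii, h.i_inv]

theorem wi (h : QA P M C M' C' X z z' i w) : i * w * i⁻¹ = w * z' := by
  have h1 : w * i = i * z' * w := mul_inv_eq_iff_eq_mul.1 h.iw
  have h2 : w * z' = z' * w := h.pd.full'.zcen h.wR.2
  have h3 := h.iz'
  rw [h.i_inv]
  calc i * w * (i * z') = i * (w * i) * z' := by group
    _ = i * (i * z' * w) * z' := by rw [h1]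
    _ = (i * i) * (z' * w) * z' := by group
    _ = (z' * z') * w * z' := by rw [h.ii]; group
    _ = _ := by rw [h.zz', one_mul]

/-- odd elements centralise `M` -/
theorem comm_M (h : QA P M C M' C' X z z' i w) {g m : G} (hg : g ∈ normalizer (X : Set G))
    (hodd : Odd (orderOf g)) (hm : m ∈ M) : Commute g m := by
  obtain ⟨e, he, a, ha, e1⟩ := h.dat.E_M hg hodd hm
  have haZ : a = 1 ∨ a = z' := by
    have haR := (Dat.mem_ZR.1 ha).1
    have hac := (Dat.mem_ZR.1 ha).2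
    have haC : a ∈ C' := h.pd.full'.mem_of_commute_sqrt h.iC h.ii haR.2 (hac i h.iR)
    rcases h.memD haC haR with h1 | h1 | h1 | h1
    · exact Or.inl h1
    · exact Or.inr h1
    · exfalso
      have := hac w h.wR
      rw [h1] at this
      apply h.wC
      exact h.pd.full'.mem_of_commute_sqrt h.iC h.ii h.wR.2 this.symm
    · exfalso
      have := hac w h.wR
      rw [h1] at this
      apply h.wC
      refine h.pd.full'.mem_of_commute_sqrt h.iC h.ii h.wR.2 ?_
      have h2 : w * z' = z' * w := h.pd.full'.zcen h.wR.2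
      have h3 : i * w * z' = w * i * z' := by
        calc i * w * z' = i * (w * z') := by group
          _ = i * z' * w := by rw [h2]; group
          _ = w * (i * z') := this
          _ = _ := by group
      exact (mul_right_cancel h3).symm
  refine commute_of P.isPGroup' hodd (a := e * a) (mul_mem (h.eP he) (h.pd.M'_le (Dat.mem_ZR.1 ha).1.2)) e1 ?_
  exact (h.fz hg he).mul_right (h.fz' hg haZ)

/-- an odd element fixing `i` modulo `⟨z, z'⟩` centralises `X` -/
theorem cent_of (h : QA P M C M' C' X z z' i w) {g e f : G} (hg : g ∈ normalizer (X : Set G))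
    (hodd : Odd (orderOf g)) (he : e = 1 ∨ e = z) (hf : f = 1 ∨ f = z') (h1 : g * i * g⁻¹ = (e * f) * i) :
    ∀ x ∈ X, Commute g x := by
  have hP := P.isPGroup'
  have hfP : f ∈ (P : Subgroup G) := by rcases hf with rfl | rfl; exacts [one_mem _, h.pd.symm.zP]
  have c1 : Commute g i := commute_of hP hodd (mul_mem (h.eP he) hfP) h1 ((h.fz hg he).mul_right (h.fz' hg hf))
  have c2 : Commute g w := by
    obtain ⟨e2, he2, r, hr, e3⟩ := h.memE.1 (h.N_E hg (h.R_le_E h.wR))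
    have hrC : r ∉ C' := by
      intro hrC
      have c3 : Commute r i := h.pd.full'.comm hrC h.iC
      have c4 : Commute (e2 * r) i := (h.z_cen he2 h.iR.1).mul_left c3
      rw [← e3, ← conj_eq_iff_commute.2 c1] at c4
      have c5 : Commute w i := by
        have := Dat.conj_comm (n := g⁻¹) c4.eq
        have e4 : ∀ x : G, g⁻¹ * (g * x * g⁻¹) * g⁻¹⁻¹ = x := fun x => by group
        rwa [e4, e4] at this
      exact h.wC (h.pd.full'.mem_of_commute_sqrt h.iC h.ii h.wR.2 c5.eq)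
    obtain ⟨a, ha, rfl⟩ := h.memR hr hrC
    refine commute_of hP hodd (a := e2 * a) (mul_mem (h.eP he2) (h.pd.M'_le ha.2.2)) (by rw [e3]; group) ?_
    refine (h.fz hg he2).mul_right ?_
    rcases h.memD ha.1 ha.2 with rfl | rfl | rfl | rfl
    exacts [Commute.one_right _, h.N_z' hg, c1, c1.mul_right (h.N_z' hg)]
  have c3 : ∀ r ∈ X ⊓ M', Commute g r := by
    have c4 : ∀ a ∈ C' ⊓ (X ⊓ M'), Commute g a := by
      intro a ha
      rcases h.memD ha.1 ha.2 with rfl | rfl | rfl | rfl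
      exacts [Commute.one_right _, h.N_z' hg, c1, c1.mul_right (h.N_z' hg)]
    intro r hr
    by_cases hrC : r ∈ C'
    · exact c4 r ⟨hrC, hr⟩
    · obtain ⟨a, ha, rfl⟩ := h.memR hr hrC
      exact (c4 a ha).mul_right c2
  intro x hx
  obtain ⟨m, hm, r, hr, rfl⟩ := (h.dat.mem x).1 hx
  exact (h.comm_M hg hodd hm).mul_right (c3 r hr)

/-- the subgroup `⟨z, z'⟩` -/
def Zz (h : QA P M C M' C' X z z' i w) : Subgroup G := mulS (zpowers z) (zpowers z') (by
  intro a ha b hb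
  rcases (mem_zp h.pd.full.zz).1 ha with rfl | rfl <;> rcases (mem_zp h.pd.full'.zz).1 hb with rfl | rfl
  · simp
  · simp
  · simp
  · exact h.pd.comm h.pd.full.zR h.pd.full'.zR)

theorem mem_Zz (h : QA P M C M' C' X z z' i w) {x : G} :
    x ∈ h.Zz ↔ ∃ e, (e = 1 ∨ e = z) ∧ ∃ f, (f = 1 ∨ f = z') ∧ x = e * f := by
  rw [Zz, mem_mulS]
  constructor
  · rintro ⟨a, ha, b, hb, rfl⟩
    exact ⟨a, (mem_zp h.pd.full.zz).1 ha, b, (mem_zp h.pd.full'.zz).1 hb, rfl⟩
  · rintro ⟨a, ha, b, hb, rfl⟩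
    exact ⟨a, (mem_zp h.pd.full.zz).2 ha, b, (mem_zp h.pd.full'.zz).2 hb, rfl⟩

theorem Zz_comm (h : QA P M C M' C' X z z' i w) {n x : G} (hn : n ∈ normalizer (X : Set G)) (hx : x ∈ h.Zz) :
    Commute n x := by
  obtain ⟨e, he, f, hf, rfl⟩ := h.mem_Zz.1 hx
  exact (h.fz hn he).mul_right (h.fz' hn hf)

theorem N_Zz (h : QA P M C M' C' X z z' i w) : normalizer (X : Set G) ≤ normalizer (h.Zz : Set G) := by
  intro n hn
  apply mem_normalizer_of
  intro x hx
  rw [conj_eq_iff_commute.2 (h.Zz_comm hn hx)]; exact hx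

theorem Zz_le (h : QA P M C M' C' X z z' i w) {x : G} (hx : x ∈ h.Zz) : x ∈ Dat.CX M X := by
  obtain ⟨e, he, f, hf, rfl⟩ := h.mem_Zz.1 hx
  refine h.memE.2 ⟨e, he, f, ?_, rfl⟩
  rcases hf with rfl | rfl
  exacts [one_mem _, h.z'R]

theorem Zz_sq (h : QA P M C M' C' X z z' i w) {x : G} (hx : x ∈ h.Zz) : x * x = 1 := by
  obtain ⟨e, he, f, hf, rfl⟩ := h.mem_Zz.1 hx
  have hfR : f ∈ X ⊓ M' := by rcases hf with rfl | rfl; exacts [one_mem _, h.z'R]
  rw [h.dat.mul_eq (h.eM he) hfR, h.ee he, h.ee' hf, mul_one]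

/-- an element of `M'` acting trivially on `Q / ⟨z'⟩` lies in `Q` -/
theorem mem_X_of (h : QA P M C M' C' X z z' i w) {m : G} (hm : m ∈ M')
    (hw : m * w * m⁻¹ = w ∨ m * w * m⁻¹ = w * z') : m ∈ X := by
  have hz'w : Commute z' w := h.z'_cen (Or.inr rfl) h.wR.1
  have iM : i ∈ M' := h.iR.2
  have wM : w ∈ M' := h.wR.2
  -- first case
  have key : ∀ m ∈ M', m * w * m⁻¹ = w → m ∈ X := by
    intro m hm hw
    have cmw : Commute m w := conj_eq_iff_commute.1 hw
    -- second reduction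
    have key2 : ∀ m ∈ M', Commute m w → Commute m i → m ∈ X := by
      intro m hm cw ci
      have hmC : m ∈ C' := h.pd.full'.mem_of_commute_sqrt h.iC h.ii hm ci
      have e1 : w * m * w⁻¹ = m := conj_eq_iff_commute.2 cw.symm
      have hmm : m * m = 1 := by
        rcases h.pd.full'.inv w wM h.wC m hmC with e2 | e2
        · rw [e1] at e2
          nth_rewrite 1 [e2]; group
        · have e3 : m * m = z' := by
            rw [e1] at e2
            have := h.pd.full'.comm (inv_mem hmC) h.pd.full'.zC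
            nth_rewrite 1 [e2]; rw [this]; group
          have e4 := h.pd.full'.inv4 w wM h.wC m hmC e3
          rw [e1] at e4
          nth_rewrite 1 [e4]; group
      rcases h.pd.full'.uniq m hmC hmm with rfl | rfl
      · exact one_mem _
      · exact h.z'R.1
    have hmi : m * i * m⁻¹ = i ∨ m * i * m⁻¹ = i * z' := by
      by_cases hmC : m ∈ C'
      · left; exact conj_eq_iff_commute.2 (h.pd.full'.comm hmC h.iC)
      · right; rw [h.pd.full'.inv4 m hm hmC i h.iC h.ii, h.i_inv]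
    rcases hmi with h1 | h1
    · exact key2 m hm cmw (conj_eq_iff_commute.1 h1)
    · have h2 : Commute (m * w) w := cmw.mul_left (Commute.refl w)
      have h3 : Commute (m * w) i := by
        rw [← conj_eq_iff_commute]
        have e : m * w * i * (m * w)⁻¹ = m * (w * i * w⁻¹) * m⁻¹ := by group
        have cz : m * z' * m⁻¹ = z' := conj_eq_iff_commute.2 (h.pd.full'.zcen hm)
        rw [e, h.iw, conj_mul', h1, cz, mul_assoc, h.zz', mul_one]
      have h4 := key2 (m * w) (mul_mem hm wM) h2 h3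
      exact (X.mul_mem_cancel_right h.wR.1).1 h4
  rcases hw with hw | hw
  · exact key m hm hw
  · have h1 : (m * i) * w * (m * i)⁻¹ = w := by
      have e : (m * i) * w * (m * i)⁻¹ = m * (i * w * i⁻¹) * m⁻¹ := by group
      have cz : m * z' * m⁻¹ = z' := conj_eq_iff_commute.2 (h.pd.full'.zcen hm)
      rw [e, h.wi, conj_mul', hw, cz, mul_assoc, h.zz', mul_one]
    have h4 := key (m * i) (mul_mem hm iM) h1
    exact (X.mul_mem_cancel_right h.iR.1).1 h4

/-- the elements acting trivially on `E / ⟨z, z'⟩` lie in `X C(X)` -/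
theorem K1_le (h : QA P M C M' C' X z z' i w) {n : G} (hn : n ∈ normalizer (X : Set G))
    (h1 : ∀ x ∈ Dat.CX M X, n * x * n⁻¹ * x⁻¹ ∈ h.Zz) : n ∈ X ⊔ centralizer (X : Set G) := by
  have hNE := ess_CX h.pd h.ess h.le
  have hNX : normalizer (X : Set G) ≤ normalizer (X : Set G) := le_rfl
  have hNCX : normalizer (X : Set G) ≤ normalizer (centralizer (X : Set G) : Set G) :=
    normalizer_centralizer_le hNX
  have hNS : normalizer (X : Set G) ≤ normalizer ((X ⊔ centralizer (X : Set G) : Subgroup G) : Set G) := by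
    intro n hn
    rw [mem_normalizer_iff_map_conj, Subgroup.map_sup, mem_normalizer_iff_map_conj.1 hn,
      mem_normalizer_iff_map_conj.1 (hNCX hn)]
  have key : CM (normalizer (X : Set G)) (Dat.CX M X) h.Zz h.N_Zz ≤ X ⊔ centralizer (X : Set G) := by
    refine le_of_sylow (T := (P : Subgroup G) ⊓ normalizer (X : Set G)) (P.isPGroup'.to_le inf_le_left)
      (ess_dvd h.ess) (fun _ h => h.1) (le_normalizer_CM hNE) hNS ?_ ?_
    · rintro p ⟨⟨hpP, hpN⟩, -, hp⟩
      obtain ⟨m, hm, m', hm', rfl⟩ := h.pd.dec hpP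
      refine (le_sup_left : X ≤ _) (mul_mem (h.le hm) (h.mem_X_of hm' ?_))
      obtain ⟨e, he, f, hf, e1⟩ := h.mem_Zz.1 (hp w (h.R_le_E h.wR))
      have wM : w ∈ M' := h.wR.2
      rw [h.pd.conj_eq hm hm' wM] at e1
      have hfM : f ∈ M' := by rcases hf with rfl | rfl; exacts [one_mem _, h.pd.full'.zR]
      have e2 : e = 1 := by
        refine h.pd.inf (h.eM he) ?_
        have : e = (m' * w * m'⁻¹ * w⁻¹) * f⁻¹ := by rw [e1]; group
        rw [this]
        exact mul_mem (mul_mem (mul_mem (mul_mem hm' wM) (inv_mem hm')) (inv_mem wM)) (inv_mem hfM)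
      rw [e2, one_mul] at e1
      have e3 : m' * w * m'⁻¹ = f * w := mul_inv_eq_iff_eq_mul.1 e1
      rw [e3]
      rcases hf with rfl | rfl
      · left; simp
      · right; exact h.z'_cen (Or.inr rfl) h.wR.1
    · rintro g ⟨hg, hw'⟩ hodd
      obtain ⟨e, he, f, hf, e1⟩ := h.mem_Zz.1 (hw' i (h.R_le_E h.iR))
      refine (le_sup_right : centralizer (X : Set G) ≤ _) (mem_cent.2 fun x hx => ?_)
      exact h.cent_of hg hodd he hf (mul_inv_eq_iff_eq_mul.1 e1) x hx
  exact key ⟨hn, h1⟩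

/-- an element of `X C(X)` acts on `E` as an element of `Q` -/
theorem conj_of_XC (h : QA P M C M' C' X z z' i w) {k : G} (hk : k ∈ X ⊔ centralizer (X : Set G)) :
    ∃ r ∈ X ⊓ M', ∀ x ∈ Dat.CX M X, k * x * k⁻¹ = r * x * r⁻¹ := by
  have hC : centralizer (X : Set G) ≤ normalizer (X : Set G) := centralizer_le_normalizer _
  obtain ⟨x, hx, c, hc, rfl⟩ : ∃ x ∈ X, ∃ c ∈ centralizer (X : Set G), x * c = k := by
    rw [← SetLike.mem_coe, coe_mul_of_right_le_normalizer_left X _ hC] at hk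
    exact hk
  obtain ⟨a, ha, r, hr, rfl⟩ := (h.dat.mem x).1 hx
  refine ⟨r, hr, fun y hy => ?_⟩
  have e1 : c * y = y * c := mem_cent.1 hc y (h.E_le hy)
  have hyr : r * y * r⁻¹ ∈ Dat.CX M X := mul_mem (mul_mem (h.R_le_E hr) hy) (inv_mem (h.R_le_E hr))
  have e2 : (r * y * r⁻¹) * a = a * (r * y * r⁻¹) := (Dat.mem_CX.1 hyr).2 a ha
  calc a * r * c * y * (a * r * c)⁻¹ = a * r * (c * y) * c⁻¹ * r⁻¹ * a⁻¹ := by group
    _ = (a * (r * y * r⁻¹)) * a⁻¹ := by rw [e1]; group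
    _ = _ := by rw [← e2]; group

/-- conjugation by `Q` is trivial modulo `⟨z'⟩` -/
theorem conj_R (h : QA P M C M' C' X z z' i w) {r x : G} (hr : r ∈ X ⊓ M') (hx : x ∈ Dat.CX M X) :
    r * x * r⁻¹ = x ∨ r * x * r⁻¹ = x * z' := by
  have ci : r * i * r⁻¹ = i ∨ r * i * r⁻¹ = i * z' := by
    by_cases hrC : r ∈ C'
    · left; exact conj_eq_iff_commute.2 (h.pd.full'.comm hrC h.iC)
    · right; rw [h.pd.full'.inv4 r hr.2 hrC i h.iC h.ii, h.i_inv]
  have cw : r * w * r⁻¹ = w ∨ r * w * r⁻¹ = w * z' := by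
    have key : ∀ a ∈ C' ⊓ (X ⊓ M'), a * w * a⁻¹ = w ∨ a * w * a⁻¹ = w * z' := by
      intro a ha
      have cz' : Commute z' w := h.z'_cen (Or.inr rfl) h.wR.1
      rcases h.memD ha.1 ha.2 with rfl | rfl | rfl | rfl
      · left; group
      · left; exact conj_eq_iff_commute.2 cz'
      · right; exact h.wi
      · right
        have e : i * z' * w * (i * z')⁻¹ = i * (z' * w * z'⁻¹) * i⁻¹ := by group
        rw [e, conj_eq_iff_commute.2 cz', h.wi]
    by_cases hrC : r ∈ C'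
    · exact key r ⟨hrC, hr⟩
    · obtain ⟨a, ha, rfl⟩ := h.memR hr hrC
      have e : a * w * w * (a * w)⁻¹ = a * w * a⁻¹ := by group
      rw [e]; exact key a ha
  have cz : r * z' * r⁻¹ = z' := conj_eq_iff_commute.2 (show Commute r z' from h.pd.full'.zcen hr.2)
  have mulc : ∀ x y, x ∈ X → y ∈ X → (r * x * r⁻¹ = x ∨ r * x * r⁻¹ = x * z') → (r * y * r⁻¹ = y ∨ r * y * r⁻¹ = y * z') →
      (r * (x * y) * r⁻¹ = x * y ∨ r * (x * y) * r⁻¹ = x * y * z') := by
    intro x y hx hy h1 h2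
    have c1 : z' * y = y * z' := h.z'_cen (Or.inr rfl) hy
    rw [conj_mul']
    rcases h1 with h1 | h1 <;> rcases h2 with h2 | h2 <;> rw [h1, h2]
    · left; rfl
    · right; group
    · right
      calc x * z' * y = x * (z' * y) := by group
        _ = _ := by rw [c1]; group
    · left
      calc x * z' * (y * z') = x * (z' * y) * z' := by group
        _ = x * y * (z' * z') := by rw [c1]; group
        _ = x * y := by rw [h.zz', mul_one]
  have cD : ∀ a ∈ C' ⊓ (X ⊓ M'), (r * a * r⁻¹ = a ∨ r * a * r⁻¹ = a * z') := by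
    intro a ha
    rcases h.memD ha.1 ha.2 with rfl | rfl | rfl | rfl
    · left; group
    · left; exact cz
    · exact ci
    · exact mulc _ _ h.iR.1 h.z'R.1 ci (Or.inl cz)
  have cR : ∀ s ∈ X ⊓ M', (r * s * r⁻¹ = s ∨ r * s * r⁻¹ = s * z') := by
    intro s hs
    by_cases hsC : s ∈ C'
    · exact cD s ⟨hsC, hs⟩
    · obtain ⟨a, ha, rfl⟩ := h.memR hs hsC
      exact mulc _ _ ha.2.1 h.wR.1 (cD a ha) cw
  obtain ⟨e, he, s, hs, rfl⟩ := h.memE.1 hx
  have ceX : e ∈ X := h.le (h.eM he)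
  have ce : r * e * r⁻¹ = e := conj_eq_iff_commute.2 (h.z_cen he hr.1).symm
  exact mulc _ _ ceX hs.1 (Or.inl ce) (cR s hs)

end QA

/-- see the module docstring -/
structure QS (P : Sylow 2 G) (M C M' C' X : Subgroup G) (z z' i w e g0 u : G) : Prop extends
    QA P M C M' C' X z z' i w where
  he : e = 1 ∨ e = z
  g0N : g0 ∈ normalizer (X : Set G)
  g0odd : Odd (orderOf g0)
  g0ne : ∃ x ∈ X, ¬ Commute g0 x
  hj : g0 * i * g0⁻¹ = e * w
  uC : u ∈ C'
  uX : u ∉ X
  uN : u ∈ normalizer (X : Set G)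

namespace QS

variable {P : Sylow 2 G} {M C M' C' X : Subgroup G} {z z' i w e g0 u : G} [Finite G]

theorem jE (h : QS P M C M' C' X z z' i w e g0 u) : e * w ∈ Dat.CX M X := h.memE.2 ⟨e, h.he, w, h.wR, rfl⟩

theorem iE (h : QS P M C M' C' X z z' i w e g0 u) : i ∈ Dat.CX M X := h.R_le_E h.iR

theorem cew (h : QS P M C M' C' X z z' i w e g0 u) : Commute e w := h.z_cen h.he h.wR.1

theorem cei (h : QS P M C M' C' X z z' i w e g0 u) : Commute e i := h.z_cen h.he h.iR.1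

theorem jj (h : QS P M C M' C' X z z' i w e g0 u) : (e * w) * (e * w) = z' := by
  have := h.cew
  calc (e * w) * (e * w) = e * (w * e) * w := by group
    _ = (e * e) * (w * w) := by rw [← this.eq]; group
    _ = z' := by rw [h.ee h.he, one_mul, h.ww]

theorem ji (h : QS P M C M' C' X z z' i w e g0 u) : (e * w) * i = i * z' * (e * w) := by
  have h1 : w * i = i * z' * w := mul_inv_eq_iff_eq_mul.1 h.iw
  have h2 : Commute e (i * z') := h.cei.mul_right (h.z_cen h.he h.z'R.1)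
  calc (e * w) * i = e * (w * i) := by group
    _ = (e * (i * z')) * w := by rw [h1]; group
    _ = _ := by rw [h2.eq]; group

/-- elements of `E` modulo `⟨z, z'⟩` -/
theorem memE4 (h : QS P M C M' C' X z z' i w e g0 u) {x : G} (hx : x ∈ Dat.CX M X) :
    ∃ t ∈ h.Zz, x = t ∨ x = t * i ∨ x = t * (e * w) ∨ x = t * (i * (e * w)) := by
  obtain ⟨f, hf, r, hr, rfl⟩ := h.memE.1 hx
  have hfe : f * e = 1 ∨ f * e = z := by
    have he := h.he
    rcases he with rfl | rfl <;> rcases hf with rfl | rfl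
    · left; simp
    · right; simp
    · right; simp
    · left; exact h.pd.full.zz
  have hfr : ∀ a ∈ C' ⊓ (X ⊓ M'), ∃ g, (g = 1 ∨ g = z') ∧ (a = g ∨ a = g * i) := by
    intro a ha
    rcases h.memD ha.1 ha.2 with rfl | rfl | rfl | rfl
    · exact ⟨1, Or.inl rfl, Or.inl rfl⟩
    · exact ⟨_, Or.inr rfl, Or.inl rfl⟩
    · exact ⟨1, Or.inl rfl, Or.inr (one_mul _).symm⟩
    · exact ⟨z', Or.inr rfl, Or.inr h.iz'⟩
  by_cases hrC : r ∈ C'
  · obtain ⟨g, hg, h1⟩ := hfr r ⟨hrC, hr⟩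
    refine ⟨f * g, h.mem_Zz.2 ⟨f, hf, g, hg, rfl⟩, ?_⟩
    rcases h1 with rfl | rfl
    · exact Or.inl rfl
    · right; left; group
  · obtain ⟨a, ha, rfl⟩ := h.memR hr hrC
    obtain ⟨g, hg, h1⟩ := hfr a ha
    have hew : f * (a * w) = f * e * (a * (e * w)) := by
      have c : Commute e a := h.z_cen h.he ha.2.1
      calc f * (a * w) = f * ((e * e) * a) * w := by rw [h.ee h.he, one_mul]; group
        _ = f * (e * (e * a)) * w := by group
        _ = _ := by rw [c.eq]; group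
    refine ⟨(f * e) * g, h.mem_Zz.2 ⟨f * e, hfe, g, hg, rfl⟩, ?_⟩
    rcases h1 with rfl | rfl
    · right; right; left
      rw [hew]; group
    · right; right; right
      rw [hew]; group

theorem ji' (h : QS P M C M' C' X z z' i w e g0 u) : (e * w) * i * (e * w)⁻¹ = i * z' := by
  rw [h.ji]; group

/-- `t ∈ ⟨z, z'⟩` is central in `X` -/
theorem tc (h : QS P M C M' C' X z z' i w e g0 u) {t x : G} (ht : t ∈ h.Zz) (hx : x ∈ X) : Commute t x := by
  obtain ⟨e, he, f, hf, rfl⟩ := h.mem_Zz.1 ht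
  exact (h.z_cen he hx).mul_left (h.z'_cen hf hx)

theorem z'Z (h : QS P M C M' C' X z z' i w e g0 u) : z' ∈ h.Zz :=
  h.mem_Zz.2 ⟨1, Or.inl rfl, z', Or.inr rfl, (one_mul _).symm⟩

theorem no_sq (h : QS P M C M' C' X z z' i w e g0 u) {x n : G} (hx : x * x = z') (ht : n * x * n⁻¹ ∈ h.Zz) : False := by
  have h1 := h.Zz_sq ht
  rw [← conj_mul', hx] at h1
  have : z' = 1 := by
    have := congrArg (fun t => n⁻¹ * t * n) h1
    simpa [mul_assoc] using this
  exact h.pd.full'.z1 this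

theorem g0ij_pre (h : QS P M C M' C' X z z' i w e g0 u) : ∃ t ∈ h.Zz, g0 * (e * w) * g0⁻¹ = t * (i * (e * w)) := by
  obtain ⟨t, ht, h1⟩ := h.memE4 (h.N_E h.g0N h.jE)
  obtain ⟨x, hx, hne⟩ := h.g0ne
  rcases h1 with h1 | h1 | h1 | h1
  · exact (h.no_sq h.jj (by rw [h1]; exact ht)).elim
  · exfalso
    obtain ⟨e1, he1, f, hf, rfl⟩ := h.mem_Zz.1 ht
    have e2 : g0 ^ 2 * i * (g0 ^ 2)⁻¹ = (e1 * f) * i := by
      rw [← h1, ← h.hj, pow_two]; group
    exact hne (commute_of_sq h.g0odd (h.cent_of (pow_mem h.g0N 2) (odd_pow h.g0odd 2) he1 hf e2 x hx))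
  · exfalso
    have htP : t ∈ (P : Subgroup G) := (ess_lt h.ess).le (h.E_le (h.Zz_le ht))
    have c1 : Commute g0 (e * w) := commute_of P.isPGroup' h.g0odd htP h1 (h.Zz_comm h.g0N ht)
    have e2 : g0 * i * g0⁻¹ = g0 * (e * w) * g0⁻¹ := by rw [conj_eq_iff_commute.2 c1, h.hj]
    have e3 : i = e * w := by
      have e4 := congrArg (fun t => g0⁻¹ * t * g0) e2
      simpa only [mul_assoc, inv_mul_cancel_left, inv_mul_cancel, mul_one] using e4
    have e4 : g0 * i * g0⁻¹ = (1 * 1) * i := by rw [h.hj, ← e3]; group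
    exact hne (h.cent_of h.g0N h.g0odd (Or.inl rfl) (Or.inl rfl) e4 x hx)
  · exact ⟨t, ht, h1⟩

theorem g0ij_of (h : QS P M C M' C' X z z' i w e g0 u) {t : G} (ht : t ∈ h.Zz)
    (h1 : g0 * (e * w) * g0⁻¹ = t * (i * (e * w))) : g0 * (i * (e * w)) * g0⁻¹ = t * i := by
  rw [conj_mul', h1, h.hj]
  have c : Commute t (e * w) := h.tc ht (h.E_le h.jE)
  have c2 : Commute z' (e * w) := h.tc h.z'Z (h.E_le h.jE)
  calc e * w * (t * (i * (e * w))) = ((e * w) * t) * (i * (e * w)) := by group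
    _ = t * ((e * w) * i) * (e * w) := by rw [← c.eq]; group
    _ = t * (i * z' * (e * w)) * (e * w) := by rw [h.ji]
    _ = t * i * z' * ((e * w) * (e * w)) := by group
    _ = t * i * (z' * z') := by rw [h.jj]; group
    _ = t * i := by rw [h.zz', mul_one]

/-- an element of `C'` normalising `X`, outside `X` -/
theorem u_sq (h : QS P M C M' C' X z z' i w e g0 u) : (u * u = i ∨ u * u = i * z') := by
  have wM : w ∈ M' := h.wR.2
  have uM : u ∈ M' := h.pd.full'.le h.uC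
  have h1 : u * w * u⁻¹ ∈ X ⊓ M' := mem_inf.2 ⟨mem_normalizer_conj h.uN h.wR.1, mul_mem (mul_mem uM wM) (inv_mem uM)⟩
  have h2 : ∃ f, (f = 1 ∨ f = z') ∧ u * w * u⁻¹ = (u * u * f) * w := by
    rcases h.pd.full'.inv w wM h.wC u h.uC with e1 | e1
    · refine ⟨1, Or.inl rfl, ?_⟩
      have e2 : w * u⁻¹ * w⁻¹ = u := by
        have : w * u⁻¹ * w⁻¹ = (w * u * w⁻¹)⁻¹ := by group
        rw [this, e1, inv_inv]
      calc u * w * u⁻¹ = u * (w * u⁻¹ * w⁻¹) * w := by group
        _ = _ := by rw [e2]; group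
    · refine ⟨z', Or.inr rfl, ?_⟩
      have e2 : w * u⁻¹ * w⁻¹ = u * z' := by
        have : w * u⁻¹ * w⁻¹ = (w * u * w⁻¹)⁻¹ := by group
        rw [this, e1, mul_inv_rev, inv_inv, h.z'inv]
        exact (h.pd.full'.comm h.uC h.pd.full'.zC).symm
      calc u * w * u⁻¹ = u * (w * u⁻¹ * w⁻¹) * w := by group
        _ = _ := by rw [e2]; group
  obtain ⟨f, hf, h2⟩ := h2
  have hfX : f ∈ X ⊓ M' := by rcases hf with rfl | rfl; exacts [one_mem _, h.z'R]
  have h3 : u * u ∈ X ⊓ M' := by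
    have : u * u = (u * w * u⁻¹) * w⁻¹ * f⁻¹ := by rw [h2]; group
    rw [this]
    exact mul_mem (mul_mem h1 (inv_mem h.wR)) (inv_mem hfX)
  rcases h.memD (mul_mem h.uC h.uC) h3 with h4 | h4 | h4 | h4
  · exfalso
    rcases h.pd.full'.uniq u h.uC h4 with rfl | rfl
    · exact h.uX (one_mem _)
    · exact h.uX h.z'R.1
  · exfalso
    have h5 : (i⁻¹ * u) * (i⁻¹ * u) = 1 := by
      have := h.pd.full'.comm (inv_mem h.iC) h.uC
      calc i⁻¹ * u * (i⁻¹ * u) = (i⁻¹ * u) * (u * i⁻¹) := by rw [this]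
        _ = i⁻¹ * (u * u) * i⁻¹ := by group
        _ = i⁻¹ * (i * i) * i⁻¹ := by rw [h4, h.ii]
        _ = 1 := by group
    apply h.uX
    rcases h.pd.full'.uniq _ (mul_mem (inv_mem h.iC) h.uC) h5 with h6 | h6
    · rw [← inv_mul_eq_one.1 h6]; exact h.iR.1
    · rw [inv_mul_eq_iff_eq_mul.1 h6]; exact mul_mem h.iR.1 h.z'R.1
  · exact Or.inl h4
  · exact Or.inr h4

/-- the action of `u` on `w` -/
theorem u_w (h : QS P M C M' C' X z z' i w e g0 u) : ∃ f, (f = 1 ∨ f = z') ∧ u * (e * w) * u⁻¹ = f * (i * (e * w)) := by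
  have wM : w ∈ M' := h.wR.2
  have uM : u ∈ M' := h.pd.full'.le h.uC
  have ceu : u * e * u⁻¹ = e := conj_eq_iff_commute.2 (h.fz h.uN h.he)
  have hc : e * i = i * e := h.cei
  have cz : z' * i = i * z' := h.iz'.symm
  have cz2 : z' * e = e * z' := (h.z_cen h.he h.z'R.1).symm
  have h2 : ∃ f, (f = 1 ∨ f = z') ∧ u * w * u⁻¹ = (f * i) * w := by
    rcases h.pd.full'.inv w wM h.wC u h.uC with e1 | e1
    · have e2 : w * u⁻¹ * w⁻¹ = u := by
        have : w * u⁻¹ * w⁻¹ = (w * u * w⁻¹)⁻¹ := by group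
        rw [this, e1, inv_inv]
      have e3 : u * w * u⁻¹ = (u * u) * w := by
        calc u * w * u⁻¹ = u * (w * u⁻¹ * w⁻¹) * w := by group
          _ = _ := by rw [e2]
      rcases h.u_sq with h4 | h4
      · exact ⟨1, Or.inl rfl, by rw [e3, h4, one_mul]⟩
      · exact ⟨z', Or.inr rfl, by rw [e3, h4, cz]⟩
    · have e2 : w * u⁻¹ * w⁻¹ = u * z' := by
        have : w * u⁻¹ * w⁻¹ = (w * u * w⁻¹)⁻¹ := by group
        rw [this, e1, mul_inv_rev, inv_inv, h.z'inv]
        exact (h.pd.full'.comm h.uC h.pd.full'.zC).symm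
      have e3 : u * w * u⁻¹ = (u * u * z') * w := by
        calc u * w * u⁻¹ = u * (w * u⁻¹ * w⁻¹) * w := by group
          _ = _ := by rw [e2]; group
      rcases h.u_sq with h4 | h4
      · exact ⟨z', Or.inr rfl, by rw [e3, h4, cz]⟩
      · exact ⟨1, Or.inl rfl, by rw [e3, h4, mul_assoc i, h.zz', mul_one, one_mul]⟩
  obtain ⟨f, hf, h2⟩ := h2
  have cfe : e * f = f * e := by
    rcases hf with rfl | rfl
    · simp
    · exact cz2.symm
  refine ⟨f, hf, ?_⟩
  rw [conj_mul', ceu, h2]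
  calc e * (f * i * w) = (e * f) * i * w := by group
    _ = f * (e * i) * w := by rw [cfe]; group
    _ = _ := by rw [hc]; group

theorem u_i (h : QS P M C M' C' X z z' i w e g0 u) : u * i * u⁻¹ = i :=
  conj_eq_iff_commute.2 (h.pd.full'.comm h.uC h.iC)

theorem inv (h : QS P M C M' C' X z z' i w e g0 u) : QS P M C M' C' X z z' i w e g0 u⁻¹ :=
  { h with
    uC := inv_mem h.uC
    uX := fun h' => h.uX (by simpa using inv_mem h')
    uN := inv_mem h.uN }

/-- the action of an element trivial on `i`, `j` modulo `⟨z, z'⟩` -/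
theorem triv_of (h : QS P M C M' C' X z z' i w e g0 u) {n : G} (hn : n ∈ normalizer (X : Set G))
    {s t : G} (hs : s ∈ h.Zz) (ht : t ∈ h.Zz) (h1 : n * i * n⁻¹ = s * i) (h2 : n * (e * w) * n⁻¹ = t * (e * w)) :
    n ∈ X ⊔ centralizer (X : Set G) := by
  apply h.K1_le hn
  intro x hx
  have fin : ∀ g, g ∈ h.Zz → n * x * n⁻¹ = g * x → n * x * n⁻¹ * x⁻¹ ∈ h.Zz := by
    intro g hg e3
    rw [e3, mul_inv_cancel_right]; exact hg
  have mulc : ∀ x y s t, x ∈ X → t ∈ h.Zz → n * x * n⁻¹ = s * x → n * y * n⁻¹ = t * y →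
      n * (x * y) * n⁻¹ = (s * t) * (x * y) := by
    intro x y s t hx ht e1 e2
    have c : t * x = x * t := h.tc ht hx
    rw [conj_mul', e1, e2]
    calc s * x * (t * y) = s * (x * t) * y := by group
      _ = _ := by rw [← c]; group
  obtain ⟨a, ha, h3⟩ := h.memE4 hx
  have haX : a ∈ X := h.E_le (h.Zz_le ha)
  have iX : i ∈ X := h.iR.1
  have ea : n * a * n⁻¹ = 1 * a := by rw [one_mul]; exact conj_eq_iff_commute.2 (h.Zz_comm hn ha)
  rcases h3 with h3 | h3 | h3 | h3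
  · exact fin 1 (one_mem _) (by rw [h3]; exact ea)
  · exact fin _ (mul_mem (one_mem _) hs) (by rw [h3]; exact mulc _ _ _ _ haX hs ea h1)
  · exact fin _ (mul_mem (one_mem _) ht) (by rw [h3]; exact mulc _ _ _ _ haX ht ea h2)
  · exact fin _ (mul_mem (one_mem _) (mul_mem hs ht))
      (by rw [h3]; exact mulc _ _ _ _ haX (mul_mem hs ht) ea (mulc _ _ _ _ iX ht h1 h2))

/-- `g0 j g0⁻¹ = t i j`, `t ∈ ⟨z'⟩` -/
theorem g0ij (h : QS P M C M' C' X z z' i w e g0 u) :
    ∃ t, (t = 1 ∨ t = z') ∧ g0 * (e * w) * g0⁻¹ = t * (i * (e * w)) ∧ g0 * (i * (e * w)) * g0⁻¹ = t * i := by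
  obtain ⟨t, ht, h1⟩ := h.g0ij_pre
  have h2 := h.g0ij_of ht h1
  refine ⟨t, ?_, h1, h2⟩
  obtain ⟨f, hf, h3⟩ := h.inv.u_w
  rw [inv_inv] at h3
  obtain ⟨f', hf', h4⟩ := h.u_w
  have hu := h.uN
  have hfZ : f ∈ h.Zz := h.mem_Zz.2 ⟨1, Or.inl rfl, f, hf, (one_mul _).symm⟩
  have hfZ' : f' ∈ h.Zz := h.mem_Zz.2 ⟨1, Or.inl rfl, f', hf', (one_mul _).symm⟩
  have hui : u⁻¹ * i * u = i := by
    have := h.inv.u_i
    rwa [inv_inv] at this
  have tu : ∀ t ∈ h.Zz, u * t * u⁻¹ = t := fun t ht => conj_eq_iff_commute.2 (h.Zz_comm hu ht)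
  have tu' : ∀ t ∈ h.Zz, u⁻¹ * t * u = t := by
    intro t ht
    have : u⁻¹ * t * u⁻¹⁻¹ = t := conj_eq_iff_commute.2 (h.Zz_comm (inv_mem hu) ht)
    rwa [inv_inv] at this
  have tg : ∀ t ∈ h.Zz, g0 * t * g0⁻¹ = t := fun t ht => conj_eq_iff_commute.2 (h.Zz_comm h.g0N ht)
  have iX : i ∈ X := h.iR.1
  have ti : ∀ t ∈ h.Zz, t * i = i * t := fun t ht => h.tc ht iX
  have k1 : (u * g0 * u⁻¹ * g0) * i * (u * g0 * u⁻¹ * g0)⁻¹ = (f * t) * i := by
    have e1 : (u * g0 * u⁻¹ * g0) * i * (u * g0 * u⁻¹ * g0)⁻¹ =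
        u * (g0 * (u⁻¹ * (g0 * i * g0⁻¹) * u) * g0⁻¹) * u⁻¹ := by group
    rw [e1, h.hj, h3, conj_mul' g0, tg f hfZ, h2, conj_mul' u, tu f hfZ, conj_mul' u, tu t ht, h.u_i]
    group
  have k2 : (u * g0 * u⁻¹ * g0) * (e * w) * (u * g0 * u⁻¹ * g0)⁻¹ = (t * f * z' * t * f' * z') * (e * w) := by
    have e1 : (u * g0 * u⁻¹ * g0) * (e * w) * (u * g0 * u⁻¹ * g0)⁻¹ =
        u * (g0 * (u⁻¹ * (g0 * (e * w) * g0⁻¹) * u) * g0⁻¹) * u⁻¹ := by group
    have e2 : u⁻¹ * (t * (i * (e * w))) * u = t * f * z' * (e * w) := by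
      calc u⁻¹ * (t * (i * (e * w))) * u = (u⁻¹ * t * u) * ((u⁻¹ * i * u) * (u⁻¹ * (e * w) * u)) := by group
        _ = t * (i * (f * (i * (e * w)))) := by rw [tu' t ht, hui, h3]
        _ = t * (i * f) * i * (e * w) := by group
        _ = t * f * (i * i) * (e * w) := by rw [← ti f hfZ]; group
        _ = _ := by rw [h.ii]
    have hz1 : t * f * z' ∈ h.Zz := mul_mem (mul_mem ht hfZ) h.z'Z
    rw [e1, h1, e2, conj_mul' g0 (t * f * z'), tg _ hz1, h1, conj_mul' u (t * f * z'), tu _ hz1, conj_mul' u t,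
      tu t ht, conj_mul' u i, h.u_i, h4]
    calc t * f * z' * (t * (i * (f' * (i * (e * w))))) = t * f * z' * t * (i * f') * i * (e * w) := by group
      _ = t * f * z' * t * f' * (i * i) * (e * w) := by rw [← ti f' hfZ']; group
      _ = _ := by rw [h.ii]
  have hk : (u * g0 * u⁻¹ * g0) ∈ normalizer (X : Set G) :=
    mul_mem (mul_mem (mul_mem hu h.g0N) (inv_mem hu)) h.g0N
  have hXC := h.triv_of hk (mul_mem hfZ ht)
    (mul_mem (mul_mem (mul_mem (mul_mem (mul_mem ht hfZ) h.z'Z) ht) hfZ') h.z'Z) k1 k2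
  obtain ⟨r, hr, hact⟩ := h.conj_of_XC hXC
  have h5 := hact i h.iE
  rw [k1] at h5
  have h6 : f * t = 1 ∨ f * t = z' := by
    rcases h.conj_R hr h.iE with h7 | h7
    · rw [h7] at h5
      left
      exact mul_eq_right.1 h5
    · rw [h7, h.iz'] at h5
      right
      exact mul_right_cancel h5
  have hff : f * f = 1 := h.ee' hf
  have h7 : t = f * (f * t) := by rw [← mul_assoc, hff, one_mul]
  rcases h6 with h6 | h6
  · rw [h7, h6, mul_one]; exact hf
  · rw [h7, h6]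
    rcases hf with rfl | rfl
    · right; simp
    · left; exact h.zz'

/-- the quaternion group -/
def W8 (h : QS P M C M' C' X z z' i w e g0 u) : Subgroup G where
  carrier := {x | x ∈ C' ⊓ (X ⊓ M') ∨ ∃ a ∈ C' ⊓ (X ⊓ M'), x = a * (e * w)}
  one_mem' := Or.inl (one_mem _)
  mul_mem' := by
    have hz : z' ∈ C' ⊓ (X ⊓ M') := mem_inf.2 ⟨h.pd.full'.zC, h.z'R⟩
    have hinv : ∀ a ∈ C' ⊓ (X ⊓ M'), (e * w) * a = a⁻¹ * (e * w) := by
      intro a ha
      have h1 : w * a * w⁻¹ = a⁻¹ := by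
        rcases h.memD ha.1 ha.2 with h2 | h2 | h2 | h2
        · rw [h2]; group
        · rw [h2, h.z'inv]
          exact conj_eq_iff_commute.2 (h.pd.full'.zcen h.wR.2)
        · rw [h2]; exact h.pd.full'.inv4 w h.wR.2 h.wC i h.iC h.ii
        · refine h.pd.full'.inv4 w h.wR.2 h.wC a ha.1 ?_
          have := h.iz'
          rw [h2]
          calc i * z' * (i * z') = i * (z' * i) * z' := by group
            _ = (i * i) * (z' * z') := by rw [← this]; group
            _ = z' := by rw [h.ii, h.zz', mul_one]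
      have c : Commute e a⁻¹ := h.z_cen h.he (inv_mem ha.2.1)
      calc e * w * a = e * (w * a * w⁻¹) * w := by group
        _ = (e * a⁻¹) * w := by rw [h1]
        _ = _ := by rw [c.eq]; group
    rintro a b (ha | ⟨a, ha, rfl⟩) (hb | ⟨b, hb, rfl⟩)
    · exact Or.inl (mul_mem ha hb)
    · exact Or.inr ⟨a * b, mul_mem ha hb, by group⟩
    · refine Or.inr ⟨a * b⁻¹, mul_mem ha (inv_mem hb), ?_⟩
      rw [mul_assoc a, hinv b hb]; group
    · left
      have e1 : a * (e * w) * (b * (e * w)) = a * b⁻¹ * z' := by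
        calc a * (e * w) * (b * (e * w)) = a * ((e * w) * b) * (e * w) := by group
          _ = a * b⁻¹ * ((e * w) * (e * w)) := by rw [hinv b hb]; group
          _ = _ := by rw [h.jj]
      rw [e1]
      exact mul_mem (mul_mem ha (inv_mem hb)) hz
  inv_mem' := by
    have hz : z' ∈ C' ⊓ (X ⊓ M') := mem_inf.2 ⟨h.pd.full'.zC, h.z'R⟩
    rintro a (ha | ⟨a, ha, rfl⟩)
    · exact Or.inl (inv_mem ha)
    · right
      have h1 : w * a * w⁻¹ = a⁻¹ := by
        rcases h.memD ha.1 ha.2 with h2 | h2 | h2 | h2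
        · rw [h2]; group
        · rw [h2, h.z'inv]
          exact conj_eq_iff_commute.2 (h.pd.full'.zcen h.wR.2)
        · rw [h2]; exact h.pd.full'.inv4 w h.wR.2 h.wC i h.iC h.ii
        · refine h.pd.full'.inv4 w h.wR.2 h.wC a ha.1 ?_
          have := h.iz'
          rw [h2]
          calc i * z' * (i * z') = i * (z' * i) * z' := by group
            _ = (i * i) * (z' * z') := by rw [← this]; group
            _ = z' := by rw [h.ii, h.zz', mul_one]
      have c : Commute e a⁻¹ := h.z_cen h.he (inv_mem ha.2.1)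
      have h3 : e * w * a = a⁻¹ * (e * w) := by
        calc e * w * a = e * (w * a * w⁻¹) * w := by group
          _ = (e * a⁻¹) * w := by rw [h1]
          _ = _ := by rw [c.eq]; group
      have h4 : (e * w)⁻¹ = z' * (e * w) := by
        rw [inv_eq_iff_mul_eq_one, ← mul_assoc]
        have c2 : Commute z' (e * w) := h.tc h.z'Z (h.E_le h.jE)
        calc e * w * z' * (e * w) = ((e * w) * z') * (e * w) := by group
          _ = z' * ((e * w) * (e * w)) := by rw [← c2.eq]; group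
          _ = 1 := by rw [h.jj, h.zz']
      refine ⟨a * z', mul_mem ha hz, ?_⟩
      have c3 : z' * (e * w) = (e * w) * z' := h.tc h.z'Z (h.E_le h.jE)
      have c4 : Commute z' a := h.z'_cen (Or.inr rfl) ha.2.1
      have h5 : a * (e * w) = (e * w) * a⁻¹ := by
        have h6 : e * w * a⁻¹ = (a⁻¹)⁻¹ * (e * w) := by
          have h7 : w * a⁻¹ * w⁻¹ = (a⁻¹)⁻¹ := by
            have : w * a⁻¹ * w⁻¹ = (w * a * w⁻¹)⁻¹ := by group
            rw [this, h1]
          have c' : Commute e a := h.z_cen h.he ha.2.1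
          calc e * w * a⁻¹ = e * (w * a⁻¹ * w⁻¹) * w := by group
            _ = (e * a) * w := by rw [h7, inv_inv]
            _ = _ := by rw [c'.eq, inv_inv]; group
        rw [h6, inv_inv]
      rw [h5, mul_inv_rev, inv_inv, h4]; group

theorem mem_W (h : QS P M C M' C' X z z' i w e g0 u) {x : G} :
    x ∈ h.W8 ↔ x ∈ C' ⊓ (X ⊓ M') ∨ ∃ a ∈ C' ⊓ (X ⊓ M'), x = a * (e * w) := Iff.rfl

theorem D_W (h : QS P M C M' C' X z z' i w e g0 u) {a : G} (ha : a ∈ C' ⊓ (X ⊓ M')) : a ∈ h.W8 := Or.inl ha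

theorem z'_W (h : QS P M C M' C' X z z' i w e g0 u) : z' ∈ h.W8 := h.D_W (mem_inf.2 ⟨h.pd.full'.zC, h.z'R⟩)

theorem i_W (h : QS P M C M' C' X z z' i w e g0 u) : i ∈ h.W8 := h.D_W (mem_inf.2 ⟨h.iC, h.iR⟩)

theorem j_W (h : QS P M C M' C' X z z' i w e g0 u) : e * w ∈ h.W8 := Or.inr ⟨1, one_mem _, (one_mul _).symm⟩

theorem W_le (h : QS P M C M' C' X z z' i w e g0 u) {x : G} (hx : x ∈ h.W8) : x ∈ Dat.CX M X := by
  rcases h.mem_W.1 hx with ha | ⟨a, ha, rfl⟩
  · exact h.R_le_E ha.2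
  · exact mul_mem (h.R_le_E ha.2) h.jE

theorem f_W (h : QS P M C M' C' X z z' i w e g0 u) {f : G} (hf : f = 1 ∨ f = z') : f ∈ h.W8 := by
  rcases hf with rfl | rfl
  exacts [one_mem _, h.z'_W]

theorem norm_W (h : QS P M C M' C' X z z' i w e g0 u) {n : G} (hn : n ∈ normalizer (X : Set G))
    (h1 : n * i * n⁻¹ ∈ h.W8) (h2 : n * (e * w) * n⁻¹ ∈ h.W8) : n ∈ normalizer (h.W8 : Set G) := by
  apply mem_normalizer_of
  have hD : ∀ a ∈ C' ⊓ (X ⊓ M'), n * a * n⁻¹ ∈ h.W8 := by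
    intro a ha
    have cz : n * z' * n⁻¹ = z' := conj_eq_iff_commute.2 (h.N_z' hn)
    rcases h.memD ha.1 ha.2 with h3 | h3 | h3 | h3
    · rw [h3]
      have : n * 1 * n⁻¹ = 1 := by group
      rw [this]; exact one_mem _
    · rw [h3, cz]; exact h.z'_W
    · rw [h3]; exact h1
    · rw [h3, conj_mul', cz]; exact mul_mem h1 h.z'_W
  intro x hx
  rcases h.mem_W.1 hx with ha | ⟨a, ha, rfl⟩
  · exact hD x ha
  · rw [conj_mul']; exact mul_mem (hD a ha) h2

theorem g0_W (h : QS P M C M' C' X z z' i w e g0 u) : g0 ∈ normalizer (h.W8 : Set G) := by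
  obtain ⟨t, ht, h1, -⟩ := h.g0ij
  refine h.norm_W h.g0N ?_ ?_
  · rw [h.hj]; exact h.j_W
  · rw [h1]; exact mul_mem (h.f_W ht) (mul_mem h.i_W h.j_W)

theorem u_W (h : QS P M C M' C' X z z' i w e g0 u) : u ∈ normalizer (h.W8 : Set G) := by
  obtain ⟨t, ht, h1⟩ := h.u_w
  refine h.norm_W h.uN ?_ ?_
  · rw [h.u_i]; exact h.i_W
  · rw [h1]; exact mul_mem (h.f_W ht) (mul_mem h.i_W h.j_W)

theorem XC_W (h : QS P M C M' C' X z z' i w e g0 u) {k : G} (hk : k ∈ X ⊔ centralizer (X : Set G)) :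
    k ∈ normalizer (h.W8 : Set G) := by
  obtain ⟨r, hr, hact⟩ := h.conj_of_XC hk
  apply mem_normalizer_of
  intro x hx
  rw [hact x (h.W_le hx)]
  rcases h.conj_R hr (h.W_le hx) with h1 | h1 <;> rw [h1]
  · exact hx
  · exact mul_mem hx h.z'_W

theorem N_W (h : QS P M C M' C' X z z' i w e g0 u) : normalizer (X : Set G) ≤ normalizer (h.W8 : Set G) := by
  intro n hn
  obtain ⟨t0, ht0, hg1, hg2⟩ := h.g0ij
  have hWcancel : ∀ b, b ∈ normalizer (h.W8 : Set G) → b * n ∈ normalizer (h.W8 : Set G) →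
      n ∈ normalizer (h.W8 : Set G) := fun b hb h1 => ((normalizer (h.W8 : Set G)).mul_mem_cancel_left hb).1 h1
  have iX : i ∈ X := h.iR.1
  have ti : ∀ t ∈ h.Zz, t * i = i * t := fun t ht => h.tc ht iX
  -- first reduction
  have h1 : ∃ b ∈ normalizer (h.W8 : Set G), b ∈ normalizer (X : Set G) ∧
      ∃ t ∈ h.Zz, (b * n) * i * (b * n)⁻¹ = t * i := by
    obtain ⟨t, ht, h1⟩ := h.memE4 (h.N_E hn h.iE)
    have tg : ∀ g ∈ normalizer (X : Set G), g * t * g⁻¹ = t :=
      fun g hg => conj_eq_iff_commute.2 (h.Zz_comm hg ht)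
    rcases h1 with h1 | h1 | h1 | h1
    · exact (h.no_sq h.ii (by rw [h1]; exact ht)).elim
    · exact ⟨1, one_mem _, one_mem _, t, ht, by rw [one_mul]; exact h1⟩
    · refine ⟨g0⁻¹, inv_mem h.g0_W, inv_mem h.g0N, t, ht, ?_⟩
      have e1 : g0⁻¹ * n * i * (g0⁻¹ * n)⁻¹ = g0⁻¹ * (n * i * n⁻¹) * g0⁻¹⁻¹ := by group
      rw [e1, h1, conj_mul', tg _ (inv_mem h.g0N), ← h.hj]; group
    · refine ⟨g0, h.g0_W, h.g0N, t * t0, mul_mem ht (h.mem_Zz.2 ⟨1, Or.inl rfl, t0, ht0, (one_mul _).symm⟩), ?_⟩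
      have e1 : g0 * n * i * (g0 * n)⁻¹ = g0 * (n * i * n⁻¹) * g0⁻¹ := by group
      rw [e1, h1, conj_mul' g0 t, tg _ h.g0N, hg2]; group
  obtain ⟨b, hbW, hbX, t, ht, h1⟩ := h1
  apply hWcancel b hbW
  have hbn : b * n ∈ normalizer (X : Set G) := mul_mem hbX hn
  obtain ⟨s, hs, h2⟩ := h.memE4 (h.N_E hbn h.jE)
  rcases h2 with h2 | h2 | h2 | h2
  · exact (h.no_sq h.jj (by rw [h2]; exact hs)).elim
  · exfalso
    -- `n₁ (i j) n₁⁻¹ ∈ ⟨z, z'⟩`
    have h3 : (b * n) * (i * (e * w)) * (b * n)⁻¹ ∈ h.Zz := by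
      rw [conj_mul', h1, h2]
      have : t * i * (s * i) = t * s * z' := by
        calc t * i * (s * i) = t * (i * s) * i := by group
          _ = t * s * (i * i) := by rw [← ti s hs]; group
          _ = _ := by rw [h.ii]
      rw [this]; exact mul_mem (mul_mem ht hs) h.z'Z
    refine h.no_sq ?_ h3
    have c : Commute z' (e * w) := h.tc h.z'Z (h.E_le h.jE)
    calc i * (e * w) * (i * (e * w)) = i * ((e * w) * i) * (e * w) := by group
      _ = i * (i * z' * (e * w)) * (e * w) := by rw [h.ji]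
      _ = (i * i) * z' * ((e * w) * (e * w)) := by group
      _ = _ := by rw [h.jj, h.ii, h.zz', one_mul]
  · exact h.XC_W (h.triv_of hbn ht hs h1 h2)
  · -- apply `u`
    have h3 : u * (b * n) ∈ X ⊔ centralizer (X : Set G) := by
      obtain ⟨f, hf, hu⟩ := h.u_w
      have hfZ : f ∈ h.Zz := h.mem_Zz.2 ⟨1, Or.inl rfl, f, hf, (one_mul _).symm⟩
      have tg : ∀ t ∈ h.Zz, u * t * u⁻¹ = t :=
        fun t ht => conj_eq_iff_commute.2 (h.Zz_comm h.uN ht)
      refine h.triv_of (mul_mem h.uN hbn) ht (mul_mem (mul_mem hs hfZ) h.z'Z) ?_ ?_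
      · have e1 : u * (b * n) * i * (u * (b * n))⁻¹ = u * ((b * n) * i * (b * n)⁻¹) * u⁻¹ := by group
        rw [e1, h1, conj_mul', tg t ht, h.u_i]
      · have e1 : u * (b * n) * (e * w) * (u * (b * n))⁻¹ = u * ((b * n) * (e * w) * (b * n)⁻¹) * u⁻¹ := by group
        rw [e1, h2, conj_mul' u s, tg s hs, conj_mul' u i, h.u_i, hu]
        calc s * (i * (f * (i * (e * w)))) = s * (i * f) * i * (e * w) := by group
          _ = s * f * (i * i) * (e * w) := by rw [← ti f hfZ]; group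
          _ = _ := by rw [h.ii]
    exact ((normalizer (h.W8 : Set G)).mul_mem_cancel_left h.u_W).1 (h.XC_W h3)

theorem W_out (h : QS P M C M' C' X z z' i w e g0 u) : Out M C M' C' X h.W8 z z' where
  o1 x hx := h.memE.1 (h.W_le hx)
  o2 hz := by
    rcases h.mem_W.1 hz with ha | ⟨a, ha, h1⟩
    · exact h.pd.full.z1 (h.pd.inf h.pd.full.zR ha.2.2)
    · apply h.wC
      have c : Commute a e := (h.z_cen h.he ha.2.1).symm
      have h2 : z * 1 = e * (a * w) := by
        rw [mul_one]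
        calc z = a * (e * w) := h1
          _ = (a * e) * w := by group
          _ = _ := by rw [c.eq]; group
      have h3 := (h.dat.inj h.pd.full.zR (h.eM h.he) (one_mem _) (mul_mem ha.2 h.wR) h2).2
      have : w = a⁻¹ := eq_inv_of_mul_eq_one_right h3.symm
      rw [this]; exact inv_mem ha.1
  o3 r hr := by
    by_cases hrC : r ∈ C'
    · exact Or.inl (h.D_W ⟨hrC, hr⟩)
    · obtain ⟨a, ha, rfl⟩ := h.memR hr hrC
      have h1 : e * (a * w) ∈ h.W8 := by
        refine Or.inr ⟨a, ha, ?_⟩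
        have c : Commute e a := h.z_cen h.he ha.2.1
        calc e * (a * w) = (e * a) * w := by group
          _ = _ := by rw [c.eq]; group
      rcases h.he with he | he
      · left
        have h2 : e * (a * w) = a * w := by rw [he, one_mul]
        rwa [h2] at h1
      · right
        have h2 : e * (a * w) = z * (a * w) := by rw [he]
        rwa [h2] at h1
  o4 r hr hrC := by
    refine ⟨h.D_W ⟨hrC, hr⟩, ?_⟩
    have huu := h.u_sq
    have hiz : ∀ x, (x = i ∨ x = i * z') → x * x = z' := by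
      rintro x (rfl | rfl)
      · exact h.ii
      · have := h.iz'
        calc i * z' * (i * z') = i * (z' * i) * z' := by group
          _ = (i * i) * (z' * z') := by rw [← this]; group
          _ = z' := by rw [h.ii, h.zz', mul_one]
    have hroot : ∀ x, (x = i ∨ x = i * z') → ∃ a ∈ C', a * a = x := by
      intro x hx
      have hinv : i⁻¹ = i * z' := h.i_inv
      have huinv : u⁻¹ * u⁻¹ = (u * u)⁻¹ := by group
      rcases huu with h4 | h4 <;> rcases hx with rfl | rfl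
      · exact ⟨u, h.uC, h4⟩
      · exact ⟨u⁻¹, inv_mem h.uC, by rw [huinv, h4, hinv]⟩
      · refine ⟨u⁻¹, inv_mem h.uC, ?_⟩
        rw [huinv, h4, ← hinv, inv_inv]
      · exact ⟨u, h.uC, h4⟩
    rcases h.memD hrC hr with h1 | h1 | h1 | h1
    · exact Or.inl h1
    · exact Or.inr (Or.inl h1)
    · exact Or.inr (Or.inr ⟨hiz r (Or.inl h1), hroot r (Or.inl h1)⟩)
    · exact Or.inr (Or.inr ⟨hiz r (Or.inr h1), hroot r (Or.inr h1)⟩)
  o5 := h.N_W
  o6 x hx hxC := by
    obtain ⟨t, ht, hg1, hg2⟩ := h.g0ij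
    have htC : t ∈ C' := by rcases ht with rfl | rfl; exacts [one_mem _, h.pd.full'.zC]
    have tg : ∀ t, (t = 1 ∨ t = z') → g0 * t * g0⁻¹ = t := fun t ht => conj_eq_iff_commute.2 (h.fz' h.g0N ht)
    have hgg : ∀ y, g0 ^ 2 * y * (g0 ^ 2)⁻¹ = g0 * (g0 * y * g0⁻¹) * g0⁻¹ := by
      intro y; rw [pow_two]; group
    have cij : g0 * (i * (e * w)) * g0⁻¹ ∈ C' := by rw [hg2]; exact mul_mem htC h.iC
    have cj : g0 ^ 2 * (e * w) * (g0 ^ 2)⁻¹ ∈ C' := by
      rw [hgg, hg1, conj_mul', tg t ht]; exact mul_mem htC cij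
    rcases h.mem_W.1 hx with ha | ⟨a, ha, rfl⟩
    · exact absurd ha.1 hxC
    rcases h.memD ha.1 ha.2 with h1 | h1 | h1 | h1
    · refine ⟨g0 ^ 2, pow_mem h.g0N 2, odd_pow h.g0odd 2, ?_⟩
      rw [h1, one_mul]; exact cj
    · refine ⟨g0 ^ 2, pow_mem h.g0N 2, odd_pow h.g0odd 2, ?_⟩
      rw [h1, conj_mul', hgg z', tg z' (Or.inr rfl), tg z' (Or.inr rfl)]
      exact mul_mem h.pd.full'.zC cj
    · exact ⟨g0, h.g0N, h.g0odd, by rw [h1]; exact cij⟩
    · refine ⟨g0, h.g0N, h.g0odd, ?_⟩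
      have e1 : a * (e * w) = z' * (i * (e * w)) := by rw [h1, h.iz']; group
      rw [e1, conj_mul', tg z' (Or.inr rfl)]
      exact mul_mem h.pd.full'.zC cij
  o7 m hm := ⟨1, Or.inl rfl, fun g hg hodd => by rw [mul_one]; exact h.comm_M hg hodd hm⟩

end QS

/-- **Theorem.** The local analysis of an essential subgroup `X = M × Q`. -/
theorem q_type {P : Sylow 2 G} {M C M' C' X : Subgroup G} {z z' i w : G} [Finite G]
    (h : PD (P : Subgroup G) M C z M' C' z') (hX : EssDefs.Ess 2 (P : Subgroup G) X) (hMX : M ≤ X)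
    (hD : ∀ a ∈ C' ⊓ (X ⊓ M'), a * a * (a * a) = 1) (hi : i ∈ X ⊓ M') (hiC : i ∈ C') (hii : i * i = z')
    (hw : w ∈ X ⊓ M') (hwC : w ∉ C') (hww : w * w = z') :
    ∃ W, Out M C M' C' X W z z' := by
  have hQA : QA P M C M' C' X z z' i w :=
    { pd := h, ess := hX, le := hMX, D4 := hD, iC := hiC, iR := hi, ii := hii, wR := hw, wC := hwC, ww := hww }
  obtain ⟨g0, hg, hodd, hne⟩ := ess_odd hX
  obtain ⟨u, hu, huX, huN⟩ := ess_u h hX hMX
  -- the image of `i`
  obtain ⟨e, he, r, hr, e1⟩ := hQA.memE.1 (hQA.N_E hg (hQA.R_le_E hi))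
  have hrr : r * r = z' := by
    have h1 : e * r * (e * r) = z' := by
      rw [← e1, ← conj_mul', hii]
      exact conj_eq_iff_commute.2 (hQA.N_z' hg)
    rwa [hQA.dat.mul_eq (hQA.eM he) hr, hQA.ee he, one_mul] at h1
  have hrC : r ∉ C' := by
    intro hrC
    obtain ⟨x, hx, hne⟩ := hne
    apply hne
    rcases hQA.memD hrC hr with h1 | h1 | h1 | h1
    · rw [h1, mul_one] at hrr; exact absurd hrr.symm h.full'.z1
    · rw [h1, h.full'.zz] at hrr; exact absurd hrr.symm h.full'.z1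
    · exact hQA.cent_of hg hodd he (Or.inl rfl) (by rw [e1, h1, mul_one]) x hx
    · exact hQA.cent_of hg hodd he (Or.inr rfl) (by rw [e1, h1, hQA.iz', mul_assoc]) x hx
  -- an element of `C'`
  obtain ⟨u', hu', huX', huN'⟩ : ∃ u ∈ C', u ∉ X ∧ u ∈ normalizer (X : Set G) := by
    by_cases huC : u ∈ C'
    · exact ⟨u, huC, huX, huN⟩
    · refine ⟨u * r, h.full'.idx u hu huC r hr.2 hrC, fun hc => huX ?_, mul_mem huN (le_normalizer hr.1)⟩
      exact (X.mul_mem_cancel_right hr.1).1 hc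
  have hQS : QS P M C M' C' X z z' i r e g0 u' :=
    { pd := h, ess := hX, le := hMX, D4 := hD, iC := hiC, iR := hi, ii := hii, wR := hr, wC := hrC, ww := hrr,
      he := he, g0N := hg, g0odd := hodd, g0ne := hne, hj := e1, uC := hu', uX := huX', uN := huN' }
  exact ⟨_, hQS.W_out⟩

/-- **Theorem.** The local analysis of an essential subgroup containing `M`. -/
theorem ess_out {P : Sylow 2 G} {M C M' C' X : Subgroup G} {z z' : G} [Finite G]
    (h : PD (P : Subgroup G) M C z M' C' z') (hX : EssDefs.Ess 2 (P : Subgroup G) X) (hMX : M ≤ X) :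
    ∃ W, Out M C M' C' X W z z' := by
  rcases ess_type h hX hMX with ⟨h1, v, hv, hvC, hvv⟩ | ⟨⟨i, hi, hii⟩, h2, w, hw, hwC, hww⟩
  · obtain ⟨W, hW, -⟩ := v_type h hX hMX h1 hv hvC hvv
    exact ⟨W, hW⟩
  · exact q_type h hX hMX h2 hi.2 hi.1 hii hw hwC hww

end Cfsg.Agent.H301.Data
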