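import Mathlib
import Cfsg.Agent.H301.Compat

/-!
# Product fusion

`product_fusion`: if the Sylow 2-subgroup `P = M × M'` is the product of two dihedral (order at least 8) or
semidihedral groups (`Full`), and `G` has no normal subgroup of index two, then `P = A × B` with `A ≅ M`, `B ≅ M'`,
both strongly closed in `P`.
-/

set_option autoImplicit false
set_option linter.unusedSectionVars false
set_option linter.unusedVariables false

namespace Cfsg.Agent.H301.Data

open Subgroup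
open Cfsg.Agent.Lib.GoldschmidtFusion
open Cfsg.Agent.Lib
open Cfsg.Agent.H301.Cop
open scoped commutatorElement

variable {G : Type*} [Group G] [Finite G]

/-- **(K)** -/
theorem cross {P : Sylow 2 G} {M C M' C' X X₁ W W₁ : Subgroup G} {z z' : G}
    (h : PD (P : Subgroup G) M C z M' C' z') (hX : EssDefs.Ess 2 (P : Subgroup G) X) (hMX : M ≤ X)
    (hX₁ : EssDefs.Ess 2 (P : Subgroup G) X₁) (hMX₁ : M' ≤ X₁) (hW : Out M C M' C' X W z z')
    (hW₁ : Out M' C' M C X₁ W₁ z' z) {g : G} (hg : g ∈ normalizer (X : Set G)) (hodd : Odd (orderOf g))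
    {y : G} (hy : y ∈ W₁) : Commute g y := by
  obtain ⟨e, he, r, hr, rfl⟩ := hW₁.o1 y hy
  have hrM : r ∈ M := hr.2
  have heM' : e ∈ M' := by rcases he with rfl | rfl; exacts [one_mem _, h.full'.zR]
  have hre : e * r = r * e := (h.comm hrM heM').symm
  obtain ⟨e', he', h7⟩ := hW.o7 r hrM
  by_cases hee : e = e'
  · rw [hre, hee]; exact h7 g hg hodd
  have hprod : e' = e * z' := by
    rcases he with rfl | rfl <;> rcases he' with rfl | rfl
    · exact absurd rfl hee
    · simp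
    · exact h.full'.zz.symm
    · exact absurd rfl hee
  -- `y z'` commutes with all odd elements
  have hyz : ∀ g ∈ normalizer (X : Set G), Odd (orderOf g) → Commute g (e * r * z') := by
    intro g hg hodd
    have h1 := h7 g hg hodd
    rw [hprod] at h1
    have : e * r * z' = r * (e * z') := by rw [hre]; group
    rw [this]; exact h1
  by_cases hall : ∀ g ∈ normalizer (X : Set G), Odd (orderOf g) → Commute g z'
  · have h1 := (hyz g hg hodd).mul_right (hall g hg hodd)
    rwa [mul_assoc, h.full'.zz, mul_one] at h1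
  exfalso
  push Not at hall
  obtain ⟨g0, hg0, hodd0, hne⟩ := hall
  have hz'1 : z' ∈ X₁ := hMX₁ h.full'.zR
  have hzX₁ : z ∈ X₁ := ess_zX h hX₁
  have hsX₁ : g0 * z' * g0⁻¹ ∈ X₁ := by
    have D := ess_dat h hX hMX
    obtain ⟨f, hf, t, ht, e1⟩ := D.E_R hg0 hodd0 D.mq.zR
    rw [e1]
    refine mul_mem ?_ (hMX₁ ht.2)
    rcases hf with rfl | rfl
    exacts [one_mem _, hzX₁]
  have hX₁P : X₁ ≤ (P : Subgroup G) := (ess_lt hX₁).le
  by_cases hrC : r ∈ C
  · obtain ⟨hrW, h4⟩ := hW₁.o4 r hr hrC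
    have heW : e ∈ W₁ := (W₁.mul_mem_cancel_right hrW).1 hy
    have he1 : e = 1 := by
      rcases he with rfl | rfl
      · rfl
      · exact absurd heW hW₁.o2
    have h1 := hyz g0 hg0 hodd0
    rw [he1, one_mul] at h1
    rcases h4 with h5 | h5
    · rw [h5, one_mul] at h1; exact hne h1
    · have := compat h hrC h5 h1 (hX₁P hsX₁)
      exact hne (conj_eq_iff_commute.1 this)
  · have hyC : e * r ∉ C := by
      intro hc
      apply hrC
      have h1 : e ∈ M := (M.mul_mem_cancel_right hrM).1 (h.full.le hc)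
      have h2 : e = 1 := h.inf h1 heM'
      rwa [h2, one_mul] at hc
    obtain ⟨g₁, hg₁, hodd₁, hjC⟩ := hW₁.o6 _ hy hyC
    have hjW : g₁ * (e * r) * g₁⁻¹ ∈ W₁ := mem_normalizer_conj (hW₁.o5 hg₁) hy
    have hW₁X : W₁ ≤ X₁ := by
      intro w hw
      obtain ⟨f, hf, t, ht, rfl⟩ := hW₁.o1 w hw
      refine mul_mem ?_ ht.1
      rcases hf with rfl | rfl
      exacts [one_mem _, hz'1]
    obtain ⟨-, h4⟩ := hW₁.o4 _ (mem_inf.2 ⟨hW₁X hjW, h.full.le hjC⟩) hjC
    have hgz' : Commute g₁ z' := ess_comm_z h.symm hX₁ hMX₁ hg₁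
    have hconj : g₁ * (e * r * z') * g₁⁻¹ = (g₁ * (e * r) * g₁⁻¹) * z' := by
      rw [conj_mul', conj_eq_iff_commute.2 hgz']
    have hk : Commute (g₁ * g0 * g₁⁻¹) ((g₁ * (e * r) * g₁⁻¹) * z') := by
      rw [← hconj]
      have h1 := (hyz g0 hg0 hodd0).eq
      exact Dat.conj_comm (n := g₁) h1
    have hkz : (g₁ * g0 * g₁⁻¹) * z' * (g₁ * g0 * g₁⁻¹)⁻¹ = g₁ * (g0 * z' * g0⁻¹) * g₁⁻¹ := by
      have h1 : g₁⁻¹ * z' * g₁ = z' := by
        have := conj_eq_iff_commute.2 hgz'.inv_left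
        rwa [inv_inv] at this
      calc (g₁ * g0 * g₁⁻¹) * z' * (g₁ * g0 * g₁⁻¹)⁻¹ = g₁ * (g0 * (g₁⁻¹ * z' * g₁) * g0⁻¹) * g₁⁻¹ := by group
        _ = _ := by rw [h1]
    have hkP : (g₁ * g0 * g₁⁻¹) * z' * (g₁ * g0 * g₁⁻¹)⁻¹ ∈ (P : Subgroup G) := by
      rw [hkz]; exact hX₁P (mem_normalizer_conj hg₁ hsX₁)
    rcases h4 with h5 | h5
    · apply hyC
      have : e * r = 1 := by
        have := congrArg (fun t => g₁⁻¹ * t * g₁) h5
        simpa [mul_assoc] using this
      rw [this]; exact one_mem _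
    · have h6 := compat h hjC h5 hk hkP
      rw [hkz] at h6
      apply hne
      rw [← conj_eq_iff_commute]
      have h7 := conj_eq_iff_commute.2 hgz'
      have h8 : g₁ * (g0 * z' * g0⁻¹) * g₁⁻¹ = g₁ * z' * g₁⁻¹ := by rw [h6, h7]
      have := congrArg (fun t => g₁⁻¹ * t * g₁) h8
      simpa [mul_assoc] using this

/-- the union of the groups `W₁` -/
def WU (P : Sylow 2 G) (M C M' C' : Subgroup G) (z z' : G) : Subgroup G :=
  closure {y | ∃ X₁ W₁ : Subgroup G, EssDefs.Ess 2 (P : Subgroup G) X₁ ∧ M' ≤ X₁ ∧ Out M' C' M C X₁ W₁ z' z ∧ y ∈ W₁}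

theorem W_le_WU {P : Sylow 2 G} {M C M' C' X₁ W₁ : Subgroup G} {z z' : G}
    (hX₁ : EssDefs.Ess 2 (P : Subgroup G) X₁) (hMX₁ : M' ≤ X₁) (hW₁ : Out M' C' M C X₁ W₁ z' z) :
    W₁ ≤ WU P M C M' C' z z' := fun y hy => subset_closure ⟨X₁, W₁, hX₁, hMX₁, hW₁, hy⟩

theorem WU_mem {P : Sylow 2 G} {M C M' C' : Subgroup G} {z z' : G} (h : PD (P : Subgroup G) M C z M' C' z')
    {y : G} (hy : y ∈ WU P M C M' C' z z') : ∃ m ∈ M, ∃ f, (f = 1 ∨ f = z') ∧ y = m * f := by
  have hc : ∀ a ∈ M, ∀ b ∈ zpowers z', a * b = b * a := by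
    intro a ha b hb
    rcases (mem_zp h.full'.zz).1 hb with rfl | rfl
    · simp
    · exact h.comm ha h.full'.zR
  have : WU P M C M' C' z z' ≤ mulS M (zpowers z') hc := by
    rw [WU, closure_le]
    rintro y ⟨X₁, W₁, -, -, hW₁, hy⟩
    obtain ⟨e, he, r, hr, rfl⟩ := hW₁.o1 y hy
    refine ⟨r, hr.2, e, (mem_zp h.full'.zz).2 he, ?_⟩
    exact (hc r hr.2 e ((mem_zp h.full'.zz).2 he)).symm
  obtain ⟨m, hm, f, hf, rfl⟩ := this hy
  exact ⟨m, hm, f, (mem_zp h.full'.zz).1 hf, rfl⟩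

theorem WU_le {P : Sylow 2 G} {M C M' C' : Subgroup G} {z z' : G} (h : PD (P : Subgroup G) M C z M' C' z') :
    WU P M C M' C' z z' ≤ P := by
  intro y hy
  obtain ⟨m, hm, f, hf, rfl⟩ := WU_mem h hy
  refine mul_mem (h.M_le hm) ?_
  rcases hf with rfl | rfl
  exacts [one_mem _, h.symm.zP]

/-- odd elements normalising `X ≥ M` commute with all `W₁` -/
theorem WU_comm {P : Sylow 2 G} {M C M' C' X : Subgroup G} {z z' : G} (h : PD (P : Subgroup G) M C z M' C' z')
    (hX : EssDefs.Ess 2 (P : Subgroup G) X) (hMX : M ≤ X) {g : G} (hg : g ∈ normalizer (X : Set G))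
    (hodd : Odd (orderOf g)) {y : G} (hy : y ∈ WU P M C M' C' z z') : Commute g y := by
  obtain ⟨W, hW⟩ := ess_out h hX hMX
  have : WU P M C M' C' z z' ≤ centralizer ({g} : Set G) := by
    rw [WU, closure_le]
    rintro y ⟨X₁, W₁, hX₁, hMX₁, hW₁, hy⟩
    exact mem_centralizer_singleton_iff.2 (cross h hX hMX hX₁ hMX₁ hW hW₁ hg hodd hy).symm.eq
  exact (show Commute y g from mem_centralizer_singleton_iff.1 (this hy)).symm

theorem odd_P {P : Sylow 2 G} {M C M' C' : Subgroup G} {z z' : G} (h : PD (P : Subgroup G) M C z M' C' z')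
    {g : G} (hg : g ∈ normalizer ((P : Subgroup G) : Set G)) (hodd : Odd (orderOf g)) :
    ∀ x ∈ (P : Subgroup G), Commute g x := by
  have D := dat_of h le_rfl h.M_le h.symm.zP
  refine D.commute_of_full ?_ hg hodd
  have e1 : (P : Subgroup G) ⊓ M' = M' := inf_eq_right.2 h.M'_le
  have e2 : C' ⊓ M' = C' := inf_eq_left.2 h.full'.le
  rw [e1, e2]
  exact h.full'

/-- a property invariant under `P` and the odd elements of the normalisers of the essential subgroups
is invariant under fusion -/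
theorem fus_inv {P : Sylow 2 G} {M C M' C' : Subgroup G} {z z' : G} (h : PD (P : Subgroup G) M C z M' C' z')
    (K : Subgroup G) (hKP : ∀ p ∈ (P : Subgroup G), ∀ x ∈ K, p * x * p⁻¹ ∈ K)
    (h1 : ∀ X : Subgroup G, EssDefs.Ess 2 (P : Subgroup G) X → M ≤ X → ∀ g ∈ normalizer (X : Set G),
      Odd (orderOf g) → ∀ x ∈ X, x ∈ K → g * x * g⁻¹ ∈ K)
    (h2 : ∀ X : Subgroup G, EssDefs.Ess 2 (P : Subgroup G) X → M' ≤ X → ∀ g ∈ normalizer (X : Set G),
      Odd (orderOf g) → ∀ x ∈ X, x ∈ K → g * x * g⁻¹ ∈ K) {x g : G} (hx : x ∈ (P : Subgroup G))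
    (hg : g * x * g⁻¹ ∈ (P : Subgroup G)) : g * x * g⁻¹ ∈ K ↔ x ∈ K := by
  have : Fact (Nat.Prime 2) := ⟨Nat.prime_two⟩
  have red : ∀ X : Subgroup G, (¬ 2 ∣ ((P : Subgroup G) ⊓ normalizer (X : Set G)).relIndex (normalizer (X : Set G))) →
      (∀ g ∈ normalizer (X : Set G), Odd (orderOf g) → ∀ x ∈ X, x ∈ K → g * x * g⁻¹ ∈ K) →
      normalizer (X : Set G) ≤ normalizer ((X ⊓ K : Subgroup G) : Set G) := by
    intro X hd hodd
    apply normalizer_le (P := P) hd
    · intro p hp hpX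
      apply mem_normalizer_of
      rintro x ⟨hx, hx'⟩
      exact ⟨mem_normalizer_conj hpX hx, hKP p hp x hx'⟩
    · intro g hg ho
      apply mem_normalizer_of
      rintro x ⟨hx, hx'⟩
      exact ⟨mem_normalizer_conj hg hx, hodd g hg ho x hx hx'⟩
  have hgen := EssBridge.gen_of_conj P (fun X => normalizer (X : Set G) ≤ normalizer ((X ⊓ K : Subgroup G) : Set G))
    (red _ (sylow_not_dvd P) (fun g hg ho x hx hxK => by
      rw [conj_eq_iff_commute.2 (odd_P h hg ho x hx)]; exact hxK))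
    (fun X hX => red X (ess_dvd hX) (by
      rcases (EssProd.ess_prod h.prod hX).1 with hM | hM
      · exact h1 X hX hM
      · exact h2 X hX hM)) (A := zpowers x) (zpowers_le.2 hx) (g := g) (zpowers_map_conj_le hg)
  have key := Gen.invariant (fun y => y ∈ K) (fun X _ hX g hg y hy => ?_) hgen x (mem_zpowers x)
  · exact iff_of_eq key
  · apply propext
    constructor
    · intro h3
      have h4 := mem_normalizer_conj' (hX hg) (mem_inf.2 ⟨mem_normalizer_conj hg hy, h3⟩)
      have e : g⁻¹ * (g * y * g⁻¹) * g = y := by group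
      rw [e] at h4
      exact h4.2
    · intro h3
      exact (mem_normalizer_conj (hX hg) (mem_inf.2 ⟨hy, h3⟩)).2

theorem exists_relIndex_two {P S : Subgroup G} (hP : IsPGroup 2 P) (hS : S < P) :
    ∃ K : Subgroup G, S ≤ K ∧ K ≤ P ∧ K.relIndex P = 2 := by
  have : Fact (Nat.Prime 2) := ⟨Nat.prime_two⟩
  obtain ⟨n, hn⟩ := IsPGroup.iff_card.1 hP
  have hS2 : IsPGroup 2 (S.subgroupOf P) := hP.to_subgroup _
  obtain ⟨m, hm⟩ := IsPGroup.iff_card.1 hS2
  have hlt : Nat.card (S.subgroupOf P) < Nat.card P := by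
    have h1 : Nat.card (S.subgroupOf P) = Nat.card S := Nat.card_congr (subgroupOfEquivOfLe hS.le).toEquiv
    rw [h1]
    by_contra hcon
    push Not at hcon
    exact hS.ne (Subgroup.eq_of_le_of_card_ge hS.le hcon)
  have hmn : m < n := by
    rw [hm, hn] at hlt
    exact (Nat.pow_lt_pow_iff_right (by norm_num)).1 hlt
  obtain ⟨k, rfl⟩ : ∃ k, n = k + 1 := ⟨n - 1, by omega⟩
  obtain ⟨K, hK, hSK⟩ := Sylow.exists_subgroup_card_pow_prime_le (p := 2) (m := k)
    (by rw [hn]; exact pow_dvd_pow 2 (by omega)) (S.subgroupOf P) hm (by omega)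
  refine ⟨K.map P.subtype, ?_, ?_, ?_⟩
  · intro x hx
    exact ⟨⟨x, hS.le hx⟩, hSK (by rw [mem_subgroupOf]; exact hx), rfl⟩
  · rintro _ ⟨x, -, rfl⟩; exact x.2
  · have h1 : (K.map P.subtype).relIndex P = K.index := by
      rw [relIndex, subgroupOf, comap_map_eq_self_of_injective P.subtype_injective]
    rw [h1]
    have h2 := K.card_mul_index
    rw [hK, hn, pow_succ] at h2
    exact Nat.eq_of_mul_eq_mul_left (by positivity) h2

theorem WU_sup {P : Sylow 2 G} {M C M' C' : Subgroup G} {z z' : G} (h : PD (P : Subgroup G) M C z M' C' z')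
    (h2 : ∀ N : Subgroup G, N.Normal → N.index ≠ 2) {p : G} (hp : p ∈ (P : Subgroup G)) :
    ∃ a ∈ WU P M C M' C' z z', ∃ m' ∈ M', p = a * m' := by
  have hsup : WU P M C M' C' z z' ⊔ M' = P := by
    by_contra hne
    have hlt : WU P M C M' C' z z' ⊔ M' < (P : Subgroup G) :=
      lt_of_le_of_ne (sup_le (WU_le h) h.M'_le) hne
    obtain ⟨K, hSK, hKP, hi⟩ := exists_relIndex_two P.isPGroup' hlt
    have hWK : WU P M C M' C' z z' ≤ K := le_sup_left.trans hSK
    have hMK : M' ≤ K := le_sup_right.trans hSK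
    have hnorm : (K.subgroupOf (P : Subgroup G)).Normal := Subgroup.normal_of_index_eq_two hi
    have hKn : ∀ p ∈ (P : Subgroup G), ∀ x ∈ K, p * x * p⁻¹ ∈ K := by
      intro p hp x hx
      exact hnorm.conj_mem ⟨x, hKP hx⟩ hx ⟨p, hp⟩
    have hzK : z ∈ K := by
      obtain ⟨i, hi', hii⟩ := h.full.sqrt
      have hiP : i ∈ (P : Subgroup G) := h.M_le (h.full.le hi')
      have h3 : (⟨i, hiP⟩ : (P : Subgroup G)) * ⟨i, hiP⟩ ∈ K.subgroupOf (P : Subgroup G) :=
        mul_self_mem_of_index_two hi _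
      rw [mem_subgroupOf] at h3
      rw [← hii]; exact h3
    have hCXK : ∀ X : Subgroup G, EssDefs.Ess 2 (P : Subgroup G) X → M ≤ X → Dat.CX M X ≤ K := by
      intro X hX hMX x hx
      obtain ⟨e, he, t, ht, rfl⟩ := (ess_dat h hX hMX).mem_CX_iff.1 hx
      refine mul_mem ?_ (hMK ht.2)
      rcases he with rfl | rfl
      exacts [one_mem _, hzK]
    have inv := @fus_inv G _ _ P M C M' C' z z' h K hKn ?_ ?_
    · obtain ⟨N, hN, hNi⟩ := exists_index_two P K hKP hi (by
        intro x hx g hg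
        have h3 := inv hx hg
        have h4 : (⟨g * x * g⁻¹, hg⟩ : (P : Subgroup G)) * ⟨x⁻¹, inv_mem hx⟩ ∈ K.subgroupOf (P : Subgroup G) := by
          rw [mul_mem_iff_of_index_two hi, mem_subgroupOf, mem_subgroupOf]
          simp only
          rw [h3, inv_mem_iff]
        exact h4)
      exact h2 N hN hNi
    · intro X hX hMX g hg hodd x hx hxK
      obtain ⟨W, hW⟩ := ess_out h hX hMX
      have D := ess_dat h hX hMX
      have hCX := hCXK X hX hMX
      have hN := ess_CX h hX hMX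
      have hRCX : ∀ r ∈ X ⊓ M', r ∈ Dat.CX M X := fun r hr => D.mem_CX_iff.2 ⟨1, Or.inl rfl, r, hr, (one_mul r).symm⟩
      obtain ⟨m, hm, r, hr, rfl⟩ := (D.mem x).1 hx
      obtain ⟨e, he, hc⟩ := hW.o7 m hm
      have hcg := hc g hg hodd
      have heR : e ∈ X ⊓ M' := by rcases he with rfl | rfl; exacts [one_mem _, D.mq.zR]
      have hmK : m ∈ K := (K.mul_mem_cancel_right (hMK hr.2)).1 hxK
      have e1 : g * (m * r) * g⁻¹ = (m * e) * (g * e⁻¹ * g⁻¹) * (g * r * g⁻¹) := by
        calc g * (m * r) * g⁻¹ = (g * (m * e) * g⁻¹) * (g * e⁻¹ * g⁻¹) * (g * r * g⁻¹) := by group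
          _ = _ := by rw [conj_eq_iff_commute.2 hcg]
      rw [e1]
      refine mul_mem (mul_mem (mul_mem hmK (hMK heR.2)) ?_) ?_
      · exact hCX (mem_normalizer_conj (hN hg) (inv_mem (hRCX e heR)))
      · exact hCX (mem_normalizer_conj (hN hg) (hRCX r hr))
    · intro X hX hMX g hg hodd x hx hxK
      obtain ⟨W, hW⟩ := ess_out h.symm hX hMX
      have D := ess_dat h.symm hX hMX
      have hWW : W ≤ K := (W_le_WU hX hMX hW).trans hWK
      have hgW : g ∈ normalizer (W : Set G) := hW.o5 hg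
      have hgz' : Commute g z' := ess_comm_z h.symm hX hMX hg
      obtain ⟨m', hm', r, hr, rfl⟩ := (D.mem x).1 hx
      have hgr : g * r * g⁻¹ ∈ K := by
        rcases hW.o3 r hr with h3 | h3
        · exact hWW (mem_normalizer_conj hgW h3)
        · have h4 := hWW (mem_normalizer_conj hgW h3)
          rw [conj_mul', conj_eq_iff_commute.2 hgz'] at h4
          exact (K.mul_mem_cancel_left (hMK h.full'.zR)).1 h4
      obtain ⟨e, he, hc⟩ := hW.o7 m' hm'
      have hcg := hc g hg hodd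
      have heW : e ∈ W := by
        rcases he with rfl | rfl
        · exact one_mem _
        · exact (hW.o4 _ (mem_inf.2 ⟨D.mq.zR.1, h.full.zR⟩) h.full.zC).1
      have e1 : g * (m' * r) * g⁻¹ = (m' * e) * (g * e⁻¹ * g⁻¹) * (g * r * g⁻¹) := by
        calc g * (m' * r) * g⁻¹ = (g * (m' * e) * g⁻¹) * (g * e⁻¹ * g⁻¹) * (g * r * g⁻¹) := by group
          _ = _ := by rw [conj_eq_iff_commute.2 hcg]
      rw [e1]
      refine mul_mem (mul_mem (mul_mem (hMK hm') (hWW heW)) ?_) hgr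
      exact hWW (mem_normalizer_conj hgW (inv_mem heW))
  have hn : WU P M C M' C' z z' ≤ normalizer (M' : Set G) := by
    intro a ha
    exact (mem_normalizer_of fun x hx => h.symm.conj_M (WU_le h ha) hx)
  have h3 : p ∈ ((WU P M C M' C' z z' ⊔ M' : Subgroup G) : Set G) := by rw [hsup]; exact hp
  rw [coe_mul_of_left_le_normalizer_right _ _ hn] at h3
  obtain ⟨a, ha, b, hb, e⟩ := h3
  exact ⟨a, ha, b, hb, e.symm⟩

/-- two complements of `N` are isomorphic -/
theorem iso_of_complements {P A M N : Subgroup G} (hA : A ≤ P) (hM : M ≤ P) (hN : N ≤ P)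
    (hn : P ≤ normalizer (N : Set G)) (hAN : ∀ x ∈ A, x ∈ N → x = 1) (hMN : ∀ x ∈ M, x ∈ N → x = 1)
    (hA' : ∀ p ∈ P, ∃ a ∈ A, ∃ n ∈ N, p = a * n) (hM' : ∀ p ∈ P, ∃ a ∈ M, ∃ n ∈ N, p = a * n) :
    Nonempty (A ≃* M) := by
  have hnorm : (N.subgroupOf P).Normal := (normal_subgroupOf_iff_le_normalizer hN).2 hn
  have key : ∀ A : Subgroup G, ∀ hA : A ≤ P, (∀ x ∈ A, x ∈ N → x = 1) → (∀ p ∈ P, ∃ a ∈ A, ∃ n ∈ N, p = a * n) →
      Function.Bijective ((QuotientGroup.mk' (N.subgroupOf P)).comp (Subgroup.inclusion hA)) := by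
    intro A hA h1 h2
    constructor
    · rw [injective_iff_map_eq_one]
      rintro ⟨a, ha⟩ h3
      rw [MonoidHom.comp_apply, QuotientGroup.mk'_apply, QuotientGroup.eq_one_iff, mem_subgroupOf] at h3
      exact Subtype.ext (h1 a ha h3)
    · intro y
      obtain ⟨⟨p, hp⟩, rfl⟩ := QuotientGroup.mk_surjective y
      obtain ⟨a, ha, n, hn, e⟩ := h2 p hp
      refine ⟨⟨a, ha⟩, ?_⟩
      rw [MonoidHom.comp_apply, QuotientGroup.mk'_apply, QuotientGroup.eq, mem_subgroupOf]
      change a⁻¹ * p ∈ N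
      rw [e, inv_mul_cancel_left]
      exact hn
  exact ⟨(MulEquiv.ofBijective _ (key A hA hAN hA')).trans (MulEquiv.ofBijective _ (key M hM hMN hM')).symm⟩

/-- the conclusion of `product_fusion` -/
structure PF (P A B M M' : Subgroup G) : Prop where
  prod : Cfsg.IsInternalDirectProduct A B P
  clA : Cfsg.IsStronglyClosed A P
  clB : Cfsg.IsStronglyClosed B P
  isoA : Nonempty (A ≃* M)
  isoB : Nonempty (B ≃* M')

/-- the first factor -/
theorem WU_half {P : Sylow 2 G} {M C M' C' : Subgroup G} {z z' : G} (h : PD (P : Subgroup G) M C z M' C' z')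
    (h2 : ∀ N : Subgroup G, N.Normal → N.index ≠ 2)
    (hz' : ∃ X : Subgroup G, EssDefs.Ess 2 (P : Subgroup G) X ∧ M ≤ X ∧ ∃ g ∈ normalizer (X : Set G),
      Odd (orderOf g) ∧ ¬ Commute g z')
    (hz : ∃ X : Subgroup G, EssDefs.Ess 2 (P : Subgroup G) X ∧ M' ≤ X ∧ ∃ g ∈ normalizer (X : Set G),
      Odd (orderOf g) ∧ ¬ Commute g z) :
    z ∈ WU P M C M' C' z z' ∧ z' ∉ WU P M C M' C' z z' ∧
      Cfsg.IsStronglyClosed (WU P M C M' C' z z') (P : Subgroup G) ∧ Nonempty (WU P M C M' C' z z' ≃* M) := by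
  have hzA : z ∈ WU P M C M' C' z z' := by
    obtain ⟨X, hX, hMX, -⟩ := hz
    obtain ⟨W, hW⟩ := ess_out h.symm hX hMX
    exact W_le_WU hX hMX hW (hW.o4 _ (mem_inf.2 ⟨ess_zX h hX, h.full.zR⟩) h.full.zC).1
  have hz'A : z' ∉ WU P M C M' C' z z' := by
    obtain ⟨X, hX, hMX, g, hg, hodd, hne⟩ := hz'
    exact fun h' => hne (WU_comm h hX hMX hg hodd h')
  refine ⟨hzA, hz'A, ⟨WU_le h, fun x hx g hg => ?_⟩, ?_⟩
  · refine (fus_inv h _ ?_ ?_ ?_ (WU_le h hx) hg).2 hx
    · intro p hp x hx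
      obtain ⟨a, ha, m', hm', rfl⟩ := WU_sup h h2 hp
      obtain ⟨m, hm, f, hf, e⟩ := WU_mem h hx
      have c : m' * x * m'⁻¹ = x := by
        rw [e, conj_eq_iff_commute]
        have c1 : Commute m' m := (h.comm hm hm').symm
        have c2 : Commute m' f := by
          rcases hf with rfl | rfl
          exacts [Commute.one_right _, h.full'.zcen hm']
        exact c1.mul_right c2
      have e1 : a * m' * x * (a * m')⁻¹ = a * (m' * x * m'⁻¹) * a⁻¹ := by group
      rw [e1, c]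
      exact mul_mem (mul_mem ha hx) (inv_mem ha)
    · intro X hX hMX g hg hodd x _ hx
      rw [conj_eq_iff_commute.2 (WU_comm h hX hMX hg hodd hx)]; exact hx
    · intro X hX hMX g hg hodd x hxX hx
      obtain ⟨W, hW⟩ := ess_out h.symm hX hMX
      have hWA := W_le_WU hX hMX hW
      have hz'X : z' ∈ X := hMX h.full'.zR
      have hxW : x ∈ W := by
        obtain ⟨m, hm, f, hf, rfl⟩ := WU_mem h hx
        have hfX : f ∈ X := by rcases hf with rfl | rfl; exacts [one_mem _, hz'X]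
        have hmX : m ∈ X := (X.mul_mem_cancel_right hfX).1 hxX
        have hcz : z' * m = m * z' := (h.comm hm h.full'.zR).symm
        rcases hW.o3 m (mem_inf.2 ⟨hmX, hm⟩) with h3 | h3
        · have h4 : f ∈ WU P M C M' C' z z' := ((WU P M C M' C' z z').mul_mem_cancel_left (hWA h3)).1 hx
          rcases hf with rfl | rfl
          · rwa [mul_one]
          · exact absurd h4 hz'A
        · have h4 : z' * f ∈ WU P M C M' C' z z' := by
            have h5 := mul_mem (inv_mem (hWA h3)) hx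
            have : (z' * m)⁻¹ * (m * f) = z' * f := by
              rw [mul_inv_rev, inv_eq_of_mul_eq_one_left h.full'.zz]
              calc m⁻¹ * z' * (m * f) = m⁻¹ * (z' * m) * f := by group
                _ = _ := by rw [hcz]; group
            rwa [this] at h5
          rcases hf with rfl | rfl
          · rw [mul_one] at h4; exact absurd h4 hz'A
          · rw [← hcz]; exact h3
      exact hWA (mem_normalizer_conj (hW.o5 hg) hxW)
  · refine iso_of_complements (P := (P : Subgroup G)) (N := M') (WU_le h) h.M_le h.M'_le ?_ ?_ ?_ ?_ ?_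
    · intro p hp
      exact mem_normalizer_of fun x hx => h.symm.conj_M hp hx
    · intro x hx hx'
      obtain ⟨m, hm, f, hf, rfl⟩ := WU_mem h hx
      have hfM : f ∈ M' := by rcases hf with rfl | rfl; exacts [one_mem _, h.full'.zR]
      have hm1 : m = 1 := h.inf hm ((M'.mul_mem_cancel_right hfM).1 hx')
      rw [hm1, one_mul] at hx ⊢
      rcases hf with rfl | rfl
      · rfl
      · exact absurd hx hz'A
    · intro x hx hx'; exact h.inf hx hx'
    · intro p hp; exact WU_sup h h2 hp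
    · intro p hp; exact h.dec hp

/-- **Product fusion.** -/
theorem product_fusion {P : Sylow 2 G} {M C M' C' : Subgroup G} {z z' : G}
    (h : PD (P : Subgroup G) M C z M' C' z') (h2 : ∀ N : Subgroup G, N.Normal → N.index ≠ 2)
    (hz' : ∃ X : Subgroup G, EssDefs.Ess 2 (P : Subgroup G) X ∧ M ≤ X ∧ ∃ g ∈ normalizer (X : Set G),
      Odd (orderOf g) ∧ ¬ Commute g z')
    (hz : ∃ X : Subgroup G, EssDefs.Ess 2 (P : Subgroup G) X ∧ M' ≤ X ∧ ∃ g ∈ normalizer (X : Set G),
      Odd (orderOf g) ∧ ¬ Commute g z) :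
    ∃ A B : Subgroup G, PF (P : Subgroup G) A B M M' := by
  obtain ⟨hzA, hz'A, hclA, hisoA⟩ := WU_half h h2 hz' hz
  obtain ⟨hz'B, hzB, hclB, hisoB⟩ := WU_half h.symm h2 hz hz'
  refine ⟨WU P M C M' C' z z', WU P M' C' M C z' z, ?_, hclA, hclB, hisoA, hisoB⟩
  refine ip_of (WU_le h) (WU_le h.symm) ?_ ?_ ?_
  · intro a ha b hb
    obtain ⟨m, hm, f, hf, rfl⟩ := WU_mem h ha
    obtain ⟨m', hm', f', hf', rfl⟩ := WU_mem h.symm hb
    have c1 : Commute m m' := h.comm hm hm'
    have c2 : Commute m f' := by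
      rcases hf' with rfl | rfl
      exacts [Commute.one_right _, h.full.zcen hm]
    have c3 : Commute f m' := by
      rcases hf with rfl | rfl
      exacts [Commute.one_left _, (show Commute m' f from h.full'.zcen hm').symm]
    have c4 : Commute f f' := by
      rcases hf with rfl | rfl
      · exact Commute.one_left _
      · rcases hf' with rfl | rfl
        exacts [Commute.one_right _, (show Commute f' f from h.comm h.full.zR h.full'.zR).symm]
    exact ((c1.mul_right c2).mul_left (c3.mul_right c4)).eq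
  · intro x hx hx'
    obtain ⟨m, hm, f, hf, e⟩ := WU_mem h hx
    obtain ⟨m', hm', f', hf', e'⟩ := WU_mem h.symm hx'
    have hfM : f ∈ M' := by rcases hf with rfl | rfl; exacts [one_mem _, h.full'.zR]
    have hfM' : f' ∈ M := by rcases hf' with rfl | rfl; exacts [one_mem _, h.full.zR]
    have h1 : m * f = f' * m' := by rw [← e, e']; exact (h.comm hfM' hm').symm
    obtain ⟨e1, e2⟩ := EssProd.mul_inj h.prod hm hfM' hfM hm' h1
    -- `x = f' * f`
    have h3 : x = f' * f := by rw [e, e1]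
    have hff : f' * f ∈ WU P M C M' C' z z' := h3 ▸ hx
    have hff' : f' * f ∈ WU P M' C' M C z' z := h3 ▸ hx'
    have hf'A : f' ∈ WU P M C M' C' z z' := by rcases hf' with rfl | rfl; exacts [one_mem _, hzA]
    have hfB : f ∈ WU P M' C' M C z' z := by rcases hf with rfl | rfl; exacts [one_mem _, hz'B]
    have hf1 : f = 1 := by
      rcases hf with h4 | h4
      · exact h4
      · exact absurd (h4 ▸ ((WU P M C M' C' z z').mul_mem_cancel_left hf'A).1 hff) hz'A
    have hf2 : f' = 1 := by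
      rcases hf' with h4 | h4
      · exact h4
      · exact absurd (h4 ▸ ((WU P M' C' M C z' z).mul_mem_cancel_right hfB).1 hff') hzB
    rw [h3, hf1, hf2, mul_one]
  · intro p hp
    obtain ⟨a, ha, m', hm', rfl⟩ := WU_sup h h2 hp
    obtain ⟨b, hb, m, hm, e⟩ := WU_sup h.symm h2 (h.M'_le hm')
    obtain ⟨m'', hm'', f', hf', e'⟩ := WU_mem h.symm hb
    have hf'A : f' ∈ WU P M C M' C' z z' := by rcases hf' with rfl | rfl; exacts [one_mem _, hzA]
    have hf'M : f' ∈ M := by rcases hf' with rfl | rfl; exacts [one_mem _, h.full.zR]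
    -- `m = f'⁻¹`
    have h1 : 1 * m' = (f' * m) * m'' := by
      rw [one_mul, e, e']
      have c := h.comm (mul_mem hf'M hm) hm''
      rw [c]; group
    obtain ⟨e1, e2⟩ := EssProd.mul_inj h.prod (one_mem _) (mul_mem hf'M hm) hm' hm'' h1
    have hmA : m ∈ WU P M C M' C' z z' := by
      have : m = f'⁻¹ := eq_inv_of_mul_eq_one_right e1.symm
      rw [this]; exact inv_mem hf'A
    refine ⟨a * m, mul_mem ha hmA, b, hb, ?_⟩
    have c : m * b = b * m := by
      rw [e']
      have c1 : Commute m m'' := h.comm hm hm''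
      have c2 : Commute m f' := by
        rcases hf' with rfl | rfl
        exacts [Commute.one_right _, h.full.zcen hm]
      exact (c1.mul_right c2).eq
    rw [e, mul_assoc, c]

end Cfsg.Agent.H301.Data
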