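import Mathlib
import Cfsg.Agent.H301.Fusion
import Cfsg.Agent.H301.Forms
import Cfsg.Agent.S0215
import Cfsg.Agent.TwoFusion.ClosedCommutator
import Cfsg.Agent.TwoFusion.ProdFromComm

/-!
# From product fusion to a direct product

`exists_moving`, `exists_moving_dihedral`: the hypotheses of `product_fusion`.
`split`: if the Sylow 2-subgroup `P = A × B` is the product of two strongly closed subgroups and the elements of
odd order of `N_G(P)` centralise `P`, then the normal closures of `A` and `B` form a direct product and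
they have no subgroup of index two.
-/

set_option autoImplicit false
set_option linter.unusedSectionVars false
set_option linter.unusedVariables false

namespace Cfsg.Agent.H301.Data

open Subgroup
open Cfsg.Agent.Lib.GoldschmidtFusion
open Cfsg.Agent.Lib
open Cfsg.Agent.H301.Cop
open scoped commutatorElement

section

variable {G : Type*} [Group G] [Finite G]

/-- if `O(G) = Z(G) = 1`, some element of odd order moves `z'` -/
theorem exists_moving {P : Sylow 2 G} {M C M' C' : Subgroup G} {z z' : G} (h : PD (P : Subgroup G) M C z M' C' z')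
    (hO : Cfsg.oddCore G = ⊥) (hZ : center G = ⊥) :
    ∃ X : Subgroup G, EssDefs.Ess 2 (P : Subgroup G) X ∧ M ≤ X ∧ ∃ g ∈ normalizer (X : Set G),
      Odd (orderOf g) ∧ ¬ Commute g z' := by
  have : Fact (Nat.Prime 2) := ⟨Nat.prime_two⟩
  by_contra hcon
  push Not at hcon
  have hPz : ∀ p ∈ (P : Subgroup G), Commute p z' := fun p hp => h.symm.z_comm hp
  have hiso : ∀ g : G, g * z' * g⁻¹ ∈ (P : Subgroup G) → g * z' * g⁻¹ = z' := by
    intro g hg
    refine fus_fix h.symm.zP ?_ ?_ hg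
    · exact normalizer_le_centralizer (sylow_not_dvd P) hPz
        (fun g hg ho => odd_P h hg ho z' h.symm.zP)
    · intro X hX
      apply normalizer_le_centralizer (ess_dvd hX) hPz
      intro g hg ho
      rcases (EssProd.ess_prod h.prod hX).1 with hM | hM
      · exact hcon X hX hM g hg ho
      · exact ess_comm_z h.symm hX hM hg
  have hord : orderOf z' = 2 := orderOf_eq_prime (by rw [pow_two, h.full'.zz]) h.full'.z1
  obtain ⟨N, hN, hNo, hNc⟩ := Cfsg.Agent.S0215.result P z' hord h.symm.zP hiso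
  have hN1 : N ≤ Cfsg.oddCore G := Cores.le_pPrimeCore hN (Nat.coprime_two_right.2 hNo)
  rw [hO, le_bot_iff] at hN1
  have hz : z' ∈ center G := by
    rw [mem_center_iff]
    intro g
    have h1 := hNc g
    rw [hN1, mem_bot] at h1
    exact (mul_inv_eq_iff_eq_mul.1 (mul_inv_eq_one.1 h1)).symm
  rw [hZ, mem_bot] at hz
  exact h.full'.z1 hz

/-- the same for a dihedral group `M'` -/
theorem exists_moving_dihedral {P : Sylow 2 G} {M C M' C' : Subgroup G} {z z' : G}
    (h : PD (P : Subgroup G) M C z M' C' z') (h2 : ∀ N : Subgroup G, N.Normal → N.index ≠ 2)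
    (hdih : ∀ w ∈ M', w ∉ C' → w * w = 1) :
    ∃ X : Subgroup G, EssDefs.Ess 2 (P : Subgroup G) X ∧ M ≤ X ∧ ∃ g ∈ normalizer (X : Set G),
      Odd (orderOf g) ∧ ¬ Commute g z' := by
  obtain ⟨X, hX, hMX⟩ : ∃ X : Subgroup G, EssDefs.Ess 2 (P : Subgroup G) X ∧ M ≤ X := by
    by_contra hcon
    push Not at hcon
    obtain ⟨b, hb, m, hm, e⟩ := WU_sup h.symm h2 h.symm.zP
    have hb1 : b = 1 := by
      have : WU P M' C' M C z' z ≤ ⊥ := by
        rw [WU, closure_le]
        rintro y ⟨X, W, hX, hMX, -, -⟩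
        exact absurd hMX (hcon X hX)
      exact mem_bot.1 (this hb)
    rw [hb1, one_mul] at e
    exact h.full'.z1 (h.inf (e ▸ hm) h.full'.zR)
  rcases ess_type h hX hMX with ⟨h1, v, hv, hvC, hvv⟩ | ⟨-, -, w, hw, hwC, hww⟩
  · obtain ⟨W, -, g, hg, ho, hne⟩ := v_type h hX hMX h1 hv hvC hvv
    exact ⟨X, hX, hMX, g, hg, ho, hne⟩
  · exact absurd ((hdih w hw.2 hwC).symm.trans hww).symm h.full'.z1

/-- a normal subgroup of odd index contains the elements of 2-power order -/
theorem mem_of_odd_index {H : Subgroup G} (hH : H.Normal) (ho : Odd H.index) {x : G} {k : ℕ} (hx : x ^ 2 ^ k = 1) :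
    x ∈ H := by
  refine StdRank2.Split.mem_of_pow_mem (a := H.index) (b := 2 ^ k)
    (Nat.Coprime.pow_right k (Nat.coprime_two_right.2 ho)) (H.pow_index_mem x) ?_
  rw [hx]; exact one_mem _

theorem mem_of_odd_rel {H N : Subgroup G} (hHN : H ≤ N) (hH : N ≤ normalizer (H : Set G)) (ho : Odd (H.relIndex N))
    {x : G} (hxN : x ∈ N) {k : ℕ} (hx : x ^ 2 ^ k = 1) : x ∈ H := by
  have h1 : (H.subgroupOf N).Normal := (normal_subgroupOf_iff_le_normalizer hHN).2 hH
  have := mem_of_odd_index h1 ho (x := ⟨x, hxN⟩) (k := k) (Subtype.ext (by simpa using hx))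
  exact this

end

/-- the data of `split` -/
structure Spl {G : Type*} [Group G] (P A B : Subgroup G) : Prop where
  prod : Cfsg.IsInternalDirectProduct (normalClosure (A : Set G)) (normalClosure (B : Set G))
    (normalClosure (A : Set G) ⊔ normalClosure (B : Set G))
  odd : Odd (normalClosure (A : Set G) ⊔ normalClosure (B : Set G)).index
  infA : P ⊓ normalClosure (A : Set G) = A
  infB : P ⊓ normalClosure (B : Set G) = B
  noA : ∀ H : Subgroup (normalClosure (A : Set G)), H.index ≠ 2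
  noB : ∀ H : Subgroup (normalClosure (B : Set G)), H.index ≠ 2
  coreA : Cfsg.oddCore (normalClosure (A : Set G)) = ⊥
  coreB : Cfsg.oddCore (normalClosure (B : Set G)) = ⊥

universe u

variable {G : Type u} [Group G] [Finite G]

theorem core_bot (hO : Cfsg.oddCore G = ⊥) {N : Subgroup G} (hN : N.Normal) : Cfsg.oddCore N = ⊥ := by
  have hc : (Cfsg.oddCore N).Characteristic := Cores.pPrimeCore_characteristic 2
  have h1 : ((Cfsg.oddCore N).map N.subtype).Normal := by
    have := hN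
    infer_instance
  have h2 : (Cfsg.oddCore N).map N.subtype ≤ Cfsg.oddCore G := by
    refine Cores.le_pPrimeCore h1 ?_
    rw [Nat.card_congr ((Cfsg.oddCore N).equivMapOfInjective _ N.subtype_injective).symm.toEquiv]
    exact Cores.pPrimeCore_coprime 2
  rw [hO, le_bot_iff, Subgroup.map_eq_bot_iff_of_injective _ N.subtype_injective] at h2
  exact h2

/-- Frattini -/
theorem frattini (P : Sylow 2 G)
    (hcen : ∀ g ∈ normalizer ((P : Subgroup G) : Set G), Odd (orderOf g) → ∀ x ∈ (P : Subgroup G), Commute g x)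
    {N : Subgroup G} (hNn : N.Normal) (hPNle : (P : Subgroup G) ≤ N) (g : G) :
    ∃ n ∈ N, ∃ c ∈ centralizer ((P : Subgroup G) : Set G), g = n * c := by
  have : Fact (Nat.Prime 2) := ⟨Nat.prime_two⟩
  have hNP : normalizer ((P : Subgroup G) : Set G) ≤ N ⊔ centralizer ((P : Subgroup G) : Set G) := by
    apply normalizer_le (P := P) (sylow_not_dvd P)
    · intro p hp _; exact mem_sup_left (hPNle hp)
    · intro g hg ho
      exact mem_sup_right (mem_cent.2 fun x hx => (hcen g hg ho x hx).eq)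
  have h1 : normalizer ((P : Subgroup G) : Set G) ⊔ N = ⊤ := Sylow.normalizer_sup_eq_top' P hPNle
  have h2 : g ∈ N ⊔ centralizer ((P : Subgroup G) : Set G) := by
    have h3 : g ∈ normalizer ((P : Subgroup G) : Set G) ⊔ N := by rw [h1]; trivial
    exact (sup_le hNP le_sup_left) h3
  rw [← SetLike.mem_coe, normal_mul] at h2
  obtain ⟨n, hn, c, hc, e⟩ := h2
  exact ⟨n, hn, c, hc, e.symm⟩

theorem inf_eq_of {P A B N₁ N₂ : Subgroup G} (prod : Cfsg.IsInternalDirectProduct A B P) (hA : A ≤ N₁) (hB : B ≤ N₂)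
    (hinf : ∀ x ∈ N₁, x ∈ N₂ → x = 1) : P ⊓ N₁ = A := by
  apply le_antisymm
  · rintro x ⟨hx, hx'⟩
    obtain ⟨a, ha, b, hb, rfl⟩ := EssProd.exists_mul prod hx
    have h1 : b ∈ N₁ := (N₁.mul_mem_cancel_left (hA ha)).1 hx'
    rw [hinf b h1 (hB hb), mul_one]; exact ha
  · exact le_inf prod.1 hA

/-- no subgroup of index two in the first factor -/
theorem no_index_two (h2 : ∀ N : Subgroup G, N.Normal → N.index ≠ 2) (P : Sylow 2 G) {A B : Subgroup G}
    (prod : Cfsg.IsInternalDirectProduct A B (P : Subgroup G))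
    (hcen : ∀ g ∈ normalizer ((P : Subgroup G) : Set G), Odd (orderOf g) → ∀ x ∈ (P : Subgroup G), Commute g x)
    {N₁ N₂ : Subgroup G} (hN₁ : N₁.Normal) (hN₂ : N₂.Normal) (hA : A ≤ N₁) (hB : B ≤ N₂)
    (hcomm : ∀ a ∈ N₁, ∀ b ∈ N₂, a * b = b * a) (hinf : ∀ x ∈ N₁, x ∈ N₂ → x = 1)
    (H : Subgroup N₁) : H.index ≠ 2 := by
  intro hH
  have : Fact (Nat.Prime 2) := ⟨Nat.prime_two⟩
  have hHn : H.Normal := Subgroup.normal_of_index_eq_two hH
  set H' : Subgroup G := H.map N₁.subtype with hH'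
  have hmemH' : ∀ {x : G} (hx : x ∈ N₁), x ∈ H' ↔ (⟨x, hx⟩ : N₁) ∈ H := by
    intro x hx
    rw [hH', Subgroup.mem_map]
    constructor
    · rintro ⟨y, hy, e⟩
      have : y = ⟨x, hx⟩ := Subtype.ext e
      rwa [← this]
    · intro h; exact ⟨_, h, rfl⟩
  have hAP : A ≤ P := prod.1
  have hBP : B ≤ P := prod.2.1
  have dec : ∀ {x}, x ∈ (P : Subgroup G) → ∃ a ∈ A, ∃ b ∈ B, x = a * b := fun hx => EssProd.exists_mul prod hx
  -- `A` is not contained in `H'`
  have hPN : (P : Subgroup G) ⊓ N₁ = A := by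
    apply le_antisymm
    · rintro x ⟨hx, hx'⟩
      obtain ⟨a, ha, b, hb, rfl⟩ := dec hx
      have h1 : b ∈ N₁ := (N₁.mul_mem_cancel_left (hA ha)).1 hx'
      rw [hinf b h1 (hB hb), mul_one]; exact ha
    · exact le_inf hAP hA
  obtain ⟨a0, ha0, ha0H⟩ : ∃ a ∈ A, a ∉ H' := by
    by_contra hcon
    push Not at hcon
    have h1 : A.subgroupOf N₁ ≤ H := by
      intro x hx
      exact (hmemH' x.2).1 (hcon x hx)
    have h3 : ¬ 2 ∣ (A.subgroupOf N₁).index := by
      have h4 := TwoFusion.TransferIndex.not_dvd_relIndex_inf P N₁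
      rw [inf_comm, hPN] at h4
      exact h4
    apply h3
    rw [← hH]
    exact index_dvd_of_le h1
  have cAB : ∀ a ∈ H' ⊓ A, ∀ b ∈ B, a * b = b * a := fun a ha b hb => prod.2.2.1 a ha.2 b hb
  set K : Subgroup G := mulS (H' ⊓ A) B cAB with hK
  have hKP : K ≤ P := by
    rintro x ⟨a, ha, b, hb, rfl⟩
    exact mul_mem (hAP ha.2) (hBP hb)
  have hKmem : ∀ a ∈ A, ∀ b ∈ B, a * b ∈ K ↔ a ∈ H' := by
    intro a ha b hb
    constructor
    · rintro ⟨a', ha', b', hb', e⟩
      rw [(EssProd.mul_inj prod ha ha'.2 hb hb' e).1]; exact ha'.1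
    · intro h; exact ⟨a, ⟨h, ha⟩, b, hb, rfl⟩
  have hKi : K.relIndex (P : Subgroup G) = 2 := by
    rw [relIndex, index_eq_two_iff]
    refine ⟨⟨a0, hAP ha0⟩, ?_⟩
    rintro ⟨x, hx⟩
    obtain ⟨a, ha, b, hb, rfl⟩ := dec hx
    have e1 : a * b * a0 = (a * a0) * b := by
      have := prod.2.2.1 a0 ha0 b hb
      rw [mul_assoc, ← this]; group
    have e2 : ((⟨a * b, hx⟩ : (P : Subgroup G)) * ⟨a0, hAP ha0⟩ ∈ K.subgroupOf (P : Subgroup G)) ↔ a * a0 ∈ H' := by
      rw [mem_subgroupOf]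
      change a * b * a0 ∈ K ↔ _
      rw [e1, hKmem _ (mul_mem ha ha0) _ hb]
    have e3 : ((⟨a * b, hx⟩ : (P : Subgroup G)) ∈ K.subgroupOf (P : Subgroup G)) ↔ a ∈ H' := by
      rw [mem_subgroupOf]
      exact hKmem a ha b hb
    have e4 : a * a0 ∈ H' ↔ (a ∈ H' ↔ a0 ∈ H') := by
      rw [hmemH' (mul_mem (hA ha) (hA ha0)), hmemH' (hA ha), hmemH' (hA ha0)]
      exact mul_mem_iff_of_index_two hH (a := ⟨a, hA ha⟩) (b := ⟨a0, hA ha0⟩)
    rw [xor_def, e2, e3, e4]
    by_cases h : a ∈ H'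
    · right; exact ⟨h, fun h' => ha0H (h'.1 h)⟩
    · left; exact ⟨iff_of_false h ha0H, h⟩
  -- Frattini
  set N : Subgroup G := N₁ ⊔ N₂ with hN
  have hNn : N.Normal := by
    have := hN₁; have := hN₂
    exact Subgroup.sup_normal N₁ N₂
  have hPNle : (P : Subgroup G) ≤ N := by
    intro x hx
    obtain ⟨a, ha, b, hb, rfl⟩ := dec hx
    exact mul_mem (mem_sup_left (hA ha)) (mem_sup_right (hB hb))
  have hFr := fun g => frattini P hcen hNn hPNle g
  obtain ⟨L, hL, hLi⟩ := exists_index_two P K hKP hKi (by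
    intro x hx g hg
    obtain ⟨n, hn, c, hc, rfl⟩ := hFr g
    rw [mem_cent] at hc
    have e1 : n * c * x * (n * c)⁻¹ = n * x * n⁻¹ := by
      have := hc x hx
      calc n * c * x * (n * c)⁻¹ = n * (c * x) * c⁻¹ * n⁻¹ := by group
        _ = _ := by rw [this]; group
    rw [e1] at hg ⊢
    rw [← SetLike.mem_coe, hN, mul_normal] at hn
    obtain ⟨n₁, hn₁, n₂, hn₂, rfl⟩ := hn
    obtain ⟨a, ha, b, hb, rfl⟩ := dec hx
    have hn₁ : n₁ ∈ N₁ := hn₁
    have hn₂ : n₂ ∈ N₂ := hn₂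
    have h1 : n₁ * a * n₁⁻¹ ∈ N₁ := hN₁.conj_mem a (hA ha) n₁
    have h2 : n₂ * b * n₂⁻¹ ∈ N₂ := hN₂.conj_mem b (hB hb) n₂
    have e2 : n₁ * n₂ * (a * b) * (n₁ * n₂)⁻¹ = (n₁ * a * n₁⁻¹) * (n₂ * b * n₂⁻¹) := by
      have c1 := hcomm a (hA ha) n₂ hn₂
      have c2 := hcomm _ (inv_mem hn₁) _ h2
      calc n₁ * n₂ * (a * b) * (n₁ * n₂)⁻¹ = n₁ * (n₂ * a) * b * n₂⁻¹ * n₁⁻¹ := by group
        _ = n₁ * a * ((n₂ * b * n₂⁻¹) * n₁⁻¹) := by rw [← c1]; group
        _ = _ := by rw [← c2]; group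
    rw [e2] at hg ⊢
    obtain ⟨a', ha', b', hb', e3⟩ := dec hg
    have h3 : n₁ * a * n₁⁻¹ = a' := by
      have h4 : a'⁻¹ * (n₁ * a * n₁⁻¹) = b' * (n₂ * b * n₂⁻¹)⁻¹ := by
        calc a'⁻¹ * (n₁ * a * n₁⁻¹) = a'⁻¹ * ((n₁ * a * n₁⁻¹) * (n₂ * b * n₂⁻¹)) * (n₂ * b * n₂⁻¹)⁻¹ := by group
          _ = _ := by rw [e3]; group
      have h5 := hinf _ (mul_mem (inv_mem (hA ha')) h1)
        (by rw [h4]; exact mul_mem (hB hb') (inv_mem h2))
      exact (inv_mul_eq_one.1 h5).symm
    rw [h3] at e3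
    have h6 : n₂ * b * n₂⁻¹ = b' := mul_left_cancel e3
    rw [h3, h6]
    have e4 : a' * b' * (a * b)⁻¹ = (a' * a⁻¹) * (b' * b⁻¹) := by
      have c1 := prod.2.2.1 a⁻¹ (inv_mem ha) _ (mul_mem hb' (inv_mem hb))
      calc a' * b' * (a * b)⁻¹ = a' * ((b' * b⁻¹) * a⁻¹) := by group
        _ = _ := by rw [← c1]; group
    rw [e4, hKmem _ (mul_mem ha' (inv_mem ha)) _ (mul_mem hb' (inv_mem hb)),
      hmemH' (mul_mem (hA ha') (inv_mem (hA ha)))]
    have h7 : (⟨a', hA ha'⟩ : N₁) = ⟨n₁, hn₁⟩ * ⟨a, hA ha⟩ * ⟨n₁, hn₁⟩⁻¹ := Subtype.ext h3.symm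
    have h8 : (⟨a' * a⁻¹, mul_mem (hA ha') (inv_mem (hA ha))⟩ : N₁) =
        (⟨n₁, hn₁⟩ * ⟨a, hA ha⟩ * ⟨n₁, hn₁⟩⁻¹) * ⟨a, hA ha⟩⁻¹ := by
      rw [← h7]; rfl
    rw [h8]
    have h9 := mul_mem_iff_of_index_two hH (a := ⟨n₁, hn₁⟩ * (⟨a, hA ha⟩ : N₁) * ⟨n₁, hn₁⟩⁻¹)
      (b := (⟨a, hA ha⟩ : N₁)⁻¹)
    rw [h9, inv_mem_iff]
    constructor
    · intro h
      have h10 := hHn.conj_mem _ h (⟨n₁, hn₁⟩⁻¹ : N₁)
      have e5 : (⟨n₁, hn₁⟩⁻¹ : N₁) * (⟨n₁, hn₁⟩ * ⟨a, hA ha⟩ * ⟨n₁, hn₁⟩⁻¹) * (⟨n₁, hn₁⟩⁻¹ : N₁)⁻¹ = ⟨a, hA ha⟩ := by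
        group
      rwa [e5] at h10
    · intro h; exact hHn.conj_mem _ h _)
  exact h2 L hL hLi

/-- **The splitting.** -/
theorem split (hO : Cfsg.oddCore G = ⊥) (hZ : center G = ⊥) (h2 : ∀ N : Subgroup G, N.Normal → N.index ≠ 2)
    (P : Sylow 2 G) {A B : Subgroup G} (prod : Cfsg.IsInternalDirectProduct A B (P : Subgroup G))
    (clA : Cfsg.IsStronglyClosed A (P : Subgroup G)) (clB : Cfsg.IsStronglyClosed B (P : Subgroup G))
    (hcen : ∀ g ∈ normalizer ((P : Subgroup G) : Set G), Odd (orderOf g) → ∀ x ∈ (P : Subgroup G), Commute g x) :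
    Spl (P : Subgroup G) A B := by
  have : Fact (Nat.Prime 2) := ⟨Nat.prime_two⟩
  set N₁ := normalClosure (A : Set G) with hN₁
  set N₂ := normalClosure (B : Set G) with hN₂
  have hN₁n : N₁.Normal := normalClosure_normal
  have hN₂n : N₂.Normal := normalClosure_normal
  have hA : A ≤ N₁ := le_normalClosure
  have hB : B ≤ N₂ := le_normalClosure
  have hc : ⁅N₁, N₂⁆ = ⊥ := by
    have := TwoFusion.ClosedCommutator.commutator_le P A B prod.2.2.2.1 clA clB
    rw [hO, le_bot_iff] at this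
    exact this
  have hcomm := TwoFusion.ProdFromComm.comm_of_commutator_eq_bot hc
  have hPle : (P : Subgroup G) ≤ N₁ ⊔ N₂ := by
    intro x hx
    obtain ⟨a, ha, b, hb, rfl⟩ := EssProd.exists_mul prod hx
    exact mul_mem (mem_sup_left (hA ha)) (mem_sup_right (hB hb))
  -- the intersection
  set Z : Subgroup G := N₁ ⊓ N₂ with hZdef
  have hZn : Z.Normal := inferInstance
  have hZcomm : ∀ x ∈ Z, ∀ n ∈ N₁ ⊔ N₂, n * x = x * n := by
    intro x hx n hn
    rw [← SetLike.mem_coe, mul_normal] at hn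
    obtain ⟨n₁, hn₁, n₂, hn₂, rfl⟩ := hn
    have c1 : n₁ * x = x * n₁ := hcomm n₁ hn₁ x hx.2
    have c2 : x * n₂ = n₂ * x := hcomm x hx.1 n₂ hn₂
    calc n₁ * n₂ * x = n₁ * (n₂ * x) := by group
      _ = (n₁ * x) * n₂ := by rw [← c2]; group
      _ = _ := by rw [c1]; group
  have hZO : Cfsg.oddCore Z = ⊥ := core_bot hO hZn
  have hZ2 : IsPGroup 2 Z := by
    intro x
    obtain ⟨k, m, hm, hkm⟩ := Nat.exists_eq_two_pow_mul_odd (orderOf_pos x).ne'
    refine ⟨k, ?_⟩
    have hodd : Odd (orderOf (x ^ 2 ^ k)) := by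
      rw [orderOf_pow_of_dvd (by positivity) (by rw [hkm]; exact dvd_mul_right _ _), hkm,
        Nat.mul_div_cancel_left _ (by positivity)]
      exact hm
    have hn : (zpowers (x ^ 2 ^ k)).Normal := by
      refine ⟨fun y hy g => ?_⟩
      have : g * y * g⁻¹ = y := by
        apply Subtype.ext
        have := hZcomm y y.2 g (mem_sup_left g.2.1)
        change (g : G) * y * (g : G)⁻¹ = y
        rw [this, mul_inv_cancel_right]
      rw [this]; exact hy
    have h1 : zpowers (x ^ 2 ^ k) ≤ Cfsg.oddCore Z := by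
      refine Cores.le_pPrimeCore hn ?_
      rw [Nat.card_zpowers]
      exact Nat.coprime_two_right.2 hodd
    rw [hZO, le_bot_iff, zpowers_eq_bot] at h1
    exact h1
  have hZP : Z ≤ (P : Subgroup G) := IsPGroup.le_sylow_of_normal hZ2 P
  have hZbot : ∀ x ∈ N₁, x ∈ N₂ → x = 1 := by
    intro x hx hx'
    have hxZ : x ∈ Z := ⟨hx, hx'⟩
    have h1 : x ∈ center G := by
      rw [mem_center_iff]
      intro g
      obtain ⟨n, hn, c, hc, rfl⟩ := frattini P hcen (Subgroup.sup_normal N₁ N₂) hPle g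
      have c1 := hZcomm x hxZ n hn
      have c2 : c * x = x * c := mem_cent.1 hc x (hZP hxZ)
      calc n * c * x = n * (c * x) := by group
        _ = (n * x) * c := by rw [c2]; group
        _ = _ := by rw [c1]; group
    rwa [hZ, mem_bot] at h1
  refine
    { prod := ip_of le_sup_left le_sup_right hcomm hZbot ?_
      odd := ?_
      infA := inf_eq_of prod hA hB hZbot
      infB := inf_eq_of (TwoFusion.ProdFromComm.prod_symm prod) hB hA (fun x hx hx' => hZbot x hx' hx)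
      noA := no_index_two h2 P prod hcen hN₁n hN₂n hA hB hcomm hZbot
      noB := no_index_two h2 P (TwoFusion.ProdFromComm.prod_symm prod) hcen hN₂n hN₁n hB hA
        (fun a ha b hb => (hcomm b hb a ha).symm) (fun x hx hx' => hZbot x hx' hx)
      coreA := core_bot hO hN₁n
      coreB := core_bot hO hN₂n }
  · intro x hx
    rw [← SetLike.mem_coe, mul_normal] at hx
    obtain ⟨n₁, hn₁, n₂, hn₂, e⟩ := hx
    exact ⟨n₁, hn₁, n₂, hn₂, e.symm⟩
  · have h1 : (N₁ ⊔ N₂).index ∣ (P : Subgroup G).index := index_dvd_of_le hPle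
    refine Odd.of_dvd_nat ?_ h1
    rw [← Nat.not_even_iff_odd, even_iff_two_dvd]
    exact P.not_dvd_index

/-- the Sylow subgroup of a normal subgroup -/
theorem sylow_normalClosure (P : Sylow 2 G) {A N : Subgroup G} (hN : N.Normal)
    (h : (P : Subgroup G) ⊓ N = A) : ∃ S : Sylow 2 N, (S : Subgroup N) = A.subgroupOf N := by
  have : Fact (Nat.Prime 2) := ⟨Nat.prime_two⟩
  have hp : IsPGroup 2 (A.subgroupOf N) := by
    refine IsPGroup.comap_of_injective (P.isPGroup'.to_le ?_) N.subtype N.subtype_injective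
    rw [← h]; exact inf_le_left
  have hi : ¬ 2 ∣ (A.subgroupOf N).index := by
    have h4 := TwoFusion.TransferIndex.not_dvd_relIndex_inf P N
    rw [inf_comm, h] at h4
    exact h4
  exact ⟨hp.toSylow hi, rfl⟩

/-- a normal simple subgroup of odd index of the normal closure of a 2-group is everything -/
theorem simple_of_odd {A N : Subgroup G} (hN : N = normalClosure (A : Set G)) (hA : IsPGroup 2 A) (hA1 : A ≠ ⊥)
    {L : Subgroup N} (hL : L.Normal) (hLi : Odd L.index) (hLs : IsSimpleGroup L) :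
    IsSimpleGroup N := by
  have hNn : N.Normal := by rw [hN]; exact normalClosure_normal
  have hAN : A ≤ N := by rw [hN]; exact le_normalClosure
  set L' : Subgroup G := L.map N.subtype with hL'
  have hL'N : L' ≤ N := map_subtype_le _
  have hNL' : N ≤ normalizer (L' : Set G) := by
    intro n hn
    apply mem_normalizer_of
    rintro _ ⟨y, hy, rfl⟩
    exact ⟨⟨n, hn⟩ * y * ⟨n, hn⟩⁻¹, hL.conj_mem y hy _, rfl⟩
  have hL'i : Odd (L'.relIndex N) := by
    have : L'.relIndex N = L.index := by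
      rw [relIndex, subgroupOf, comap_map_eq_self_of_injective N.subtype_injective]
    rw [this]; exact hLi
  have key : ∀ K : Subgroup G, K ≤ N → N ≤ normalizer (K : Set G) → Odd (K.relIndex N) → A ≤ K := by
    intro K hK hK' hKi a ha
    obtain ⟨k, hk⟩ := hA ⟨a, ha⟩
    exact mem_of_odd_rel hK hK' hKi (hAN ha) (k := k) (by simpa using congrArg Subtype.val hk)
  have hAL := key L' hL'N hNL' hL'i
  have hL'eq : Nat.card L' = Nat.card L := Nat.card_congr (L.equivMapOfInjective _ N.subtype_injective).symm.toEquiv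
  have hL's : IsSimpleGroup L' :=
    (L.equivMapOfInjective _ N.subtype_injective).symm.isSimpleGroup
  have hL'n : L'.Normal := by
    refine ⟨fun x hx g => ?_⟩
    -- the conjugate
    set K : Subgroup G := L'.map (MulAut.conj g).toMonoidHom with hK
    have hgN : N.map (MulAut.conj g).toMonoidHom = N := mem_normalizer_iff_map_conj.1 (by
      rw [normalizer_eq_top_iff.2 hNn]; trivial)
    have hKN : K ≤ N := by rw [← hgN]; exact Subgroup.map_mono hL'N
    have hNK : N ≤ normalizer (K : Set G) := by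
      rw [hK, ← map_conj_normalizer, ← hgN]
      exact Subgroup.map_mono hNL'
    have hKi : Odd (K.relIndex N) := by
      have h1 : K.relIndex N = L'.relIndex N := by
        have h2 := card_mul_rel hKN
        have h3 := card_mul_rel hL'N
        rw [hK, card_map_conj, ← h3] at h2
        exact Nat.eq_of_mul_eq_mul_left Nat.card_pos h2
      rw [h1]; exact hL'i
    have hAK := key K hKN hNK hKi
    have h1 : (K.subgroupOf L').Normal := by
      refine ⟨fun y hy l => ?_⟩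
      rw [mem_subgroupOf] at hy ⊢
      exact mem_normalizer_conj (hNK (hL'N l.2)) hy
    rcases h1.eq_bot_or_eq_top with h2 | h2
    · exfalso
      apply hA1
      rw [eq_bot_iff]
      intro a ha
      have h3 : (⟨a, hAL ha⟩ : L') ∈ K.subgroupOf L' := hAK ha
      rw [h2, mem_bot] at h3
      exact mem_bot.2 (congrArg Subtype.val h3)
    · rw [subgroupOf_eq_top] at h2
      have h3 : L' = K := Subgroup.eq_of_le_of_card_ge h2 (by rw [hK, card_map_conj])
      rw [h3]
      exact conj_mem_map_conj hx g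
  have hNL : N ≤ L' := by rw [hN]; exact normalClosure_le_normal hAL
  have : L' = N := le_antisymm hL'N hNL
  rw [← this]; exact hL's

end Cfsg.Agent.H301.Data
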