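import Mathlib
import Cfsg.Agent.H301.Split
import Cfsg.Agent.TwoFusion.SylowTypeTransfer
import Cfsg.Agent.TwoFusion.SimpleOddIndex
import Cfsg.Agent.Classification.DihStructure
import Cfsg.Agent.S0205
import Cfsg.Agent.S0507
import Cfsg.Agent.S0483

/-!
# The factors

`sd_factor`, `dih_factor`: the normal closure of a factor of the Sylow 2-subgroup.
-/

set_option autoImplicit false
set_option linter.unusedSectionVars false
set_option linter.unusedVariables false

namespace Cfsg.Agent.H301.Data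

open Subgroup
open Cfsg.Agent.Lib
open Cfsg.Agent.H301.Cop
open scoped commutatorElement

universe u

variable {G : Type u} [Group G] [Finite G]

/-- **The semidihedral factor.** -/
theorem sd_factor (P : Sylow 2 G) {A N : Subgroup G} (hN : N = normalClosure (A : Set G))
    (hPN : (P : Subgroup G) ⊓ N = A) (hSD : Cfsg.IsQuasiDihedral A) (hno : ∀ H : Subgroup N, H.index ≠ 2)
    (hcore : Cfsg.oddCore N = ⊥) :
    Cfsg.IsM11 ↥N ∨
      (∃ (F : Type) (_ : Field F) (_ : Fintype F), Fintype.card F % 4 = 3 ∧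
        Nonempty (↥N ≃* Matrix.ProjectiveSpecialLinearGroup (Fin 3) F)) ∨
      (∃ (F : Type) (_ : Field F) (_ : Fintype F) (q : ℕ), Fintype.card F = q ^ 2 ∧ q % 4 = 1 ∧
        Nonempty (↥N ≃* Cfsg.PSU 3 F q)) := by
  have hNn : N.Normal := by rw [hN]; exact normalClosure_normal
  have hAN : A ≤ N := by rw [← hPN]; exact inf_le_right
  have hA2 : IsPGroup 2 A := P.isPGroup'.to_le (by rw [← hPN]; exact inf_le_left)
  obtain ⟨S, hS⟩ := sylow_normalClosure P hNn hPN
  have hSq : Cfsg.IsQuasiDihedral (S : Subgroup N) := by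
    rw [hS]
    exact TwoFusion.SylowTypeTransfer.isQuasiDihedral_of_mulEquiv (subgroupOfEquivOfLe hAN).symm hSD
  obtain ⟨L, hL, hLi, hLs, -⟩ := TwoFusion.SimpleOddIndex.exists_simple_of_core_free S (Or.inl hSq) hno hcore
  have hA1 : A ≠ ⊥ := by
    obtain ⟨C, z, hF⟩ := full_of_quasiDihedral hSD
    rintro rfl
    exact hF.z1 (mem_bot.1 hF.zR)
  have hsim : IsSimpleGroup N := simple_of_odd hN hA2 hA1 hL hLi hLs
  rcases Cfsg.Agent.S0507.result S hSq with h | h | h
  · exact Or.inr (Or.inl h)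
  · exact Or.inr (Or.inr h)
  · exact Or.inl h

/-- **The dihedral factor**, of order at least 8. -/
theorem dih_factor (P : Sylow 2 G) {A N : Subgroup G} (hN : N = normalClosure (A : Set G))
    (hPN : (P : Subgroup G) ⊓ N = A) {m : ℕ} (hm : 3 ≤ m) (e : Nonempty (A ≃* DihedralGroup m))
    (hno : ∀ H : Subgroup N, H.index ≠ 2) (hcore : Cfsg.oddCore N = ⊥) :
    Nonempty (↥N ≃* ↥(alternatingGroup (Fin 7))) ∨
        (∃ (F : Type) (_ : Field F) (_ : Fintype F), Odd (Fintype.card F) ∧ 5 ≤ Fintype.card F ∧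
          Nonempty (↥N ≃* Matrix.ProjectiveSpecialLinearGroup (Fin 2) F)) := by
  have : Fact (Nat.Prime 2) := ⟨Nat.prime_two⟩
  have hNn : N.Normal := by rw [hN]; exact normalClosure_normal
  have hAN : A ≤ N := by rw [← hPN]; exact inf_le_right
  have hA2 : IsPGroup 2 A := P.isPGroup'.to_le (by rw [← hPN]; exact inf_le_left)
  obtain ⟨S, hS⟩ := sylow_normalClosure P hNn hPN
  obtain ⟨e⟩ := e
  have e' : (S : Subgroup N) ≃* DihedralGroup m := by
    rw [hS]; exact (subgroupOfEquivOfLe hAN).trans e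
  have hcardA : Nat.card A = 2 * m := by rw [Nat.card_congr e.toEquiv, DihedralGroup.nat_card]
  have hA1 : A ≠ ⊥ := by
    rintro rfl
    rw [card_bot] at hcardA
    omega
  have hsub := Classification.DihedralCentral.subDihedral_of_sylow S m e'
  have hFT : Classification.DihReduction.OddOrder.{u} := fun H _ _ h => Cfsg.Agent.S0205.result h
  obtain ⟨k, hk⟩ := IsPGroup.iff_card.1 hA2
  have hk3 : 3 ≤ k := by
    by_contra h
    have h1 : k ≤ 2 := by omega
    have h2 : 2 ^ k ≤ 2 ^ 2 := Nat.pow_le_pow_right (by norm_num) h1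
    rw [hk] at hcardA
    omega
  have hdvd : 8 ∣ Nat.card N := by
    have h1 : Nat.card A ∣ Nat.card N := card_dvd_of_le hAN
    rw [hk] at h1
    exact (pow_dvd_pow 2 hk3).trans h1
  rcases Classification.DihStructure.structure_of_core_free hFT hsub hcore with h | ⟨V, hV, hV4, -, hi⟩ |
    ⟨L, hL, hLs, -, hL4, -⟩
  · exfalso
    obtain ⟨n, hn⟩ := IsPGroup.iff_card.1 h
    obtain ⟨l, rfl⟩ : ∃ l, n = l + 1 := by
      rcases n with _ | l
      · rw [hn] at hdvd; norm_num at hdvd
      · exact ⟨l, rfl⟩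
    obtain ⟨K, hK⟩ := Sylow.exists_subgroup_card_pow_prime (G := N) 2 (n := l)
      (by rw [hn]; exact pow_dvd_pow 2 (by omega))
    apply hno K
    have h3 := K.card_mul_index
    rw [hK, hn, pow_succ] at h3
    exact Nat.eq_of_mul_eq_mul_left (by positivity) h3
  · exfalso
    have h4 : Nat.card V = 4 := hV4.card_four
    have h5 := V.card_mul_index
    rw [h4] at h5
    rcases hi with hi | hi
    · rw [hi] at h5; omega
    · have : Fact (Nat.Prime 3) := ⟨by norm_num⟩
      have h6 : Nat.card (N ⧸ V) = 6 := hi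
      obtain ⟨K, hK⟩ := Sylow.exists_subgroup_card_pow_prime (G := N ⧸ V) 3 (n := 1)
        (by rw [h6]; norm_num)
      apply hno (K.comap (QuotientGroup.mk' V))
      rw [index_comap_of_surjective _ (QuotientGroup.mk'_surjective V)]
      have h7 := K.card_mul_index
      rw [hK, h6] at h7
      omega
  · have hLi : Odd L.index := by
      by_contra hev
      rw [Nat.not_odd_iff_even, even_iff_two_dvd] at hev
      obtain ⟨Q⟩ := (inferInstance : Nonempty (Sylow 2 (N ⧸ L)))
      have hQc : IsCyclic (Q : Subgroup (N ⧸ L)) := by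
        obtain ⟨n, hn⟩ := IsPGroup.iff_card.1 Q.isPGroup'
        have hn1 : n ≤ 1 := by
          by_contra h
          apply hL4
          have h8 : Nat.card (Q : Subgroup (N ⧸ L)) ∣ Nat.card (N ⧸ L) := card_subgroup_dvd_card _
          rw [hn] at h8
          exact (pow_dvd_pow 2 (show 2 ≤ n by omega)).trans h8
        have hn2 : n = 0 ∨ n = 1 := by omega
        rcases hn2 with rfl | rfl
        · have : Subsingleton (Q : Subgroup (N ⧸ L)) := by
            rw [pow_zero] at hn
            exact (Nat.card_eq_one_iff_unique.1 hn).1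
          exact isCyclic_of_subsingleton
        · exact isCyclic_of_prime_card (p := 2) (by rw [hn, pow_one])
      obtain ⟨K, hK⟩ := TwoFusion.SimpleOddIndex.exists_index_two_of_cyclic Q hQc hev
      apply hno (K.comap (QuotientGroup.mk' L))
      rw [index_comap_of_surjective _ (QuotientGroup.mk'_surjective L)]
      exact hK
    have hsim : IsSimpleGroup N := simple_of_odd hN hA2 hA1 hL hLi hLs
    have hperf : Group.IsPerfect N := by
      refine ⟨?_⟩
      rcases (inferInstance : (commutator N).Normal).eq_bot_or_eq_top with h1 | h1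
      · exfalso
        obtain ⟨C, z, hF, -⟩ := full_of_dihedral hA2 hm ⟨e⟩
        obtain ⟨i, hi, hii⟩ := hF.sqrt
        obtain ⟨w, hw, hwC⟩ := hF.w0
        apply hwC
        refine hF.mem_of_commute_sqrt hi hii hw ?_
        have h2 : ⁅(⟨w, hAN hw⟩ : N), ⟨i, hAN (hF.le hi)⟩⁆ ∈ commutator N :=
          commutator_mem_commutator (mem_top _) (mem_top _)
        rw [h1, mem_bot, commutatorElement_eq_one_iff_mul_comm] at h2
        exact congrArg Subtype.val h2
      · exact h1
    have eN : (↥N ⧸ Cfsg.oddCore ↥N) ≃* ↥N :=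
      (QuotientGroup.quotientMulEquivOfEq hcore).trans QuotientGroup.quotientBot
    rcases Cfsg.Agent.S0483.result S m (by omega) ⟨e'⟩ with ⟨F, i1, i2, h1, h2, hf⟩ | hf
    · right
      obtain ⟨f⟩ := hf
      refine ⟨F, i1, i2, h1, ?_, ⟨eN.symm.trans f⟩⟩
      obtain ⟨j, hj⟩ := h1
      omega
    · obtain ⟨f⟩ := hf
      exact Or.inl ⟨eN.symm.trans f⟩

/-- the simple groups `PSL(2, q)`, `A₇` have no subgroup of index two, etc. -/
theorem noInd (h2 : ∀ H : Subgroup G, H.index ≠ 2) : ∀ N : Subgroup G, N.Normal → N.index ≠ 2 := fun N _ => h2 N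

/-- **Two full factors.** -/
theorem main (h2 : ∀ H : Subgroup G, H.index ≠ 2) (hO : Cfsg.oddCore G = ⊥) (hZ : center G = ⊥)
    {P : Sylow 2 G} {M C M' C' : Subgroup G} {z z' : G} (h : PD (P : Subgroup G) M C z M' C' z') :
    ∃ A B : Subgroup G, Spl (P : Subgroup G) A B ∧ Nonempty (A ≃* M) ∧ Nonempty (B ≃* M') := by
  obtain ⟨A, B, hPF⟩ := product_fusion h (noInd h2) (exists_moving h hO hZ) (exists_moving h.symm hO hZ)
  exact ⟨A, B, split hO hZ (noInd h2) P hPF.prod hPF.clA hPF.clB (fun g hg ho => odd_P h hg ho), hPF.isoA, hPF.isoB⟩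

end Cfsg.Agent.H301.Data
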