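import Mathlib
import Cfsg.Agent.H301.Factors

/-!
# From product fusion to a direct product, in general

`split0`: if `O(G) = 1` and the Sylow 2-subgroup `P = A × B` is the product of two strongly closed subgroups, the
normal closures of `A` and `B` form a direct product of odd index.
`no_index_two'`: if moreover `G` has no normal subgroup of index two and the elements of odd order of `N_G(P)`
centralise `A`, the normal closure of `A` has no subgroup of index two.
`four_factor`: the normal closure of a four-group.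
-/

set_option autoImplicit false
set_option linter.unusedSectionVars false
set_option linter.unusedVariables false

namespace Cfsg.Agent.H301.Data

open Subgroup
open Cfsg.Agent.Lib.GoldschmidtFusion
open Cfsg.Agent.Lib
open Cfsg.Agent.H301.Cop
open scoped commutatorElement

universe u

variable {G : Type u} [Group G] [Finite G]

/-- `P ∩ N₁ = A` -/
theorem inf_closure (P : Sylow 2 G) {A B : Subgroup G} (prod : Cfsg.IsInternalDirectProduct A B (P : Subgroup G))
    (clA : Cfsg.IsStronglyClosed A (P : Subgroup G))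
    (hcomm : ∀ a ∈ normalClosure (A : Set G), ∀ b ∈ normalClosure (B : Set G), a * b = b * a) :
    (P : Subgroup G) ⊓ normalClosure (A : Set G) = A := by
  have : Fact (Nat.Prime 2) := ⟨Nat.prime_two⟩
  set N := normalClosure (A : Set G) with hN
  have hNn : N.Normal := normalClosure_normal
  have hA : A ≤ N := le_normalClosure
  have hB : B ≤ normalClosure (B : Set G) := le_normalClosure
  obtain ⟨S, hS⟩ := sylow_normalClosure P (A := (P : Subgroup G) ⊓ N) hNn rfl
  have hmemS : ∀ x : N, x ∈ (S : Subgroup N) ↔ (x : G) ∈ (P : Subgroup G) := by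
    intro x
    rw [hS, mem_subgroupOf, mem_inf]
    exact ⟨fun h => h.1, fun h => ⟨h, x.2⟩⟩
  obtain ⟨K, hK, hKi, hKS⟩ := TwoFusion.TransferIndex.exists_normal_of_fusion S (A.subgroupOf N)
    (by
      intro x hx
      rw [hmemS]
      exact prod.1 hx)
    (by
      intro s hs g hg
      have hs := (hmemS s).1 hs
      have hg := (hmemS _).1 hg
      obtain ⟨a, ha, b, hb, e⟩ := EssProd.exists_mul prod hs
      have hc : (g : G) * b = b * g := hcomm g g.2 b (hB hb)
      have e1 : ((g * s * g⁻¹ : N) : G) = (g * a * (g : G)⁻¹) * b := by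
        change (g : G) * s * (g : G)⁻¹ = _
        rw [e]
        calc (g : G) * (a * b) * (g : G)⁻¹ = (g * a * (g : G)⁻¹) * (g * b * (g : G)⁻¹) := by group
          _ = _ := by rw [hc, mul_inv_cancel_right]
      have h1 : (g : G) * a * (g : G)⁻¹ ∈ A := by
        apply clA.2 a ha
        rw [e1] at hg
        exact ((P : Subgroup G).mul_mem_cancel_right (prod.2.1 hb)).1 hg
      rw [mem_subgroupOf]
      change (s : G)⁻¹ * ((g * s * g⁻¹ : N) : G) ∈ A
      rw [e1, e]
      have h2 : a⁻¹ * (g * a * (g : G)⁻¹) ∈ A := mul_mem (inv_mem ha) h1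
      have h3 := prod.2.2.1 _ h2 b hb
      have h4 : (a * b)⁻¹ * (g * a * (g : G)⁻¹ * b) = b⁻¹ * ((a⁻¹ * (g * a * (g : G)⁻¹)) * b) := by group
      rw [h4, h3, inv_mul_cancel_left]
      exact h2)
  have hAK : A.subgroupOf N ≤ K := by rw [← hKS]; exact inf_le_left
  -- all conjugates of `A` lie in `K`
  have hconj : ∀ a ∈ A, ∀ x : G, ∀ hx : x * a * x⁻¹ ∈ N, (⟨x * a * x⁻¹, hx⟩ : N) ∈ K := by
    intro a ha x hx
    obtain ⟨k, hk⟩ := P.isPGroup' ⟨a, prod.1 ha⟩
    have hak : a ^ 2 ^ k = 1 := by simpa using congrArg Subtype.val hk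
    have hp : IsPGroup 2 (zpowers (x * a * x⁻¹)) := by
      have h1 : (x * a * x⁻¹) ^ 2 ^ k = 1 := by rw [conj_pow, hak]; group
      obtain ⟨j, -, hj⟩ := (Nat.dvd_prime_pow Nat.prime_two).1 (orderOf_dvd_of_pow_eq_one h1)
      exact IsPGroup.of_card (n := j) (by rw [Nat.card_zpowers, hj])
    obtain ⟨y, hy, hle⟩ := exists_conj_le_in (p := 2) (N := N) (R := (P : Subgroup G) ⊓ N)
      (P.isPGroup'.to_le inf_le_left) (by
        have := TwoFusion.TransferIndex.not_dvd_relIndex_inf P N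
        rwa [inf_comm] at this) (zpowers_le.2 hx) hp
    have h2 : y * (x * a * x⁻¹) * y⁻¹ ∈ (P : Subgroup G) ⊓ N := hle ⟨x * a * x⁻¹, mem_zpowers _, rfl⟩
    have h3 : y * (x * a * x⁻¹) * y⁻¹ ∈ A := by
      have e : y * (x * a * x⁻¹) * y⁻¹ = (y * x) * a * (y * x)⁻¹ := by group
      rw [e] at h2 ⊢
      exact clA.2 a ha _ h2.1
    have h4 : (⟨y, hy⟩ * ⟨x * a * x⁻¹, hx⟩ * ⟨y, hy⟩⁻¹ : N) ∈ K := hAK (by rw [mem_subgroupOf]; exact h3)
    have h5 := hK.conj_mem _ h4 (⟨y, hy⟩⁻¹ : N)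
    have e : (⟨y, hy⟩⁻¹ : N) * (⟨y, hy⟩ * ⟨x * a * x⁻¹, hx⟩ * ⟨y, hy⟩⁻¹ : N) * (⟨y, hy⟩⁻¹ : N)⁻¹ =
        ⟨x * a * x⁻¹, hx⟩ := by group
    rwa [e] at h5
  have hNK : N ≤ K.map N.subtype := by
    refine (closure_le _).2 ?_
    intro t ht
    obtain ⟨a, ha, hat⟩ := Group.mem_conjugatesOfSet_iff.1 ht
    obtain ⟨x, hx⟩ := isConj_iff.1 hat
    have hxN : x * a * x⁻¹ ∈ N := hNn.conj_mem a (hA ha) x
    refine ⟨⟨x * a * x⁻¹, hxN⟩, hconj a ha x hxN, ?_⟩
    exact hx
  apply le_antisymm _ (le_inf prod.1 hA)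
  rintro x ⟨hx, hx'⟩
  obtain ⟨y, hy, e⟩ := hNK hx'
  have hxK : (⟨x, hx'⟩ : N) ∈ K := by
    have : y = ⟨x, hx'⟩ := Subtype.ext e
    rwa [← this]
  have h1 : (⟨x, hx'⟩ : N) ∈ K ⊓ (S : Subgroup N) := ⟨hxK, (hmemS _).2 hx⟩
  rw [hKS, mem_subgroupOf] at h1
  exact h1

/-- the data of `split0` -/
structure Spl0 {G : Type*} [Group G] (P A B : Subgroup G) : Prop where
  prod : Cfsg.IsInternalDirectProduct (normalClosure (A : Set G)) (normalClosure (B : Set G))
    (normalClosure (A : Set G) ⊔ normalClosure (B : Set G))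
  odd : Odd (normalClosure (A : Set G) ⊔ normalClosure (B : Set G)).index
  infA : P ⊓ normalClosure (A : Set G) = A
  infB : P ⊓ normalClosure (B : Set G) = B
  coreA : Cfsg.oddCore (normalClosure (A : Set G)) = ⊥
  coreB : Cfsg.oddCore (normalClosure (B : Set G)) = ⊥

theorem Spl0.symm {P A B : Subgroup G} (h : Spl0 P A B) : Spl0 P B A where
  prod := by rw [sup_comm]; exact TwoFusion.ProdFromComm.prod_symm h.prod
  odd := by rw [sup_comm]; exact h.odd
  infA := h.infB
  infB := h.infA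
  coreA := h.coreB
  coreB := h.coreA

/-- **The splitting.** -/
theorem split0 (hO : Cfsg.oddCore G = ⊥) (P : Sylow 2 G) {A B : Subgroup G}
    (prod : Cfsg.IsInternalDirectProduct A B (P : Subgroup G))
    (clA : Cfsg.IsStronglyClosed A (P : Subgroup G)) (clB : Cfsg.IsStronglyClosed B (P : Subgroup G)) :
    Spl0 (P : Subgroup G) A B := by
  have : Fact (Nat.Prime 2) := ⟨Nat.prime_two⟩
  have hc : ⁅normalClosure (A : Set G), normalClosure (B : Set G)⁆ = ⊥ := by
    have := TwoFusion.ClosedCommutator.commutator_le P A B prod.2.2.2.1 clA clB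
    rw [hO, le_bot_iff] at this
    exact this
  have hcomm := TwoFusion.ProdFromComm.comm_of_commutator_eq_bot hc
  have infA := inf_closure P prod clA hcomm
  have infB := inf_closure P (TwoFusion.ProdFromComm.prod_symm prod) clB (fun a ha b hb => (hcomm b hb a ha).symm)
  set N₁ := normalClosure (A : Set G) with hN₁
  set N₂ := normalClosure (B : Set G) with hN₂
  have hN₁n : N₁.Normal := normalClosure_normal
  have hN₂n : N₂.Normal := normalClosure_normal
  have hA : A ≤ N₁ := le_normalClosure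
  have hB : B ≤ N₂ := le_normalClosure
  have hPle : (P : Subgroup G) ≤ N₁ ⊔ N₂ := by
    intro x hx
    obtain ⟨a, ha, b, hb, rfl⟩ := EssProd.exists_mul prod hx
    exact mul_mem (mem_sup_left (hA ha)) (mem_sup_right (hB hb))
  have hbot : N₁ ⊓ N₂ = ⊥ := by
    have hn : (N₁ ⊓ N₂).Normal := inferInstance
    have h1 : (N₁ ⊓ N₂) ⊓ (P : Subgroup G) = ⊥ := by
      rw [eq_bot_iff]
      rintro x ⟨⟨hx1, hx2⟩, hxP⟩
      have h2 : x ∈ A := by rw [← infA]; exact ⟨hxP, hx1⟩
      have h3 : x ∈ B := by rw [← infB]; exact ⟨hxP, hx2⟩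
      have h4 : x ∈ A ⊓ B := ⟨h2, h3⟩
      rwa [prod.2.2.2.1] at h4
    have h2 := TwoFusion.TransferIndex.not_dvd_relIndex_inf P (N₁ ⊓ N₂)
    rw [h1, relIndex_bot_left] at h2
    have h3 : N₁ ⊓ N₂ ≤ Cfsg.oddCore G := Cores.le_pPrimeCore hn
      (Nat.coprime_two_right.2 (by rw [← Nat.not_even_iff_odd, even_iff_two_dvd]; exact h2))
    rwa [hO, le_bot_iff] at h3
  have hZbot : ∀ x ∈ N₁, x ∈ N₂ → x = 1 := by
    intro x hx hx'
    have h1 : x ∈ N₁ ⊓ N₂ := ⟨hx, hx'⟩
    rw [hbot, mem_bot] at h1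
    exact h1
  refine
    { prod := ip_of le_sup_left le_sup_right hcomm hZbot ?_
      odd := ?_
      infA := infA
      infB := infB
      coreA := core_bot hO hN₁n
      coreB := core_bot hO hN₂n }
  · intro x hx
    rw [← SetLike.mem_coe, mul_normal] at hx
    obtain ⟨n₁, hn₁, n₂, hn₂, e⟩ := hx
    exact ⟨n₁, hn₁, n₂, hn₂, e.symm⟩
  · have h1 : (N₁ ⊔ N₂).index ∣ (P : Subgroup G).index := index_dvd_of_le hPle
    refine Odd.of_dvd_nat ?_ h1
    rw [← Nat.not_even_iff_odd, even_iff_two_dvd]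
    exact P.not_dvd_index

end Cfsg.Agent.H301.Data
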