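import Mathlib
import Cfsg.Agent.H301.SplitTwo
import Cfsg.Agent.H301.FourN

/-!
# The factors, when one factor of the Sylow 2-subgroup is a four-group

`no_index_two'`: no subgroup of index two.  `four_factor`: the normal closure of a four-group.
-/

set_option autoImplicit false
set_option linter.unusedSectionVars false
set_option linter.unusedVariables false

namespace Cfsg.Agent.H301.Data

open Subgroup
open Cfsg.Agent.Lib.GoldschmidtFusion
open Cfsg.Agent.Lib
open Cfsg.Agent.H301.Cop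
open scoped commutatorElement

universe u

variable {G : Type u} [Group G] [Finite G]

/-- no subgroup of index two in the first factor -/
theorem no_index_two' (h2 : ∀ N : Subgroup G, N.Normal → N.index ≠ 2) (P : Sylow 2 G) {A B : Subgroup G}
    (prod : Cfsg.IsInternalDirectProduct A B (P : Subgroup G))
    (hcen : ∀ g ∈ normalizer ((P : Subgroup G) : Set G), Odd (orderOf g) → ∀ x ∈ A, Commute g x)
    (clB : Cfsg.IsStronglyClosed B (P : Subgroup G))
    {N₁ N₂ : Subgroup G} (hN₁ : N₁.Normal) (hN₂ : N₂.Normal) (hA : A ≤ N₁) (hB : B ≤ N₂)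
    (hcomm : ∀ a ∈ N₁, ∀ b ∈ N₂, a * b = b * a) (hinf : ∀ x ∈ N₁, x ∈ N₂ → x = 1)
    (H : Subgroup N₁) : H.index ≠ 2 := by
  intro hH
  have : Fact (Nat.Prime 2) := ⟨Nat.prime_two⟩
  have hHn : H.Normal := Subgroup.normal_of_index_eq_two hH
  set H' : Subgroup G := H.map N₁.subtype with hH'
  have hmemH' : ∀ {x : G} (hx : x ∈ N₁), x ∈ H' ↔ (⟨x, hx⟩ : N₁) ∈ H := by
    intro x hx
    rw [hH', Subgroup.mem_map]
    constructor
    · rintro ⟨y, hy, e⟩
      have : y = ⟨x, hx⟩ := Subtype.ext e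
      rwa [← this]
    · intro h; exact ⟨_, h, rfl⟩
  have hAP : A ≤ P := prod.1
  have hBP : B ≤ P := prod.2.1
  have dec : ∀ {x}, x ∈ (P : Subgroup G) → ∃ a ∈ A, ∃ b ∈ B, x = a * b := fun hx => EssProd.exists_mul prod hx
  -- `A` is not contained in `H'`
  have hPN : (P : Subgroup G) ⊓ N₁ = A := by
    apply le_antisymm
    · rintro x ⟨hx, hx'⟩
      obtain ⟨a, ha, b, hb, rfl⟩ := dec hx
      have h1 : b ∈ N₁ := (N₁.mul_mem_cancel_left (hA ha)).1 hx'
      rw [hinf b h1 (hB hb), mul_one]; exact ha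
    · exact le_inf hAP hA
  obtain ⟨a0, ha0, ha0H⟩ : ∃ a ∈ A, a ∉ H' := by
    by_contra hcon
    push Not at hcon
    have h1 : A.subgroupOf N₁ ≤ H := by
      intro x hx
      exact (hmemH' x.2).1 (hcon x hx)
    have h3 : ¬ 2 ∣ (A.subgroupOf N₁).index := by
      have h4 := TwoFusion.TransferIndex.not_dvd_relIndex_inf P N₁
      rw [inf_comm, hPN] at h4
      exact h4
    apply h3
    rw [← hH]
    exact index_dvd_of_le h1
  have cAB : ∀ a ∈ H' ⊓ A, ∀ b ∈ B, a * b = b * a := fun a ha b hb => prod.2.2.1 a ha.2 b hb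
  set K : Subgroup G := mulS (H' ⊓ A) B cAB with hK
  have hKP : K ≤ P := by
    rintro x ⟨a, ha, b, hb, rfl⟩
    exact mul_mem (hAP ha.2) (hBP hb)
  have hKmem : ∀ a ∈ A, ∀ b ∈ B, a * b ∈ K ↔ a ∈ H' := by
    intro a ha b hb
    constructor
    · rintro ⟨a', ha', b', hb', e⟩
      rw [(EssProd.mul_inj prod ha ha'.2 hb hb' e).1]; exact ha'.1
    · intro h; exact ⟨a, ⟨h, ha⟩, b, hb, rfl⟩
  have hKi : K.relIndex (P : Subgroup G) = 2 := by
    rw [relIndex, index_eq_two_iff]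
    refine ⟨⟨a0, hAP ha0⟩, ?_⟩
    rintro ⟨x, hx⟩
    obtain ⟨a, ha, b, hb, rfl⟩ := dec hx
    have e1 : a * b * a0 = (a * a0) * b := by
      have := prod.2.2.1 a0 ha0 b hb
      rw [mul_assoc, ← this]; group
    have e2 : ((⟨a * b, hx⟩ : (P : Subgroup G)) * ⟨a0, hAP ha0⟩ ∈ K.subgroupOf (P : Subgroup G)) ↔ a * a0 ∈ H' := by
      rw [mem_subgroupOf]
      change a * b * a0 ∈ K ↔ _
      rw [e1, hKmem _ (mul_mem ha ha0) _ hb]
    have e3 : ((⟨a * b, hx⟩ : (P : Subgroup G)) ∈ K.subgroupOf (P : Subgroup G)) ↔ a ∈ H' := by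
      rw [mem_subgroupOf]
      exact hKmem a ha b hb
    have e4 : a * a0 ∈ H' ↔ (a ∈ H' ↔ a0 ∈ H') := by
      rw [hmemH' (mul_mem (hA ha) (hA ha0)), hmemH' (hA ha), hmemH' (hA ha0)]
      exact mul_mem_iff_of_index_two hH (a := ⟨a, hA ha⟩) (b := ⟨a0, hA ha0⟩)
    rw [xor_def, e2, e3, e4]
    by_cases h : a ∈ H'
    · right; exact ⟨h, fun h' => ha0H (h'.1 h)⟩
    · left; exact ⟨iff_of_false h ha0H, h⟩
  -- Frattini
  set N : Subgroup G := N₁ ⊔ N₂ with hN
  have hNn : N.Normal := by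
    have := hN₁; have := hN₂
    exact Subgroup.sup_normal N₁ N₂
  have hPNle : (P : Subgroup G) ≤ N := by
    intro x hx
    obtain ⟨a, ha, b, hb, rfl⟩ := dec hx
    exact mul_mem (mem_sup_left (hA ha)) (mem_sup_right (hB hb))
  have hFr : ∀ g : G, ∃ n ∈ N, ∃ c ∈ normalizer ((P : Subgroup G) : Set G), (∀ a ∈ A, Commute c a) ∧ g = n * c := by
    intro g
    have hAP' : (P : Subgroup G) ≤ normalizer (A : Set G) := by
      intro p hp
      apply mem_normalizer_of
      intro x hx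
      obtain ⟨a, ha, b, hb, rfl⟩ := dec hp
      have c1 := prod.2.2.1 x hx b hb
      have e : a * b * x * (a * b)⁻¹ = a * (b * x) * b⁻¹ * a⁻¹ := by group
      rw [e, ← c1]
      have e' : a * (x * b) * b⁻¹ * a⁻¹ = a * x * a⁻¹ := by group
      rw [e']
      exact mul_mem (mul_mem ha hx) (inv_mem ha)
    have hPC : (P : Subgroup G) ≤
        normalizer ((centralizer (A : Set G) ⊓ normalizer ((P : Subgroup G) : Set G) : Subgroup G) : Set G) := by
      intro p hp
      apply mem_normalizer_of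
      rintro x ⟨hx, hx'⟩
      exact mem_inf.2 ⟨mem_normalizer_conj (normalizer_centralizer_le hAP' hp) hx,
        mul_mem (mul_mem (le_normalizer hp) hx') (inv_mem (le_normalizer hp))⟩
    have hNP : normalizer ((P : Subgroup G) : Set G) ≤
        (P : Subgroup G) ⊔ (centralizer (A : Set G) ⊓ normalizer ((P : Subgroup G) : Set G)) := by
      apply normalizer_le (P := P) (sylow_not_dvd P)
      · intro p hp _; exact mem_sup_left hp
      · intro g hg ho
        exact mem_sup_right (mem_inf.2 ⟨mem_cent.2 fun x hx => (hcen g hg ho x hx).eq, hg⟩)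
    have h1 : normalizer ((P : Subgroup G) : Set G) ⊔ N = ⊤ := Sylow.normalizer_sup_eq_top' P hPNle
    have h2 : g ∈ N ⊔ normalizer ((P : Subgroup G) : Set G) := by rw [sup_comm, h1]; trivial
    rw [← SetLike.mem_coe, normal_mul] at h2
    obtain ⟨n, hn, m, hm, rfl⟩ := h2
    have h3 := hNP hm
    rw [← SetLike.mem_coe, coe_mul_of_left_le_normalizer_right _ _ hPC] at h3
    obtain ⟨p, hp, c, hc, rfl⟩ := h3
    exact ⟨n * p, mul_mem hn (hPNle hp), c, hc.2, fun a ha => mem_cent.1 hc.1 a ha, by group⟩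
  obtain ⟨L, hL, hLi⟩ := exists_index_two P K hKP hKi (by
    intro x hx g hg
    obtain ⟨n, hn, c, hcN, hcA, rfl⟩ := hFr g
    obtain ⟨a, ha, b₀, hb₀, rfl⟩ := dec hx
    obtain ⟨b, hb, eb⟩ : ∃ b ∈ B, c * b₀ * c⁻¹ = b :=
      ⟨_, clB.2 b₀ hb₀ c (mem_normalizer_conj hcN (hBP hb₀)), rfl⟩
    have e1 : n * c * (a * b₀) * (n * c)⁻¹ = n * (a * b) * n⁻¹ := by
      have e0 : n * c * (a * b₀) * (n * c)⁻¹ = n * ((c * a * c⁻¹) * (c * b₀ * c⁻¹)) * n⁻¹ := by group
      rw [e0, conj_eq_iff_commute.2 (hcA a ha), eb]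
    rw [e1] at hg ⊢
    rw [← SetLike.mem_coe, hN, mul_normal] at hn
    obtain ⟨n₁, hn₁, n₂, hn₂, rfl⟩ := hn
    have hn₁ : n₁ ∈ N₁ := hn₁
    have hn₂ : n₂ ∈ N₂ := hn₂
    have h1 : n₁ * a * n₁⁻¹ ∈ N₁ := hN₁.conj_mem a (hA ha) n₁
    have h2 : n₂ * b * n₂⁻¹ ∈ N₂ := hN₂.conj_mem b (hB hb) n₂
    have e2 : n₁ * n₂ * (a * b) * (n₁ * n₂)⁻¹ = (n₁ * a * n₁⁻¹) * (n₂ * b * n₂⁻¹) := by
      have c1 := hcomm a (hA ha) n₂ hn₂
      have c2 := hcomm _ (inv_mem hn₁) _ h2
      calc n₁ * n₂ * (a * b) * (n₁ * n₂)⁻¹ = n₁ * (n₂ * a) * b * n₂⁻¹ * n₁⁻¹ := by group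
        _ = n₁ * a * ((n₂ * b * n₂⁻¹) * n₁⁻¹) := by rw [← c1]; group
        _ = _ := by rw [← c2]; group
    rw [e2] at hg ⊢
    obtain ⟨a', ha', b', hb', e3⟩ := dec hg
    have h3 : n₁ * a * n₁⁻¹ = a' := by
      have h4 : a'⁻¹ * (n₁ * a * n₁⁻¹) = b' * (n₂ * b * n₂⁻¹)⁻¹ := by
        calc a'⁻¹ * (n₁ * a * n₁⁻¹) = a'⁻¹ * ((n₁ * a * n₁⁻¹) * (n₂ * b * n₂⁻¹)) * (n₂ * b * n₂⁻¹)⁻¹ := by group
          _ = _ := by rw [e3]; group
      have h5 := hinf _ (mul_mem (inv_mem (hA ha')) h1)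
        (by rw [h4]; exact mul_mem (hB hb') (inv_mem h2))
      exact (inv_mul_eq_one.1 h5).symm
    rw [h3] at e3
    have h6 : n₂ * b * n₂⁻¹ = b' := mul_left_cancel e3
    rw [h3, h6]
    have e4 : a' * b' * (a * b₀)⁻¹ = (a' * a⁻¹) * (b' * b₀⁻¹) := by
      have c1 := prod.2.2.1 a⁻¹ (inv_mem ha) _ (mul_mem hb' (inv_mem hb₀))
      calc a' * b' * (a * b₀)⁻¹ = a' * ((b' * b₀⁻¹) * a⁻¹) := by group
        _ = _ := by rw [← c1]; group
    rw [e4, hKmem _ (mul_mem ha' (inv_mem ha)) _ (mul_mem hb' (inv_mem hb₀)),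
      hmemH' (mul_mem (hA ha') (inv_mem (hA ha)))]
    have h7 : (⟨a', hA ha'⟩ : N₁) = ⟨n₁, hn₁⟩ * ⟨a, hA ha⟩ * ⟨n₁, hn₁⟩⁻¹ := Subtype.ext h3.symm
    have h8 : (⟨a' * a⁻¹, mul_mem (hA ha') (inv_mem (hA ha))⟩ : N₁) =
        (⟨n₁, hn₁⟩ * ⟨a, hA ha⟩ * ⟨n₁, hn₁⟩⁻¹) * ⟨a, hA ha⟩⁻¹ := by
      rw [← h7]; rfl
    rw [h8]
    have h9 := mul_mem_iff_of_index_two hH (a := ⟨n₁, hn₁⟩ * (⟨a, hA ha⟩ : N₁) * ⟨n₁, hn₁⟩⁻¹)
      (b := (⟨a, hA ha⟩ : N₁)⁻¹)
    rw [h9, inv_mem_iff]
    constructor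
    · intro h
      have h10 := hHn.conj_mem _ h (⟨n₁, hn₁⟩⁻¹ : N₁)
      have e5 : (⟨n₁, hn₁⟩⁻¹ : N₁) * (⟨n₁, hn₁⟩ * ⟨a, hA ha⟩ * ⟨n₁, hn₁⟩⁻¹) * (⟨n₁, hn₁⟩⁻¹ : N₁)⁻¹ = ⟨a, hA ha⟩ := by
        group
      rwa [e5] at h10
    · intro h; exact hHn.conj_mem _ h _)
  exact h2 L hL hLi

/-- **The four-group factor.** -/
theorem four_factor (P : Sylow 2 G) {A N : Subgroup G} (hN : N = normalClosure (A : Set G))
    (hPN : (P : Subgroup G) ⊓ N = A) (hA4 : IsKleinFour A) (hcore : Cfsg.oddCore N = ⊥) :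
    IsKleinFour N ∨ Nonempty (↥N ≃* ↥(alternatingGroup (Fin 7))) ∨
        (∃ (F : Type) (_ : Field F) (_ : Fintype F), Odd (Fintype.card F) ∧ 5 ≤ Fintype.card F ∧
          Nonempty (↥N ≃* Matrix.ProjectiveSpecialLinearGroup (Fin 2) F)) := by
  have : Fact (Nat.Prime 2) := ⟨Nat.prime_two⟩
  have hNn : N.Normal := by rw [hN]; exact normalClosure_normal
  have hAN : A ≤ N := by rw [← hPN]; exact inf_le_right
  have hA2 : IsPGroup 2 A := P.isPGroup'.to_le (by rw [← hPN]; exact inf_le_left)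
  obtain ⟨S, hS⟩ := sylow_normalClosure P hNn hPN
  have hA4' := hA4.card_four
  have hfA : Finite A := inferInstance
  obtain ⟨eA⟩ : Nonempty (A ≃* DihedralGroup 2) := IsKleinFour.nonempty_mulEquiv
  have e' : (S : Subgroup N) ≃* DihedralGroup 2 := by
    rw [hS]; exact (subgroupOfEquivOfLe hAN).trans eA
  have hA1 : A ≠ ⊥ := by
    rintro rfl
    rw [card_bot] at hA4'
    omega
  have hSc : Nat.card (S : Subgroup N) = 4 := by
    rw [Nat.card_congr e'.toEquiv, DihedralGroup.nat_card]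
  have hNodd : ¬ 2 ∣ (S : Subgroup N).index := S.not_dvd_index
  have hsub := Classification.DihedralCentral.subDihedral_of_sylow S 2 e'
  have hFT : Classification.DihReduction.OddOrder.{u} := fun H _ _ h => Cfsg.Agent.S0205.result h
  have done : N = A → IsKleinFour N := by rintro rfl; exact hA4
  rcases Classification.DihStructure.structure_of_core_free hFT hsub hcore with h | ⟨V, hV, hV4, -, hi⟩ |
    ⟨L, hL, hLs, -, hL4, T, m, hm, ⟨eT⟩⟩
  · left
    apply done
    have h1 : N ≤ (P : Subgroup G) := IsPGroup.le_sylow_of_normal h P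
    rw [← hPN]
    exact (inf_eq_right.2 h1).symm
  · left
    apply done
    have hVc : Nat.card V = 4 := hV4.card_four
    have hV2 : IsPGroup 2 V := IsPGroup.of_card (n := 2) (by rw [hVc]; norm_num)
    have hVS : V ≤ (S : Subgroup N) := IsPGroup.le_sylow_of_normal hV2 S
    have hVS' : V = (S : Subgroup N) := Subgroup.eq_of_le_of_card_ge hVS (by rw [hVc, hSc])
    have hAn : (A.subgroupOf N).Normal := by rw [← hS, ← hVS']; exact hV
    have hNA : N ≤ normalizer (A : Set G) := (normal_subgroupOf_iff_le_normalizer hAN).1 hAn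
    have hodd : Odd (A.relIndex N) := by
      rw [← Nat.not_even_iff_odd, even_iff_two_dvd, relIndex, ← hS]
      exact hNodd
    have hAn' : A.Normal := by
      refine ⟨fun a ha g => ?_⟩
      obtain ⟨k, hk⟩ := hA2 ⟨a, ha⟩
      have hak : a ^ 2 ^ k = 1 := by simpa using congrArg Subtype.val hk
      refine mem_of_odd_rel hAN hNA hodd (hNn.conj_mem a (hAN ha) g) (k := k) ?_
      rw [conj_pow, hak]; group
    rw [hN]
    exact le_antisymm (normalClosure_le_normal le_rfl) le_normalClosure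
  · right
    have h4L : 4 ∣ Nat.card L := by
      obtain ⟨k, hk⟩ := IsPGroup.iff_card.1 T.isPGroup'
      have h1 : Nat.card (T : Subgroup L) = 2 * m := by rw [Nat.card_congr eT.toEquiv, DihedralGroup.nat_card]
      have hk2 : 2 ≤ k := by
        by_contra h
        have h1' : k ≤ 1 := by omega
        have h2 : 2 ^ k ≤ 2 ^ 1 := Nat.pow_le_pow_right (by norm_num) h1'
        rw [hk] at h1
        omega
      have h2 : Nat.card (T : Subgroup L) ∣ Nat.card L := card_subgroup_dvd_card _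
      rw [hk] at h2
      exact (pow_dvd_pow 2 hk2).trans h2
    have hLi : Odd L.index := by
      rw [← Nat.not_even_iff_odd, even_iff_two_dvd]
      intro h
      apply hNodd
      have h1 := L.card_mul_index
      have h2 := (S : Subgroup N).card_mul_index
      rw [hSc, ← h1] at h2
      obtain ⟨x, hx⟩ := h4L
      obtain ⟨y, hy⟩ := h
      rw [hx, hy] at h2
      refine ⟨x * y, ?_⟩
      have h3 : 4 * (S : Subgroup N).index = 4 * (2 * (x * y)) := by rw [h2]; ring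
      omega
    have hsim : IsSimpleGroup N := simple_of_odd hN hA2 hA1 hL hLi hLs
    have hperf : Group.IsPerfect N := by
      refine ⟨?_⟩
      rcases (inferInstance : (commutator N).Normal).eq_bot_or_eq_top with h1 | h1
      · exfalso
        have hcN : ∀ x y : N, x * y = y * x := by
          intro x y
          have h2 : ⁅x, y⁆ ∈ commutator N := commutator_mem_commutator (mem_top _) (mem_top _)
          rw [h1, mem_bot, commutatorElement_eq_one_iff_mul_comm] at h2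
          exact h2
        have hLc : ∀ x y : L, x * y = y * x := fun x y => Subtype.ext (hcN x y)
        let _ : CommGroup L := { (inferInstance : Group L) with mul_comm := hLc }
        have hp := IsSimpleGroup.prime_card (α := L)
        obtain ⟨x, hx⟩ := h4L
        rw [hx] at hp
        have : (4 : ℕ) = 2 * 2 := by norm_num
        rw [this, mul_assoc] at hp
        rcases (Nat.prime_mul_iff.1 hp) with ⟨-, h3⟩ | ⟨-, h3⟩
        · omega
        · norm_num at h3
      · exact h1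
    have eN : (↥N ⧸ Cfsg.oddCore ↥N) ≃* ↥N :=
      (QuotientGroup.quotientMulEquivOfEq hcore).trans QuotientGroup.quotientBot
    rcases Cfsg.Agent.S0483.result S 2 le_rfl ⟨e'⟩ with ⟨F, i1, i2, h1, h2, hf⟩ | hf
    · right
      obtain ⟨f⟩ := hf
      refine ⟨F, i1, i2, h1, ?_, ⟨eN.symm.trans f⟩⟩
      obtain ⟨j, hj⟩ := h1
      omega
    · obtain ⟨f⟩ := hf
      exact Or.inl ⟨eN.symm.trans f⟩

theorem kleinFour_of_mulEquiv {A B : Type*} [Group A] [Group B] (e : A ≃* B) (h : IsKleinFour B) : IsKleinFour A where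
  card_four := by rw [Nat.card_congr e.toEquiv]; exact h.card_four
  exponent_two := by rw [Monoid.exponent_eq_of_mulEquiv e]; exact h.exponent_two

/-- **A four-group and a full factor.** -/
theorem main_four (h2 : ∀ H : Subgroup G, H.index ≠ 2) (hO : Cfsg.oddCore G = ⊥)
    {P : Sylow 2 G} {A M C : Subgroup G} {z : G} (h : PA (P : Subgroup G) A M C z) :
    ∃ A' B' : Subgroup G, Spl0 (P : Subgroup G) A' B' ∧ Nonempty (A' ≃* A) ∧ Nonempty (B' ≃* M) ∧
      ∀ H : Subgroup (normalClosure (B' : Set G)), H.index ≠ 2 := by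
  obtain ⟨A', B', hPF, hcen⟩ := four_fusion h hO (noInd h2)
  have hS := split0 hO P hPF.prod hPF.clA hPF.clB
  refine ⟨A', B', hS, hPF.isoA, hPF.isoB, ?_⟩
  refine no_index_two' (noInd h2) P (TwoFusion.ProdFromComm.prod_symm hPF.prod) hcen hPF.clA
    (N₁ := normalClosure (B' : Set G)) (N₂ := normalClosure (A' : Set G)) normalClosure_normal normalClosure_normal
    le_normalClosure le_normalClosure (fun a ha b hb => (hS.prod.2.2.1 b hb a ha).symm) ?_
  intro x hx hx'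
  have h1 : x ∈ normalClosure (A' : Set G) ⊓ normalClosure (B' : Set G) := ⟨hx', hx⟩
  rw [hS.prod.2.2.2.1, mem_bot] at h1
  exact h1

end Cfsg.Agent.H301.Data
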